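import Mathlib.Algebra.Order.Field.Basic
import Mathlib.Algebra.Order.Ring.Abs
import Mathlib.Tactic.FieldSimp
import Mathlib.Tactic.LinearCombination
import Mathlib.Tactic.Linarith
import Mathlib.Tactic.NormNum
import Mathlib.Tactic.Positivity
import Mathlib.Tactic.Ring
import Mathlib.Data.Rat.Cast.Order

/-!
# Peterfalvi section 14, `C ≠ 1`: the arithmetic

`budget_forces` shows that the budget of the test character leaves room only for `U = H` and for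
vanishing coefficients on the other blocks; `cover_false` is the contradiction of the cover identity
with the bound for `η₀₁`.
-/

set_option autoImplicit false

namespace Cfsg.Agent.OddOrder.PF14.CTriv

/-- `s ≤ (c + 1) / 2` makes `(m c + s) ^ 2 ≥ s`. -/
theorem sq_ge (m : ℤ) {c s : ℚ} (hc : 7 ≤ c) (hs : 1 ≤ s) (hsc : 2 * s ≤ c + 1) :
    s ≤ ((m : ℚ) * c + s) ^ 2 := by
  have key : ∀ t : ℚ, s ≤ t → s ≤ t ^ 2 := fun t ht => by nlinarith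
  rcases lt_trichotomy m 0 with h | h | h
  · have h1 : (m : ℚ) ≤ -1 := by exact_mod_cast (show m ≤ -1 by omega)
    have h2 : c - s ≤ -((m : ℚ) * c + s) := by nlinarith
    have h3 : ((c - 1) / 2) ^ 2 ≤ (-((m : ℚ) * c + s)) ^ 2 :=
      pow_le_pow_left₀ (by linarith) (by linarith) 2
    rw [neg_sq] at h3
    nlinarith
  · subst h
    simpa using key s le_rfl
  · have h1 : (1 : ℚ) ≤ m := by exact_mod_cast h
    exact key _ (by nlinarith)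

/-- `(c - 1) m (m (c + 1) / s + 2) ≥ 0`. -/
theorem mid_nonneg (m : ℤ) {c s : ℚ} (hs : 1 ≤ s) (hsc : 2 * s ≤ c + 1) :
    0 ≤ (m : ℚ) * ((m : ℚ) * (c + 1) + 2 * s) := by
  rcases lt_trichotomy m 0 with h | h | h
  · have h1 : (m : ℚ) ≤ -1 := by exact_mod_cast (show m ≤ -1 by omega)
    exact mul_nonneg_of_nonpos_of_nonpos (by linarith) (by nlinarith)
  · subst h; simp
  · have h1 : (1 : ℚ) ≤ m := by exact_mod_cast h
    exact mul_nonneg (by linarith) (by nlinarith)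

/-- The budget forces `h = u` and kills the other coefficients. -/
theorem budget_forces {h u c s : ℕ} {m : ℤ} {R : ℚ} (hc : 7 ≤ c) (hs : 1 ≤ s)
    (hsc : 2 * s ≤ c + 1) (hcu : c * c ≤ u) (huh : u ≤ h) (hR : 0 ≤ R)
    (hb : ((h : ℚ) - 1) * (m : ℚ) ^ 2 / s + 2 * m * ((h : ℚ) / c - 1) +
      ((s : ℚ) * ((h : ℚ) - (c : ℚ) ^ 2) + ((c : ℚ) - 1) * u) / (c : ℚ) ^ 2 + R ≤ (u : ℚ) / c - 1) :
    h = u ∧ R = 0 := by
  have hc7 : (7 : ℚ) ≤ c := by exact_mod_cast hc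
  have hs1 : (1 : ℚ) ≤ s := by exact_mod_cast hs
  have hsc' : 2 * (s : ℚ) ≤ c + 1 := by exact_mod_cast hsc
  have hcu' : (c : ℚ) ^ 2 ≤ u := by rw [pow_two]; exact_mod_cast hcu
  have huh' : (u : ℚ) ≤ h := by exact_mod_cast huh
  have h1 := sq_ge m hc7 hs1 hsc'
  have h2 := mid_nonneg m hs1 hsc'
  -- multiply by `c² s`
  have hid : (c : ℚ) ^ 2 * s * (((h : ℚ) - 1) * (m : ℚ) ^ 2 / s + 2 * m * ((h : ℚ) / c - 1) +
      ((s : ℚ) * ((h : ℚ) - (c : ℚ) ^ 2) + ((c : ℚ) - 1) * u) / (c : ℚ) ^ 2 - ((u : ℚ) / c - 1)) =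
      ((h : ℚ) - (c : ℚ) ^ 2) * ((m : ℚ) * c + s) ^ 2
        + (c : ℚ) ^ 2 * ((c : ℚ) - 1) * ((m : ℚ) * ((m : ℚ) * ((c : ℚ) + 1) + 2 * s))
        - (s : ℚ) * ((u : ℚ) - (c : ℚ) ^ 2) := by
    field_simp
    ring
  have h3 : ((h : ℚ) - (c : ℚ) ^ 2) * s ≤ ((h : ℚ) - (c : ℚ) ^ 2) * ((m : ℚ) * c + s) ^ 2 :=
    mul_le_mul_of_nonneg_left h1 (by linarith)
  have h4 : 0 ≤ (c : ℚ) ^ 2 * ((c : ℚ) - 1) * ((m : ℚ) * ((m : ℚ) * ((c : ℚ) + 1) + 2 * s)) :=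
    mul_nonneg (mul_nonneg (sq_nonneg _) (by linarith)) h2
  have h5 : 0 < (c : ℚ) ^ 2 * s := by positivity
  have h6 : (s : ℚ) * ((h : ℚ) - u) ≤ -((c : ℚ) ^ 2 * s * R) := by nlinarith
  have h7 : 0 ≤ (s : ℚ) * ((h : ℚ) - u) := mul_nonneg (by linarith) (by linarith)
  have h8 : (c : ℚ) ^ 2 * s * R = 0 :=
    le_antisymm (by linarith) (mul_nonneg h5.le hR)
  refine ⟨?_, (mul_eq_zero.1 h8).resolve_left h5.ne'⟩
  have h9 : (s : ℚ) * ((h : ℚ) - u) = 0 := by linarith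
  have h10 : (h : ℚ) = u := sub_eq_zero.1 ((mul_eq_zero.1 h9).resolve_left (by linarith))
  exact_mod_cast h10

/-- The share `[U : C] / (|Θ| + 1)` is at most `1 / (p - 1)`. -/
theorem ratio_le {p ub D : ℕ} (hp : 3 ≤ p) (hD : ub * (p - 1) ≤ D) (hD0 : 0 < D) :
    (ub : ℚ) / D ≤ 1 / ((p : ℚ) - 1) := by
  have hp3 : (3 : ℚ) ≤ p := by exact_mod_cast hp
  have hD' : (ub : ℚ) * ((p : ℚ) - 1) ≤ D := by
    have : ((ub * (p - 1) : ℕ) : ℚ) ≤ (D : ℚ) := by exact_mod_cast hD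
    rwa [Nat.cast_mul, Nat.cast_sub (by omega), Nat.cast_one] at this
  rw [div_le_div_iff₀ (by exact_mod_cast hD0) (by linarith), one_mul]
  exact hD'

/-- The cover identity against the bound for `η₀₁`, `C = 1` on the side of `T`. -/
theorem cover_false_one {p q u v ub DS DT g : ℕ} {wL : ℚ} (hp : 3 ≤ p) (hq : 3 ≤ q) (hu : 49 ≤ u)
    (hv : 1 ≤ v) (hD : ub * (p - 1) ≤ DS) (hDS : 0 < DS) (hDT : 8 * q ≤ 3 * DT)
    (hg : 81 * q ≤ g) (hL : (3 * q : ℚ) * wL ≤ 1)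
    (hb : (1 : ℚ) / q ≤ wL + (ub : ℚ) / (q * DS) + 1 / ((u : ℚ) * q) +
      (1 / ((v : ℚ) * p) - (1 - 1 / (DT : ℚ)) / ((v : ℚ) * p)) + 1 / (g : ℚ)) : False := by
  have hp3 : (3 : ℚ) ≤ p := by exact_mod_cast hp
  have hq3 : (3 : ℚ) ≤ q := by exact_mod_cast hq
  have hu' : (49 : ℚ) ≤ u := by exact_mod_cast hu
  have hv' : (1 : ℚ) ≤ v := by exact_mod_cast hv
  have hDT' : 8 * (q : ℚ) ≤ 3 * DT := by exact_mod_cast hDT
  have hg' : 81 * (q : ℚ) ≤ g := by exact_mod_cast hg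
  have hDT0 : (0 : ℚ) < DT := by linarith
  have hg0 : (0 : ℚ) < g := by linarith
  have hDS0 : (0 : ℚ) < DS := by exact_mod_cast hDS
  have e : 1 / ((v : ℚ) * p) - (1 - 1 / (DT : ℚ)) / ((v : ℚ) * p) = 1 / ((DT : ℚ) * (v * p)) := by
    field_simp
    ring
  rw [e] at hb
  have b1 : (ub : ℚ) / DS ≤ 1 / 2 := (ratio_le hp hD hDS).trans (by
    rw [div_le_div_iff₀ (by linarith) two_pos]; linarith)
  have b2 : (1 : ℚ) / u ≤ 1 / 49 := by
    rw [div_le_div_iff₀ (by linarith) (by norm_num)]; linarith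
  have b3 : (q : ℚ) / ((DT : ℚ) * (v * p)) ≤ 1 / 8 := by
    rw [div_le_div_iff₀ (by positivity) (by norm_num)]
    nlinarith [mul_le_mul hv' hp3 (by norm_num) (by linarith)]
  have b4 : (q : ℚ) / g ≤ 1 / 81 := by
    rw [div_le_div_iff₀ hg0 (by norm_num)]; linarith
  have h1 := mul_le_mul_of_nonneg_left hb (show (0 : ℚ) ≤ q by linarith)
  have e1 : (q : ℚ) * (1 / q) = 1 := by field_simp
  have e2 : (q : ℚ) * (wL + (ub : ℚ) / (q * DS) + 1 / ((u : ℚ) * q) + 1 / ((DT : ℚ) * (v * p)) +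
      1 / (g : ℚ)) = q * wL + (ub : ℚ) / DS + 1 / u + (q : ℚ) / ((DT : ℚ) * (v * p)) + q / g := by
    field_simp
  rw [e1, e2] at h1
  linarith

/-- The cover identity against the bound for `η₀₁`, `C ≠ 1` on both sides and `q < p`. -/
theorem cover_false_two {p q u v vb ub DS DT g : ℕ} {wL wM : ℚ} (hqp : q < p) (hpo : Odd p)
    (hqo : Odd q) (hq : 3 ≤ q) (hu : 49 ≤ u) (hvb : 1 ≤ vb) (hv : 2 * vb ≤ v)
    (hD : ub * (p - 1) ≤ DS) (hDS : 0 < DS) (hDT : 2 ≤ DT)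
    (hg : 81 * q ≤ g) (hL : (3 * q : ℚ) * wL ≤ 1) (hM : (3 * p : ℚ) * wM ≤ 1) (hM0 : 0 ≤ wM)
    (hb : (1 : ℚ) / q ≤ wL + wM + (ub : ℚ) / (q * DS) + 1 / ((u : ℚ) * q) +
      (1 / ((v : ℚ) * p) - (1 - 1 / (DT : ℚ)) / ((vb : ℚ) * p)) + 1 / (g : ℚ)) : False := by
  have hp : 5 ≤ p := by
    obtain ⟨i, hi⟩ := hpo
    obtain ⟨j, hj⟩ := hqo
    omega
  have hp5 : (5 : ℚ) ≤ p := by exact_mod_cast hp
  have hqp' : (q : ℚ) ≤ p := by exact_mod_cast hqp.le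
  have hq3 : (3 : ℚ) ≤ q := by exact_mod_cast hq
  have hu' : (49 : ℚ) ≤ u := by exact_mod_cast hu
  have hvb' : (1 : ℚ) ≤ vb := by exact_mod_cast hvb
  have hv' : 2 * (vb : ℚ) ≤ v := by exact_mod_cast hv
  have hDT' : (2 : ℚ) ≤ DT := by exact_mod_cast hDT
  have hg' : 81 * (q : ℚ) ≤ g := by exact_mod_cast hg
  have hg0 : (0 : ℚ) < g := by linarith
  have hDS0 : (0 : ℚ) < DS := by exact_mod_cast hDS
  have hbr : 1 / ((v : ℚ) * p) - (1 - 1 / (DT : ℚ)) / ((vb : ℚ) * p) ≤ 0 := by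
    have h1 : (1 : ℚ) / 2 ≤ 1 - 1 / (DT : ℚ) := by
      have : 1 / (DT : ℚ) ≤ 1 / 2 := by rw [div_le_div_iff₀ (by linarith) two_pos]; linarith
      linarith
    have h2 : 1 / ((v : ℚ) * p) ≤ (1 / 2) / ((vb : ℚ) * p) := by
      rw [div_le_div_iff₀ (mul_pos (by linarith) (by linarith)) (mul_pos (by linarith) (by linarith))]
      nlinarith
    have h3 : (1 / 2 : ℚ) / ((vb : ℚ) * p) ≤ (1 - 1 / (DT : ℚ)) / ((vb : ℚ) * p) :=
      div_le_div_of_nonneg_right h1 (by positivity)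
    linarith
  have b1 : (ub : ℚ) / DS ≤ 1 / 4 := (ratio_le (by omega) hD hDS).trans (by
    rw [div_le_div_iff₀ (by linarith) (by norm_num)]; linarith)
  have b2 : (1 : ℚ) / u ≤ 1 / 49 := by
    rw [div_le_div_iff₀ (by linarith) (by norm_num)]; linarith
  have b4 : (q : ℚ) / g ≤ 1 / 81 := by
    rw [div_le_div_iff₀ hg0 (by norm_num)]; linarith
  have h0 : (1 : ℚ) / q ≤ wL + wM + (ub : ℚ) / (q * DS) + 1 / ((u : ℚ) * q) + 1 / (g : ℚ) := by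
    linarith
  have h1 := mul_le_mul_of_nonneg_left h0 (show (0 : ℚ) ≤ q by linarith)
  have e1 : (q : ℚ) * (1 / q) = 1 := by field_simp
  have e2 : (q : ℚ) * (wL + wM + (ub : ℚ) / (q * DS) + 1 / ((u : ℚ) * q) + 1 / (g : ℚ)) =
      q * wL + q * wM + (ub : ℚ) / DS + 1 / u + q / g := by
    field_simp
  have b5 : (q : ℚ) * wM ≤ p * wM := mul_le_mul_of_nonneg_right hqp' hM0
  rw [e1, e2] at h1
  linarith

end Cfsg.Agent.OddOrder.PF14.CTriv
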