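import Cfsg.Agent.OddOrder.PF14.SideValues
import Cfsg.Agent.OddOrder.PF14.CTrivialArith

/-!
# Peterfalvi section 14, `C ≠ 1`: the budget of the test character

For a side and blocks, all but `X` clear of it, with the coefficients of the test character on the
characters of `X` determined up to one integer by integers `k ξ`: the order of the kernel of `X` is
`u` and the coefficients on the other blocks vanish.
-/

set_option autoImplicit false

namespace Cfsg.Agent.OddOrder.PF14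

open Cfsg.Agent Cfsg.Agent.CharBasic Finset
open scoped ComplexConjugate

universe u

namespace Side

variable {G : Type u} [Group G] [Fintype G] {D : Side G}
  {χ : (↥(D.W₁ ⊔ D.W₂) →* ℂˣ) → (G → ℂ)} {θ : ↥D.K →* ℂˣ}

/-- The budget with one block that is not clear. -/
theorem budget_forces {ι : Type} [Fintype ι] [DecidableEq ι] (B : ι → Block G)
    (hd : ∀ Y Z, Y ≠ Z → Disjoint (B Y).Ω (B Z).Ω) (hD : D.Regular)
    (hχ : Cfsg.IsCyclicTIFamily D.W₁ D.W₂ χ) (hg : D.Good θ) (X : ι)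
    (hX : (B X).Avoid D.W₁ D.W₂) (hclear : ∀ Y, Y ≠ X → D.Clear (B Y)) {c u s : ℕ}
    (k : ((B X).L → ℂ) → ℤ)
    (hinner : ∀ ξ ∈ (B X).S, Cfsg.classInner (D.Gam χ θ) ((B X).phi ξ) -
        ((B X).deg ξ : ℂ) * Cfsg.classInner (D.Gam χ θ) (B X).phi0 =
      ((k ξ : ℂ) - ((B X).deg ξ : ℂ) * (k (B X).xi0 : ℂ)) / (Nat.card D.W₁ : ℂ))
    (hk0 : (Nat.card D.W₁ : ℤ) ∣ k (B X).xi0)
    (hsq : (c : ℚ) ^ 2 * ∑ ξ ∈ (B X).S, (k ξ : ℚ) ^ 2 =
      ((B X).e : ℚ) * ((Nat.card (B X).H : ℚ) - (c : ℚ) ^ 2) +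
        ((c : ℚ) - 1) * (Nat.card D.W₁ : ℚ) * u)
    (hdk : (c : ℚ) * ∑ ξ ∈ (B X).S, ((B X).deg ξ : ℚ) * (k ξ : ℚ) =
      (Nat.card (B X).H : ℚ) - c)
    (he : (B X).e = Nat.card D.W₁ * s) (hu : D.H.relIndex D.S * c = u)
    (hc : 7 ≤ c) (hsc : 2 * s ≤ c + 1) (hcu : c * c ≤ u) (huh : u ≤ Nat.card (B X).H) :
    Nat.card (B X).H = u ∧ ∀ Y, Y ≠ X → coefB χ (B Y) hχ hg = 0 := by
  classical
  set q := Nat.card D.W₁ with hq
  obtain ⟨n₀, hn₀⟩ := hk0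
  set m : ℤ := coefB χ (B X) hχ hg - n₀ with hm
  -- the coefficient on `φ_ξ` of the block `X`
  have hn : ∀ ξ, ∃ n : ℤ, ξ ∈ (B X).S →
      Cfsg.classInner (D.Gam χ θ) ((B X).phi ξ) = (n : ℂ) := fun ξ => by
    by_cases h : ξ ∈ (B X).S
    · obtain ⟨n, hn⟩ := H43.gen_inner_int (D.Gam_gen hχ hg) ((B X).phi_gen h)
      exact ⟨n, fun _ => hn⟩
    · exact ⟨0, fun h' => absurd h' h⟩
  choose n hn using hn
  have hnq : ∀ ξ ∈ (B X).S, (n ξ : ℚ) = (k ξ : ℚ) / q + ((B X).deg ξ : ℚ) * m := by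
    intro ξ hξ
    have h := hinner ξ hξ
    rw [hn ξ hξ, Gam_phi0 hχ hg, hn₀] at h
    have hq0 : (q : ℂ) ≠ 0 := Nat.cast_ne_zero.2 Nat.card_pos.ne'
    have h' : ((n ξ : ℚ) : ℂ) = (((k ξ : ℚ) / q + ((B X).deg ξ : ℚ) * m : ℚ) : ℂ) := by
      push_cast [hm]
      push_cast at h
      field_simp at h ⊢
      linear_combination h
    exact_mod_cast h'
  let t : Finset (Σ Y : ι, (B Y).L → ℂ) := (Finset.univ : Finset ι).sigma fun Y => (B Y).S
  let coef : (Σ Y : ι, (B Y).L → ℂ) → ℤ := fun p =>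
    if h : p.1 = X then n (h ▸ p.2) else coefB χ (B p.1) hχ hg * (B p.1).deg p.2
  have hav : ∀ Y, (B Y).Avoid D.W₁ D.W₂ := fun Y => by
    by_cases h : Y = X
    · subst h; exact hX
    · exact (hclear Y h).avoid
  have h := D.budget hD hχ hg t (fun p => (B p.1).phi p.2) coef ?_ ?_ ?_ ?_
  rotate_left
  · intro p hp
    exact ((B p.1).phi_signed (mem_sigma.1 hp).2).inner_self
  · intro p hp p' hp' hne
    obtain ⟨Y, ξ⟩ := p
    obtain ⟨Z, η⟩ := p'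
    by_cases e : Y = Z
    · subst e
      show Cfsg.classInner ((B Y).phi ξ) ((B Y).phi η) = 0
      rw [(B Y).phi_orth (mem_sigma.1 hp).2 (mem_sigma.1 hp').2,
        if_neg fun e : ξ = η => hne (by subst e; rfl)]
    · exact Block.phi_orth_phi (hd Y Z e) (mem_sigma.1 hp).2 (mem_sigma.1 hp').2
  · intro p hp ω
    exact Block.phi_orth_eta D.hW (hodd D) hχ (hav p.1) (mem_sigma.1 hp).2 ω
  · intro p hp
    obtain ⟨Y, ξ⟩ := p
    by_cases e : Y = X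
    · subst e
      simp only [coef, dif_pos]
      exact hn ξ (mem_sigma.1 hp).2
    · simp only [coef, dif_neg e]
      rw [Gam_phi hχ (hclear Y e) hg (mem_sigma.1 hp).2]
      push_cast
      ring
  rw [sum_sigma, ← add_sum_erase _ _ (mem_univ X),
    sum_congr rfl (g := fun ξ => n ξ ^ 2) fun ξ _ => by simp only [coef, dif_pos],
    sum_congr rfl (g := fun Y => coefB χ (B Y) hχ hg ^ 2 * ((B Y).F : ℤ)) fun Y hY => by
      rw [(B Y).F_eq, Nat.cast_sum, mul_sum]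
      exact sum_congr rfl fun ξ _ => by
        simp only [coef, dif_neg (mem_erase.1 hY).1]
        push_cast
        ring] at h
  set R : ℤ := ∑ Y ∈ univ.erase X, coefB χ (B Y) hχ hg ^ 2 * ((B Y).F : ℤ) with hR
  have hR0 : 0 ≤ R := sum_nonneg fun Y _ => by positivity
  have hsum : (∑ ξ ∈ (B X).S, (n ξ : ℚ) ^ 2) =
      (∑ ξ ∈ (B X).S, (k ξ : ℚ) ^ 2) / (q : ℚ) ^ 2 +
        2 * m / q * ∑ ξ ∈ (B X).S, ((B X).deg ξ : ℚ) * (k ξ : ℚ) + (m : ℚ) ^ 2 * (B X).F := by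
    rw [(B X).F_eq, Nat.cast_sum, sum_div, mul_sum, mul_sum, ← sum_add_distrib, ← sum_add_distrib]
    refine sum_congr rfl fun ξ hξ => ?_
    rw [hnq ξ hξ]
    push_cast
    ring
  have h' : (q : ℚ) * ((∑ ξ ∈ (B X).S, (n ξ : ℚ) ^ 2) + R) ≤ (D.H.relIndex D.S : ℚ) - 1 := by
    have h2 : (((q : ℤ) * ((∑ ξ ∈ (B X).S, n ξ ^ 2) + R) : ℤ) : ℚ) ≤
        ((((D.H.relIndex D.S : ℕ) : ℤ) - 1 : ℤ) : ℚ) := by exact_mod_cast h
    push_cast at h2
    exact h2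
  rw [hsum] at h'
  have hc0 : (c : ℚ) ≠ 0 := Nat.cast_ne_zero.2 (by omega)
  have hq0 : (q : ℚ) ≠ 0 := Nat.cast_ne_zero.2 Nat.card_pos.ne'
  have hs0 : 1 ≤ s := Nat.one_le_iff_ne_zero.2 fun e => (B X).e_pos.ne' (by rw [he, e, mul_zero])
  have hs0' : (s : ℚ) ≠ 0 := Nat.cast_ne_zero.2 (by omega)
  have hcard : ((B X).F : ℚ) * ((q : ℚ) * s) = (Nat.card (B X).H : ℚ) - 1 := by
    rw [← (B X).card_H, he]
    push_cast
    ring
  have heq : ((B X).e : ℚ) = q * s := by rw [he]; push_cast; ring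
  have hu' : (D.H.relIndex D.S : ℚ) = (u : ℚ) / c := by
    rw [eq_div_iff hc0]; exact_mod_cast hu
  have hk2 : (∑ ξ ∈ (B X).S, (k ξ : ℚ) ^ 2) = (((B X).e : ℚ) * ((Nat.card (B X).H : ℚ) - (c : ℚ) ^ 2) +
      ((c : ℚ) - 1) * (q : ℚ) * u) / (c : ℚ) ^ 2 := by
    rw [eq_div_iff (pow_ne_zero 2 hc0), mul_comm]; exact hsq
  have hk1 : (∑ ξ ∈ (B X).S, ((B X).deg ξ : ℚ) * (k ξ : ℚ)) = ((Nat.card (B X).H : ℚ) - c) / c := by
    rw [eq_div_iff hc0, mul_comm]; exact hdk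
  obtain ⟨h1, h2⟩ := CTriv.budget_forces (h := Nat.card (B X).H) (u := u) (c := c) (s := s) (m := m)
    (R := (q : ℚ) * R) hc hs0 hsc hcu huh (by positivity) (by
      rw [hu'] at h'
      refine le_trans (le_of_eq ?_) h'
      rw [hk2, hk1, heq, ← hcard]
      field_simp
      ring)
  refine ⟨h1, fun Y hY => ?_⟩
  have h3 : R = 0 := by exact_mod_cast (mul_eq_zero.1 h2).resolve_left hq0
  have h4 := (sum_eq_zero_iff_of_nonneg fun Z _ => by positivity).1 h3 Y (mem_erase.2 ⟨hY, mem_univ Y⟩)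
  refine pow_eq_zero_iff two_ne_zero |>.1 ((mul_eq_zero.1 h4).resolve_right ?_)
  have := (B Y).two_le_F
  omega

end Side

end Cfsg.Agent.OddOrder.PF14
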