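import Cfsg.Agent.OddOrder.PF14.CTrivialSide

/-!
# Peterfalvi section 14, `C ≠ 1`: `η₀₁` against the cover identity

On the blocks clear of both sides the coefficient `c` is odd, so their weights are bounded by what
`η₀₁` leaves; the cover identity gives a lower bound for the weights of the remaining blocks.
-/

set_option autoImplicit false
set_option linter.unusedSectionVars false
set_option linter.style.haveILetI false

namespace Cfsg.Agent.OddOrder.PF14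

open Cfsg.Agent Cfsg.Agent.OddOrder Cfsg.Agent.CharBasic Finset

universe u

variable {G : Type u} [Group G] [Fintype G]

/-- The share of `η₀₁` when the test character is orthogonal to all the blocks. -/
theorem Setup.eta01 {ι : Type} [Fintype ι] [DecidableEq ι] (st : Setup G ι)
    {θS : ↥st.DS.K →* ℂˣ} (hgS : st.DS.Good θS)
    (h0 : ∀ X, Side.coefB st.χS (st.B X) st.hχS hgS = 0) :
    (1 - (1 / (Nat.card st.DS.W₁ : ℝ) + 1 / (Nat.card st.DS.W₂ : ℝ)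
        - 1 / ((Nat.card st.DS.W₁ : ℝ) * (Nat.card st.DS.W₂ : ℝ))))
      + (1 / (Nat.card st.DS.W₁ : ℝ) - (st.DS.H.relIndex st.DS.S : ℝ) /
          ((Nat.card st.DS.W₁ : ℝ) * ((st.ΘS.card : ℝ) + 1)))
      + (1 - 1 / ((st.ΘT.card : ℝ) + 1)) /
          ((st.DT.H.relIndex st.DT.S : ℝ) * (Nat.card st.DS.W₂ : ℝ))
      + ∑ X, ((st.B X).w : ℝ) ≤ 1 := by
  classical
  choose a c hR hL' hRL using fun X => Block.exists_ac (B := st.B X) st.DS.hW (Side.hodd st.DS) st.hχS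
    (st.clearS X).avoid st.DS.hq st.DS.hp
  let ψ₁ := st.DS.psi θS
  have hψ₁ : H43.TrivL ψ₁ := st.DS.psi_trivL θS
  have hψ₁1 : ψ₁ ≠ 1 := hgS.psi_ne_one
  obtain ⟨φ', ψ', hφ', hψ', e1, e2, e3⟩ := st.exists_link (H43.trivR_one (W₂ := st.DS.W₂)) hψ₁
  have hφ'1 : φ' ≠ 1 := fun e => hψ₁1 (by rw [← e1, e, st.link_one])
  have hT := (Side.share_row st.covT st.hχT hφ' hφ'1).part
  have hω : st.χT φ' = st.χS ψ₁ := by
    rw [st.link_fam, e1]
  rw [hω, Side.relIndex_K, Nat.cast_mul, st.card_W₁] at hT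
  have hS := (Side.share_col st.covS st.hχS H43.trivR_one hψ₁ hψ₁1).part
  rw [one_mul ψ₁] at hS
  refine le_trans ?_ (st.total (st.eta_self _) (st.part_wVec _) hS hT fun X =>
    st.part_block_eta X hψ₁1 (hL' X ψ₁ hψ₁ hψ₁1))
  refine add_le_add le_rfl (sum_le_sum fun X _ => le_mul_of_one_le_right ?_ ?_)
  · rw [Block.w]
    push_cast
    positivity
  · have hodd := Side.parity st.covS.reg st.hχS (st.clearS X) hgS (hL' X ψ₁ hψ₁ hψ₁1)
    rw [h0 X, zero_add] at hodd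
    have hne : c X ≠ 0 := fun e => by rw [e] at hodd; exact absurd hodd (by decide)
    have : (1 : ℤ) ≤ c X ^ 2 := by nlinarith [Int.one_le_abs hne, sq_abs (c X)]
    exact_mod_cast this

variable {S T U V W₁ W₂ : Subgroup G}

open scoped Classical in
/-- `η₀₁` against the cover identity. -/
theorem eta01_cover (d : SideData S W₁ U W₂) (d' : SideData T W₂ V W₁)
    {χ : (↥(W₁ ⊔ W₂) →* ℂˣ) → (G → ℂ)} (hχ : Cfsg.IsCyclicTIFamily W₁ W₂ χ)
    {θ : ↥d.sideK.K →* ℂˣ} (hg : d.sideK.Good θ)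
    {ι : Type} [Fintype ι] [DecidableEq ι] (B : ι → Block G) (X₀ : Finset ι)
    (hd : ∀ Y Z, Y ≠ Z → Disjoint (B Y).Ω (B Z).Ω)
    (hS : ∀ Y, Y ∉ X₀ → d.sideK.Clear (B Y)) (hT : ∀ Y, Y ∉ X₀ → d'.sideK.Clear (B Y))
    (hST : Disjoint d.sideK.part d'.sideK.part)
    (h0 : ∀ Y, Y ∉ X₀ → Side.coefB (D := d.sideK) χ (B Y) hχ hg = 0)
    (hcover : (1 : ℚ) / (Nat.card W₂ : ℕ) + 1 / (Nat.card W₁ : ℕ)
        - 1 / ((Nat.card W₂ : ℕ) * (Nat.card W₁ : ℕ)) =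
      ∑ X, ((B X).F : ℚ) / ((B X).F * (B X).e + 1) +
        (1 - 1 / ((Nat.card W₂ : ℕ) : ℚ) ^ Nat.card W₁) /
          ((Nat.card U : ℕ) * (Nat.card W₁ : ℕ)) +
        (1 - 1 / ((Nat.card W₁ : ℕ) : ℚ) ^ Nat.card W₂) /
          ((Nat.card V : ℕ) * (Nat.card W₂ : ℕ)) + 1 / (Nat.card G : ℕ)) :
    (1 : ℚ) / (Nat.card W₁ : ℕ) ≤ ∑ X ∈ X₀, (B X).w +
      (d.sideK.H.relIndex d.sideK.S : ℚ) /
        ((Nat.card W₁ : ℕ) * (((d.theta d.pair_sup).card + 1 : ℕ) : ℚ)) +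
      1 / (((Nat.card U : ℕ) : ℚ) * (Nat.card W₁ : ℕ)) +
      (1 / (((Nat.card V : ℕ) : ℚ) * (Nat.card W₂ : ℕ)) -
        (1 - 1 / (((d'.theta d'.pair_sup).card + 1 : ℕ) : ℚ)) /
          ((d'.sideK.H.relIndex d'.sideK.S : ℚ) * (Nat.card W₂ : ℕ))) +
      1 / (Nat.card G : ℕ) := by
  classical
  let st : Setup G {Y : ι // Y ∉ X₀} := mkSetup d d' d.pair_sup d'.pair_sup hχ d.covered_sideK
    d'.covered_sideK (fun Y => B Y.1) (fun Y Z h => hd Y.1 Z.1 fun e => h (Subtype.ext e))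
    (fun Y => hS Y.1 Y.2) (fun Y => hT Y.1 Y.2) hST
  have h : (1 - (1 / (Nat.card W₁ : ℝ) + 1 / (Nat.card W₂ : ℝ)
        - 1 / ((Nat.card W₁ : ℝ) * (Nat.card W₂ : ℝ))))
      + (1 / (Nat.card W₁ : ℝ) - (d.sideK.H.relIndex d.sideK.S : ℝ) /
          ((Nat.card W₁ : ℝ) * (((d.theta d.pair_sup).card : ℝ) + 1)))
      + (1 - 1 / (((d'.theta d'.pair_sup).card : ℝ) + 1)) /
          ((d'.sideK.H.relIndex d'.sideK.S : ℝ) * (Nat.card W₂ : ℝ))
      + ∑ Y : {Y : ι // Y ∉ X₀}, ((B Y.1).w : ℝ) ≤ 1 :=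
    Setup.eta01 st (θS := θ) hg fun Y => h0 Y.1 Y.2
  have hq : (1 - (1 / (Nat.card W₁ : ℚ) + 1 / (Nat.card W₂ : ℚ)
        - 1 / ((Nat.card W₁ : ℚ) * (Nat.card W₂ : ℚ))))
      + (1 / (Nat.card W₁ : ℚ) - (d.sideK.H.relIndex d.sideK.S : ℚ) /
          ((Nat.card W₁ : ℚ) * (((d.theta d.pair_sup).card : ℚ) + 1)))
      + (1 - 1 / (((d'.theta d'.pair_sup).card : ℚ) + 1)) /
          ((d'.sideK.H.relIndex d'.sideK.S : ℚ) * (Nat.card W₂ : ℚ))
      + ∑ Y : {Y : ι // Y ∉ X₀}, (B Y.1).w ≤ 1 := by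
    refine (Rat.cast_le (K := ℝ)).1 ?_
    push_cast
    linarith
  rw [Finset.sum_subtype (X₀ᶜ) (fun Y => Finset.mem_compl) (fun Y => (B Y).w) |>.symm] at hq
  have hs := Finset.sum_add_sum_compl X₀ fun Y => (B Y).w
  simp only [Block.w] at hq hs ⊢
  push_cast at hcover ⊢
  rw [sub_div, sub_div, div_div, div_div, ← hs] at hcover
  have : (0 : ℚ) ≤ 1 / ((Nat.card W₂ : ℚ) ^ Nat.card W₁ * ((Nat.card U : ℚ) * Nat.card W₁)) := by
    positivity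
  have : (0 : ℚ) ≤ 1 / ((Nat.card W₁ : ℚ) ^ Nat.card W₂ * ((Nat.card V : ℚ) * Nat.card W₂)) := by
    positivity
  have e : (Nat.card W₂ : ℚ) * Nat.card W₁ = Nat.card W₁ * Nat.card W₂ := mul_comm _ _
  rw [e] at hcover
  linarith

end Cfsg.Agent.OddOrder.PF14
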