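import Cfsg.Agent.OddOrder.PF14.NumFinal

/-!
Peterfalvi section 14: the numerical conclusion, `u` and `v` are maximal and `H = U`.
-/

set_option autoImplicit false

namespace Cfsg.Agent.OddOrder.PF14.NumData

variable {ι : Type*} [Fintype ι] [DecidableEq ι] (d : NumData ι)

theorem small_case {k p : ℕ} (hk : k < 49) (hk2 : k % 2 = 1) (hk3 : k % 3 = 1) (hp : p.Prime)
    (hp7 : 7 < p) (hp13 : p ≠ 13) (hkp : k % p = 4) : p = 11 ∧ k = 37 := by
  have h1 := Nat.div_add_mod k p
  rw [hkp] at h1
  have hne : k ≠ 4 := by omega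
  have h2 : k / p ≠ 0 := fun e => by rw [e] at h1; omega
  have h3 : p ≤ k := by
    have := Nat.le_mul_of_pos_right p (Nat.pos_of_ne_zero h2)
    omega
  interval_cases k <;> first
    | omega
    | (interval_cases p <;> first | omega | norm_num at hp)

theorem aS_or_c (X : ι) : Odd (d.aS X) ∨ (Even (d.aS X) ∧ Odd (d.c X)) := by
  rcases Int.even_or_odd (d.aS X) with h | h
  · exact Or.inr ⟨h, by simpa [Int.odd_add', h] using d.parityS X⟩
  · exact Or.inl h

theorem one_le_sq_of_odd {z : ℤ} (h : Odd z) : (1 : ℤ) ≤ z ^ 2 := by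
  have hne : z ≠ 0 := fun e => by simp [e] at h
  nlinarith [Int.one_le_abs hne, sq_abs z]

theorem p_le_u : d.p ≤ d.u := by
  have hp5 := d.p_ge
  have hq3 := d.hq3
  have hN := normCard_gt (p := d.p) (q := d.q) d.hp.two_le (by omega)
  have hp2 : d.p * d.p ≤ d.p ^ (d.q - 1) :=
    (sq d.p).symm.trans_le (Nat.pow_le_pow_right d.hp.pos (by omega))
  rcases d.u_cases with h | ⟨-, h⟩ | ⟨-, b, hb1, hb, h⟩
  · nlinarith
  · have := d.hqp
    rw [← h] at hN
    nlinarith
  · rw [h]
    obtain ⟨j, hj⟩ := hb1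
    rcases j with _ | j
    · omega
    · nlinarith

set_option maxHeartbeats 1000000 in
/-- The conclusion of the numerical part. -/
theorem main : d.u = normCard d.p d.q ∧ d.v = normCard d.q d.p ∧ d.e d.L = d.p * d.q ∧
    (d.F d.L * d.e d.L + 1 = d.u ∨ (d.L = d.M ∧ d.F d.L * d.e d.L + 1 = d.v)) := by
  have hp5 := d.p_ge
  have hq3 := d.hq3
  have hqp := d.hqp
  have heL := d.eL_eq
  have hqp2 := d.q_add_two_le
  have := Fact.mk d.hp
  have := Fact.mk d.hq
  obtain ⟨k, hk⟩ := d.L_dvd
  have hkodd : Odd k := by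
    have := d.h_odd d.L
    rw [hk] at this
    exact (Nat.odd_mul.mp this).2
  rw [heL] at hk
  have hk0 : 0 < k := hkodd.pos
  have hu0 : 0 < d.u := by have := d.u_ge; omega
  have hkp : (d.u : ZMod d.p) * k = 1 := by
    rw [← Nat.cast_mul, ← hk]; push_cast; simp
  have hkq : (k : ZMod d.q) = 1 := by
    have h : (d.u : ZMod d.q) * k = 1 := by rw [← Nat.cast_mul, ← hk]; push_cast; simp
    have hu : (d.u : ZMod d.q) = 1 := by rw [← ZMod.natCast_mod, d.sideS.mod, Nat.cast_one]
    rwa [hu, one_mul] at h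
  have hkq' : k % d.q = 1 := by
    have := congrArg ZMod.val hkq
    rwa [ZMod.val_natCast, ZMod.val_one] at this
  -- the residue of `k` modulo `p`
  have hres : (d.u = normCard d.p d.q ∧ k % d.p = 1) ∨
      (d.p % d.q = 1 ∧ d.u * d.q = normCard d.p d.q ∧ k % d.p = d.q) ∨
      (d.q = 3 ∧ (∃ b, Odd b ∧ 2 * b + 1 = d.p ∧ d.u = b ^ 2) ∧ k % d.p = 4) := by
    have hN : (normCard d.p d.q : ZMod d.p) = 1 := by
      rw [← ZMod.natCast_mod, normCard_modEq d.hp.two_le (by omega), Nat.cast_one]
    have key : ∀ r : ℕ, r < d.p → (k : ZMod d.p) = r → k % d.p = r := by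
      intro r hr h
      have := congrArg ZMod.val h
      rwa [ZMod.val_natCast, ZMod.val_natCast, Nat.mod_eq_of_lt hr] at this
    rcases d.u_cases with h | ⟨hm, h⟩ | ⟨hq, b, hb1, hb, h⟩
    · refine Or.inl ⟨h, key 1 (by omega) ?_⟩
      rw [h, hN, one_mul] at hkp
      simpa using hkp
    · refine Or.inr (Or.inl ⟨hm, h, key d.q hqp ?_⟩)
      rw [← h] at hN
      push_cast at hN
      linear_combination (-(k : ZMod d.p)) * hN + (d.q : ZMod d.p) * hkp
    · refine Or.inr (Or.inr ⟨hq, ⟨b, hb1, hb, h⟩, key 4 (by omega) ?_⟩)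
      have hb' : (2 : ZMod d.p) * b + 1 = 0 := by
        have h0 : ((2 * b + 1 : ℕ) : ZMod d.p) = 0 := by rw [hb, ZMod.natCast_self]
        push_cast at h0
        exact h0
      rw [h] at hkp
      push_cast at hkp
      linear_combination (4 : ZMod d.p) * hkp - (2 * (b : ZMod d.p) - 1) * k * hb'
  rcases d.aS_or_c d.L with haS | ⟨haS, hcodd⟩
  · -- the family of `L` is seen from `S`
    have h1 : (d.F d.L : ℤ) * d.q ≤ (d.u : ℤ) - 1 := by
      refine le_trans ?_ d.budgetS
      refine mul_le_mul_of_nonneg_right ?_ (by omega)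
      refine le_trans ?_ (Finset.single_le_sum (f := fun X => d.aS X ^ 2 * (d.F X : ℤ))
        (fun X _ => by positivity) (Finset.mem_univ d.L))
      nlinarith [one_le_sq_of_odd haS]
    have h2 : d.F d.L * d.q + 1 ≤ d.u := by
      exact_mod_cast (show (d.F d.L : ℤ) * d.q + 1 ≤ d.u by linarith)
    have hkp' : k < d.p := by nlinarith
    rcases hres with ⟨h, hr⟩ | ⟨-, -, hr⟩ | ⟨-, -, hr⟩ <;> rw [Nat.mod_eq_of_lt hkp'] at hr
    · exact ⟨h, d.v_eq, heL, Or.inl (by rw [heL, hk, hr, mul_one])⟩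
    · rw [hr, Nat.mod_self] at hkq'
      exact absurd hkq' zero_ne_one
    · obtain ⟨i, hi⟩ := hkodd
      omega
  have hc0 : d.c d.L ≠ 0 := fun e => by simp [e] at hcodd
  have hfL := d.etaNorm_ge_of_c (a := d.a d.L) hc0
  have heM := d.eM_eq
  by_cases hLM : d.L = d.M
  · -- `L` is also the block of `V`
    obtain ⟨j, hj⟩ : d.v ∣ d.F d.L * d.e d.L + 1 := by rw [hLM]; exact d.M_dvd
    rw [heL] at hj
    rcases Int.even_or_odd (d.aT d.L) with haT | haT
    · exfalso
      have haodd : Odd (d.a d.L) := by simpa [Int.odd_add', haT] using d.parityT d.L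
      have hd : Odd (d.a d.L + d.c d.L - 1) := (haodd.add_odd hcodd).sub_odd odd_one
      have hfull : (d.e d.L : ℤ) - 1 ≤ etaNorm d.p d.q (d.a d.L) (d.c d.L) := by
        rw [heL, etaNorm]
        have h1 := mul_le_mul_of_nonneg_left (one_le_sq_of_odd haodd)
          (show (0 : ℤ) ≤ d.q - 1 by omega)
        have h2 := mul_le_mul_of_nonneg_left (one_le_sq_of_odd hcodd)
          (show (0 : ℤ) ≤ d.p - 1 by omega)
        have h3 := mul_le_mul_of_nonneg_left (one_le_sq_of_odd hd)
          (show (0 : ℤ) ≤ (d.p - 1) * (d.q - 1) from mul_nonneg (by omega) (by omega))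
        push_cast
        linarith
      have h := d.weight_le_of_full hfull
      have hDS1 : 0 ≤ (d.q * d.aS d.L : ℚ) ^ 2 * ((1 - 1 / d.DS) / (d.u * d.q)) := by
        refine mul_nonneg (sq_nonneg _) (div_nonneg (sub_nonneg.mpr ?_) (by positivity))
        rw [div_le_one d.DS_pos]
        have hp : (5 : ℚ) ≤ d.p := by exact_mod_cast hp5
        exact le_trans (one_le_pow₀ (by linarith)) d.DS_bounds.1
      have hj' : (d.F d.L : ℚ) * (d.p * d.q) + 1 = d.v * j := by exact_mod_cast hj
      rw [heL] at h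
      push_cast at h
      have hv0 : (0 : ℚ) < d.v := by exact_mod_cast (show 0 < d.v by have := d.v_ge; omega)
      have hrest : d.p * d.q * ∑ Y ∈ Finset.univ.erase d.L, d.w Y ≤ 25 / 9 := by
        have h9 : (d.p * d.q : ℚ) * (d.p * d.q) ≤ 25 / 9 * d.v := by
          have := d.v_gt
          by_cases hex : d.p = 5 ∧ d.q = 3
          · rw [hex.1, hex.2] at this ⊢
            norm_num at this ⊢
            have h82 : (82 : ℚ) ≤ d.v := by exact_mod_cast this
            linarith
          · have h7 := sq_mul_mul_lt_pow hq3 hqp2 hex (by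
              intro e; have := d.p_odd; rw [e] at this; revert this; decide)
            have h8 : ((d.p * d.q : ℕ) : ℚ) * ((d.p * d.q : ℕ) : ℚ) ≤ d.v := by
              exact_mod_cast le_trans (le_of_eq (by ring)) (h7.trans this.le)
            push_cast at h8
            linarith
        have hle : (d.p * d.q : ℚ) / (d.F d.L * (d.p * d.q) + 1) ≤ d.p * d.q / d.v := by
          refine div_le_div_of_nonneg_left (by positivity) hv0 ?_
          rw [hj']
          refine le_mul_of_one_le_right hv0.le ?_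
          rcases j with _ | j
          · omega
          · push_cast; linarith [show (0 : ℚ) ≤ j by positivity]
        calc (d.p * d.q : ℚ) * ∑ Y ∈ Finset.univ.erase d.L, d.w Y
            ≤ d.p * d.q * (d.p * d.q / d.v) :=
              mul_le_mul_of_nonneg_left (by linarith) (by positivity)
          _ ≤ 25 / 9 := by rw [← mul_div_assoc, div_le_iff₀ hv0]; exact h9
      have hwL : d.p * d.q * d.w d.L ≤ 1 := by
        rw [w, heL, ← mul_div_assoc, div_le_one (by positivity)]
        push_cast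
        linarith
      have hsplit : d.p * d.q * ∑ X, d.w X =
          d.p * d.q * d.w d.L + d.p * d.q * ∑ Y ∈ Finset.univ.erase d.L, d.w Y := by
        rw [← mul_add, Finset.add_sum_erase _ _ (Finset.mem_univ d.L)]
      have hpu : (d.p : ℚ) / d.u ≤ 1 := by
        rw [div_le_one (by exact_mod_cast hu0)]
        exact_mod_cast d.p_le_u
      have hp : (5 : ℚ) ≤ d.p := by exact_mod_cast hp5
      have hq : (3 : ℚ) ≤ d.q := by exact_mod_cast hq3
      linarith [d.total, d.q_div_v, d.small_g]
    · -- the family of `L = M` is seen from `T`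
      have h1 : (d.F d.L : ℤ) * d.p ≤ (d.v : ℤ) - 1 := by
        refine le_trans ?_ d.budgetT
        refine mul_le_mul_of_nonneg_right ?_ (by omega)
        refine le_trans ?_ (Finset.single_le_sum (f := fun X => d.aT X ^ 2 * (d.F X : ℤ))
          (fun X _ => by positivity) (Finset.mem_univ d.L))
        nlinarith [one_le_sq_of_odd haT]
      have h2 : d.F d.L * d.p + 1 ≤ d.v := by
        exact_mod_cast (show (d.F d.L : ℤ) * d.p + 1 ≤ d.v by linarith)
      have hjq : j < d.q := by nlinarith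
      have hj1 : j = 1 := by
        have h : (d.v : ZMod d.p) * j = 1 := by rw [← Nat.cast_mul, ← hj]; push_cast; simp
        have hv : (d.v : ZMod d.p) = 1 := by rw [← ZMod.natCast_mod, d.sideT.mod, Nat.cast_one]
        rw [hv, one_mul] at h
        have := congrArg ZMod.val h
        rwa [ZMod.val_natCast, ZMod.val_one, Nat.mod_eq_of_lt (by omega)] at this
      have hh : d.F d.L * d.e d.L + 1 = d.v := by rw [heL, hj, hj1, mul_one]
      have hu1 := d.hcyclicL hLM heL hh d.v_eq
      refine ⟨?_, d.v_eq, heL, Or.inr ⟨hLM, hh⟩⟩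
      have hu : (d.u : ZMod d.p) = 1 := by rw [← ZMod.natCast_mod, hu1, Nat.cast_one]
      rcases hres with ⟨h, -⟩ | ⟨-, h, -⟩ | ⟨-, ⟨b, -, hb, h⟩, -⟩
      · exact h
      · exfalso
        have hN : (normCard d.p d.q : ZMod d.p) = 1 := by
          rw [← ZMod.natCast_mod, normCard_modEq d.hp.two_le (by omega), Nat.cast_one]
        rw [← h] at hN
        push_cast at hN
        rw [hu, one_mul] at hN
        have := congrArg ZMod.val hN
        rw [ZMod.val_natCast, ZMod.val_one, Nat.mod_eq_of_lt hqp] at this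
        omega
      · exfalso
        have hb' : (2 : ZMod d.p) * b + 1 = 0 := by
          have h0 : ((2 * b + 1 : ℕ) : ZMod d.p) = 0 := by rw [hb, ZMod.natCast_self]
          push_cast at h0
          exact h0
        rw [h] at hu
        push_cast at hu
        have h3 : ((3 : ℕ) : ZMod d.p) = 0 := by
          push_cast
          linear_combination (-4 : ZMod d.p) * hu + (2 * (b : ZMod d.p) - 1) * hb'
        rw [ZMod.natCast_eq_zero_iff] at h3
        have := Nat.le_of_dvd (by norm_num) h3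
        omega
  -- `L` and `M` are different
  rcases Int.even_or_odd (d.A d.L d.M) with hA | hA
  swap
  · exfalso
    have h1 := d.F_le (fun e => hLM e.symm) hA
    rw [heL] at h1
    push_cast at h1
    have hFM : d.F d.M + d.p ≤ d.p * d.q := by
      exact_mod_cast (show (d.F d.M : ℤ) + d.p ≤ d.p * d.q by linarith)
    have hv : d.v ∣ d.F d.M * (d.p * d.q) + 1 := heM ▸ d.M_dvd
    have hvle := Nat.le_of_dvd (Nat.succ_pos _) hv
    by_cases hex : d.p = 5 ∧ d.q = 3
    · have hv2 := d.v_eq
      rw [hex.1, hex.2] at hv hFM hv2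
      norm_num [normCard] at hv2
      rw [hv2] at hv
      have hF10 : d.F d.M ≤ 10 := by omega
      have hF8 : d.F d.M = 8 := by interval_cases (d.F d.M) <;> omega
      have h11 := d.hcyclicM heM (by rw [heM, hF8, hex.1, hex.2, hv2]) d.v_eq 11 (by norm_num)
        (by rw [hv2]; norm_num)
      rw [hex.1, hex.2] at h11
      omega
    · have h7 := sq_mul_mul_lt_pow hq3 hqp2 hex (by
        intro e; have := d.p_odd; rw [e] at this; revert this; decide)
      have := d.v_gt
      have h8 := Nat.mul_le_mul_right (d.p * d.q) hFM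
      nlinarith
  have hA' : Odd (d.A d.M d.L) := by simpa [Int.odd_add', hA] using d.parity d.L d.M hLM
  have h1 := d.F_le hLM hA'
  rw [heM] at h1
  push_cast at h1
  have hFL : d.F d.L + d.q ≤ d.p * d.q := by
    have := d.etaNorm_ge (d.a d.M) (d.c d.M)
    exact_mod_cast (show (d.F d.L : ℤ) + d.q ≤ d.p * d.q by linarith)
  have hku : d.u * k < d.p ^ 2 * d.q ^ 2 := by
    have h8 := Nat.mul_le_mul_right (d.p * d.q) hFL
    rw [← hk]
    have h9 : 1 < d.q * (d.p * d.q) := by nlinarith
    nlinarith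
  have hN := normCard_gt (p := d.p) (q := d.q) d.hp.two_le (by omega)
  have hp2 : d.p * d.p ≤ d.p ^ (d.q - 1) :=
    (sq d.p).symm.trans_le (Nat.pow_le_pow_right d.hp.pos (by omega))
  rcases hres with ⟨h, hr⟩ | ⟨hmod, h, hr⟩ | ⟨hq, ⟨b, hb1, hb, h⟩, hr⟩
  · by_cases hk1 : k = 1
    · exact ⟨h, d.v_eq, heL, Or.inl (by rw [heL, hk, hk1, mul_one])⟩
    exfalso
    have hmod : k % (d.p * d.q) = 1 := by
      have hco : Nat.Coprime d.p d.q := (Nat.coprime_primes d.hp d.hq).mpr (by omega)
      have h1 : k ≡ 1 [MOD d.p] := by rw [Nat.ModEq, hr, Nat.one_mod_eq_one.mpr d.hp.ne_one]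
      have h2 : k ≡ 1 [MOD d.q] := by rw [Nat.ModEq, hkq', Nat.one_mod_eq_one.mpr d.hq.ne_one]
      have := (Nat.modEq_and_modEq_iff_modEq_mul hco).mp ⟨h1, h2⟩
      rwa [Nat.ModEq, Nat.one_mod_eq_one.mpr (by nlinarith)] at this
    have h1 := Nat.div_add_mod k (d.p * d.q)
    rw [hmod] at h1
    have h2 : k / (d.p * d.q) ≠ 0 := fun e => by rw [e] at h1; omega
    have h3 : k / (d.p * d.q) ≠ 1 := fun e => by
      rw [e, mul_one] at h1
      obtain ⟨i, hi⟩ := hkodd
      obtain ⟨i', hi'⟩ := d.p_odd.mul d.q_odd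
      omega
    have h4 := Nat.mul_le_mul_left (d.p * d.q) ((Nat.two_le_iff _).mpr ⟨h2, h3⟩)
    have h5 : 2 * (d.p * d.q) ≤ k := by omega
    have h6 : d.p * d.p ≤ d.u := by omega
    have h7 := Nat.mul_le_mul h6 h5
    have h8 : d.p ^ 2 * d.q ^ 2 ≤ d.p * d.p * (2 * (d.p * d.q)) := by
      calc d.p ^ 2 * d.q ^ 2 = d.p * d.p * d.q * d.q := by ring
        _ ≤ d.p * d.p * d.q * (2 * d.p) := Nat.mul_le_mul_left _ (by omega)
        _ = _ := by ring
    omega
  · exfalso
    have h1 := Nat.div_add_mod k d.p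
    rw [hr] at h1
    have h2 : k / d.p ≠ 0 := fun e => by
      rw [e, mul_zero, zero_add] at h1
      rw [← h1, Nat.mod_self] at hkq'
      omega
    have h3 : k / d.p ≠ 1 := fun e => by
      rw [e, mul_one] at h1
      obtain ⟨i, hi⟩ := hkodd
      obtain ⟨i', hi'⟩ := d.p_odd
      obtain ⟨i'', hi''⟩ := d.q_odd
      omega
    have h4 := Nat.mul_le_mul_left d.p ((Nat.two_le_iff _).mpr ⟨h2, h3⟩)
    have h5 : 2 * d.p + d.q ≤ k := by omega
    rcases eq_or_lt_of_le hq3 with hq | hq
    · rw [← hq] at h hku h5 hmod hkq' hr hN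
      norm_num at hN
      have hN3 : normCard d.p 3 = 1 + d.p + d.p ^ 2 := by
        rw [normCard_eq d.hp.two_le]; simp [Finset.sum_range_succ]
      rw [hN3] at h
      have hk27 : k < 27 := by nlinarith
      have hp11 : d.p ≤ 11 := by omega
      have hp := d.hp
      obtain ⟨i, hi⟩ := hkodd
      interval_cases (d.p) <;> norm_num at hp <;> omega
    · have hq5 : 5 ≤ d.q := by
        obtain ⟨i, hi⟩ := d.q_odd
        omega
      have h6 : d.p ^ 4 ≤ d.u * d.q := by
        rw [h]
        exact le_trans (Nat.pow_le_pow_right d.hp.pos (by omega)) hN.le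
      have h7 : d.p ^ 4 * (2 * d.p) ≤ d.u * d.q * k := Nat.mul_le_mul h6 (by omega)
      have h8 : d.u * d.q * k < d.p ^ 2 * d.q ^ 2 * d.q := by
        rw [mul_right_comm]
        exact Nat.mul_lt_mul_of_pos_right hku d.hq.pos
      have h9 : d.q ^ 3 ≤ d.p ^ 3 := Nat.pow_le_pow_left (by omega) 3
      have h10 := Nat.mul_le_mul_left (d.p ^ 2) h9
      nlinarith
  · exfalso
    rw [hq] at hku hkq'
    rw [h] at hku
    have hb3 : b % 3 ≠ 0 := fun e => by
      have h3 := d.sideS.mod
      rw [h, hq, Nat.pow_mod, e] at h3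
      norm_num at h3
    have hp7 : 7 < d.p := by
      obtain ⟨i, hi⟩ := hb1
      rcases i with _ | _ | i <;> omega
    have hk49 : k < 49 := by
      have h36 : 36 * d.p ^ 2 ≤ 49 * (2 * b) ^ 2 := by
        rw [← hb]; nlinarith
      nlinarith
    obtain ⟨hp11, hk37⟩ := small_case hk49 (Nat.odd_iff.mp hkodd) hkq' d.hp hp7
      (by obtain ⟨i, hi⟩ := hb1; omega) hr
    have := d.hprimes hq heL ⟨b, hb1, hb, h⟩ 37 (by norm_num)
      (by rw [heL, hk, hk37]; exact dvd_mul_left _ _)
    have hb5 : b = 5 := by omega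
    rw [h, hb5] at this
    norm_num at this

end Cfsg.Agent.OddOrder.PF14.NumData
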