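import Cfsg.Agent.OddOrder.PF14.Basic
import Cfsg.Agent.OddOrder.PF3.Props
import Cfsg.Agent.CharInduce.Induce

/-!
# Peterfalvi section 14: the part of the norm on `W₁ W₂ ∖ (W₁ ∪ W₂)`, and the family with `W₁`, `W₂`
exchanged
-/

set_option autoImplicit false

namespace Cfsg.Agent.OddOrder.PF14

open Cfsg.Agent Cfsg.Agent.CharBasic Cfsg.Agent.CharInduce Finset
open scoped ComplexConjugate

universe u

variable {G : Type u} [Group G] [Fintype G] {W₁ W₂ : Subgroup G}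
  {χ : (↥(W₁ ⊔ W₂) →* ℂˣ) → (G → ℂ)}

open scoped Classical in
/-- `Ind_W^G` of a linear character cut to `W ∖ (W₁ ∪ W₂)`. -/
noncomputable def wVec (ω : ↥(W₁ ⊔ W₂) →* ℂˣ) : G → ℂ :=
  Cfsg.indFun (W₁ ⊔ W₂) fun w : ↥(W₁ ⊔ W₂) =>
    if (w : G) ∉ W₁ ∧ (w : G) ∉ W₂ then (ω w : ℂ) else 0

/-- The support of `wVec`. -/
theorem wVec_supp (ω : ↥(W₁ ⊔ W₂) →* ℂˣ) {a : G} (ha : wVec ω a ≠ 0) :
    ∃ x : G, ∃ w ∈ W₁ ⊔ W₂, w ∉ W₁ ∧ w ∉ W₂ ∧ a = x * w * x⁻¹ := by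
  classical
  rw [wVec, indFun_apply] at ha
  obtain ⟨x, -, hx⟩ := Finset.exists_ne_zero_of_sum_ne_zero (right_ne_zero_of_mul ha)
  by_cases h : x⁻¹ * a * x ∈ W₁ ⊔ W₂
  · rw [extendByZero_of_mem _ h] at hx
    by_cases hV : x⁻¹ * a * x ∉ W₁ ∧ x⁻¹ * a * x ∉ W₂
    · exact ⟨x, _, h, hV.1, hV.2, by simp [mul_assoc]⟩
    · rw [if_neg hV] at hx
      exact absurd rfl hx
  · exact absurd (extendByZero_of_not_mem _ h) hx

/-- The share of a grid character on `W ∖ (W₁ ∪ W₂)`. -/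
theorem wVec_bound (hW : Cfsg.IsSelfNormalizingCyclic W₁ W₂)
    (hχ : Cfsg.IsCyclicTIFamily W₁ W₂ χ)
    (ω : ↥(W₁ ⊔ W₂) →* ℂˣ) :
    1 - (1 / (Nat.card W₁ : ℝ) + 1 / (Nat.card W₂ : ℝ)
        - 1 / ((Nat.card W₁ : ℝ) * (Nat.card W₂ : ℝ))) ≤
      2 * (Cfsg.classInner (χ ω) (wVec ω)).re - (Cfsg.classInner (wVec ω) (wVec ω)).re := by
  classical
  set q := Nat.card W₁ with hq
  set p := Nat.card W₂ with hp
  set f : ↥(W₁ ⊔ W₂) → ℂ := fun w =>
    if (w : G) ∉ W₁ ∧ (w : G) ∉ W₂ then (ω w : ℂ) else 0 with hf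
  set V := (Finset.univ : Finset ↥(W₁ ⊔ W₂)).filter fun w : ↥(W₁ ⊔ W₂) => (w : G) ∉ W₁ ∧ (w : G) ∉ W₂ with hV
  have hcard : (V.card : ℝ) = (q : ℝ) * p - q - p + 1 := by
    have h1 : ((Finset.univ : Finset ↥(W₁ ⊔ W₂)).filter fun w : ↥(W₁ ⊔ W₂) => (w : G) ∈ W₁).card = q := by
      rw [← Fintype.card_coe, ← Nat.card_eq_fintype_card]
      exact Nat.card_congr
        { toFun := fun x => (⟨(x.1 : G), (mem_filter.1 x.2).2⟩ : W₁)
          invFun := fun x => ⟨⟨x, Subgroup.mem_sup_left x.2⟩, mem_filter.2 ⟨mem_univ _, x.2⟩⟩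
          left_inv := fun _ => rfl
          right_inv := fun _ => rfl }
    have h2 : ((Finset.univ : Finset ↥(W₁ ⊔ W₂)).filter fun w : ↥(W₁ ⊔ W₂) => (w : G) ∈ W₂).card = p := by
      rw [← Fintype.card_coe, ← Nat.card_eq_fintype_card]
      exact Nat.card_congr
        { toFun := fun x => (⟨(x.1 : G), (mem_filter.1 x.2).2⟩ : W₂)
          invFun := fun x => ⟨⟨x, Subgroup.mem_sup_right x.2⟩, mem_filter.2 ⟨mem_univ _, x.2⟩⟩
          left_inv := fun _ => rfl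
          right_inv := fun _ => rfl }
    have h12 : ((Finset.univ : Finset ↥(W₁ ⊔ W₂)).filter fun w : ↥(W₁ ⊔ W₂) => (w : G) ∈ W₁) ∩
        ((Finset.univ : Finset ↥(W₁ ⊔ W₂)).filter fun w : ↥(W₁ ⊔ W₂) => (w : G) ∈ W₂) = {1} := by
      ext w
      simp only [mem_inter, mem_filter, mem_univ, true_and, mem_singleton]
      refine ⟨fun h => Subtype.ext (Subgroup.mem_bot.1 (hW.2.2.1 ▸ Subgroup.mem_inf.2 h)), ?_⟩
      rintro rfl
      exact ⟨one_mem _, one_mem _⟩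
    have hu : ((Finset.univ : Finset ↥(W₁ ⊔ W₂)).filter fun w : ↥(W₁ ⊔ W₂) => (w : G) ∈ W₁ ∨ (w : G) ∈ W₂).card + 1
        = q + p := by
      rw [filter_or, ← h1, ← h2, ← card_union_add_card_inter, h12, card_singleton]
    have hc : V.card +
        ((Finset.univ : Finset ↥(W₁ ⊔ W₂)).filter fun w : ↥(W₁ ⊔ W₂) => (w : G) ∈ W₁ ∨ (w : G) ∈ W₂).card
        = q * p := by
      rw [← PF3.card_sup hW, Nat.card_eq_fintype_card, ← Finset.card_univ, hV,
        show ((Finset.univ : Finset ↥(W₁ ⊔ W₂)).filter fun w : ↥(W₁ ⊔ W₂) => (w : G) ∈ W₁ ∨ (w : G) ∈ W₂) =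
          Finset.univ.filter fun w : ↥(W₁ ⊔ W₂) => ¬ ((w : G) ∉ W₁ ∧ (w : G) ∉ W₂) from
          filter_congr fun w _ => by tauto,
        Finset.card_filter_add_card_filter_not]
    have : ((V.card + (q + p) : ℕ) : ℝ) = ((q * p + 1 : ℕ) : ℝ) := by
      rw [← hu, ← hc]; push_cast; ring
    push_cast at this
    linarith
  have hmem : ∀ (w : ↥(W₁ ⊔ W₂)), f w ≠ 0 → (w : G) ∉ W₁ ∧ (w : G) ∉ W₂ := fun w hw => by
    by_contra h
    exact hw (if_neg h)
  have hval : ∀ w : ↥(W₁ ⊔ W₂), f w ≠ 0 → wVec ω (w : G) = f w := by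
    intro w hw
    rw [wVec, indFun_apply, ← hf]
    have key : ∀ x : G, Cfsg.extendByZero (W₁ ⊔ W₂) f (x⁻¹ * w * x) =
        if x ∈ W₁ ⊔ W₂ then f w else 0 := by
      intro x
      split_ifs with hx
      · rw [H43.mem_normalizer_sup hW.2.2.2.2.1 (inv_mem hx) w.2, mul_assoc, inv_mul_cancel, mul_one,
          extendByZero_coe]
      · by_cases h : x⁻¹ * w * x ∈ W₁ ⊔ W₂
        · rw [extendByZero_of_mem _ h]
          by_contra hne
          obtain ⟨a1, a2⟩ := hmem _ hne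
          obtain ⟨b1, b2⟩ := hmem w hw
          refine hx ?_
          have := H43.conj_mem_V (g := x⁻¹) hW w.2 b1 b2 (by simpa using h) (by simpa using a1)
            (by simpa using a2)
          simpa using inv_mem this
        · exact extendByZero_of_not_mem _ h
    rw [sum_congr rfl fun x _ => key x, ← sum_filter, sum_const, nsmul_eq_mul,
      ← Fintype.card_subtype, ← Nat.card_eq_fintype_card, ← mul_assoc,
      inv_mul_cancel₀ (CharInduce.card_ne_zero_complex _), one_mul]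
  have hsq : Cfsg.classInner f f = ((((q * p : ℕ) : ℝ)⁻¹ * (V.card : ℝ) : ℝ) : ℂ) := by
    rw [classInner_def, PF3.card_sup hW, ← sum_filter_add_sum_filter_not Finset.univ
      (fun w : ↥(W₁ ⊔ W₂) => (w : G) ∉ W₁ ∧ (w : G) ∉ W₂),
      sum_congr rfl fun w hw => show f w * conj (f w) = 1 by
        simp only [hf, (mem_filter.1 hw).2, and_self, not_false_eq_true, if_true, Complex.mul_conj',
          H43.linear_norm, Complex.ofReal_one, one_pow],
      sum_eq_zero (s := Finset.univ.filter fun w : ↥(W₁ ⊔ W₂) => ¬((w : G) ∉ W₁ ∧ (w : G) ∉ W₂))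
        fun w hw => by simp only [hf, if_neg (mem_filter.1 hw).2, zero_mul], sum_const, nsmul_eq_mul,
      mul_one, add_zero]
    push_cast
    rfl
  have hpair : ∀ F : G → ℂ, Cfsg.IsClassFunction G F → (∀ w : ↥(W₁ ⊔ W₂), f w ≠ 0 → F w = f w) →
      Cfsg.classInner (wVec ω) F = Cfsg.classInner f f := by
    intro F hF hFw
    rw [wVec, classInner_indFun_left _ _ _ hF]
    exact PF3.classInner_congr_right hFw
  have h1 : Cfsg.classInner (χ ω) (wVec ω) = Cfsg.classInner f f := by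
    have h := hpair (χ ω) (PF3.family_isClassFunction hχ ω) fun w hw => by
      rw [hχ.eq_on ω w (hmem w hw).1 (hmem w hw).2]
      simp only [hf, hmem w hw, and_self, not_false_eq_true, if_true]
    rw [← classInner_conj_symm, h, hsq, Complex.conj_ofReal]
  have h2 : Cfsg.classInner (wVec ω) (wVec ω) = Cfsg.classInner f f :=
    hpair _ (isClassFunction_indFun _ _) hval
  rw [h1, h2, hsq, Complex.ofReal_re, hcard]
  have hq0 : (q : ℝ) ≠ 0 := Nat.cast_ne_zero.2 Nat.card_pos.ne'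
  have hp0 : (p : ℝ) ≠ 0 := Nat.cast_ne_zero.2 Nat.card_pos.ne'
  refine le_of_eq ?_
  push_cast
  field_simp
  ring

/-- The identification of `W₂ W₁` with `W₁ W₂`. -/
noncomputable def swapW (W₁ W₂ : Subgroup G) : ↥(W₁ ⊔ W₂) ≃* ↥(W₂ ⊔ W₁) :=
  MulEquiv.subgroupCongr (sup_comm W₁ W₂)

omit [Fintype G] in
theorem coe_swapW (w : ↥(W₁ ⊔ W₂)) : ((swapW W₁ W₂ w : ↥(W₂ ⊔ W₁)) : G) = (w : G) := rfl

variable (χ) in
/-- The family with `W₁` and `W₂` exchanged. -/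
noncomputable def swapFam : (↥(W₂ ⊔ W₁) →* ℂˣ) → (G → ℂ) := fun ω =>
  χ (ω.comp (swapW W₁ W₂).toMonoidHom)

theorem indFun_swapW (f : ↥(W₂ ⊔ W₁) → ℂ) :
    Cfsg.indFun (W₁ ⊔ W₂) (fun w => f (swapW W₁ W₂ w)) = Cfsg.indFun (W₂ ⊔ W₁) f := by
  funext a
  rw [indFun_apply, indFun_apply, Nat.card_congr (swapW W₁ W₂).toEquiv]
  congr 1
  refine sum_congr rfl fun x _ => ?_
  by_cases h : x⁻¹ * a * x ∈ W₁ ⊔ W₂
  · rw [extendByZero_of_mem _ h, extendByZero_of_mem _ (show x⁻¹ * a * x ∈ W₂ ⊔ W₁ by rwa [sup_comm])]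
    rfl
  · rw [extendByZero_of_not_mem _ h, extendByZero_of_not_mem]
    rwa [sup_comm]

theorem swapFam_isFamily (hχ : Cfsg.IsCyclicTIFamily W₁ W₂ χ) :
    Cfsg.IsCyclicTIFamily W₂ W₁ (swapFam χ) where
  irr_or_neg ω := hχ.irr_or_neg _
  orthonormal ω ω' := by
    rw [swapFam, swapFam, hχ.orthonormal]
    by_cases e : ω = ω'
    · subst e
      simp
    · rw [if_neg e, if_neg]
      intro e'
      refine e (MonoidHom.ext fun w => ?_)
      have := DFunLike.congr_fun e' ((swapW W₁ W₂).symm w)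
      simpa using this
  map_one := by
    rw [swapFam]
    exact hχ.map_one
  eq_on ω w h1 h2 := by
    have := hχ.eq_on (ω.comp (swapW W₁ W₂).toMonoidHom) ((swapW W₁ W₂).symm w) h2 h1
    refine Eq.trans ?_ (this.trans ?_)
    · rfl
    · simp
  induced_eq φ ψ h1 h2 hφ hψ := by
    have hne : ∀ ω : ↥(W₂ ⊔ W₁) →* ℂˣ, ω ≠ 1 → ω.comp (swapW W₁ W₂).toMonoidHom ≠ 1 := by
      intro ω hω e
      refine hω (MonoidHom.ext fun w => ?_)
      have := DFunLike.congr_fun e ((swapW W₁ W₂).symm w)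
      simpa using this
    have h := hχ.induced_eq (ψ.comp (swapW W₁ W₂).toMonoidHom) (φ.comp (swapW W₁ W₂).toMonoidHom)
      (hne ψ h2) (hne φ h1) (fun w hw => hψ _ hw) (fun w hw => hφ _ hw)
    rw [← indFun_swapW]
    refine Eq.trans ?_ (h.trans ?_)
    · congr 1
      funext w
      simp only [MonoidHom.comp_apply, MulEquiv.coe_toMonoidHom]
      ring
    · funext g
      have e : (ψ.comp (swapW W₁ W₂).toMonoidHom) * (φ.comp (swapW W₁ W₂).toMonoidHom) =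
          (φ * ψ).comp (swapW W₁ W₂).toMonoidHom :=
        MonoidHom.ext fun w => by simp [mul_comm]
      simp only [swapFam, e]
      ring

omit [Fintype G] in
theorem swap_trivR {ω : ↥(W₂ ⊔ W₁) →* ℂˣ} (h : H43.TrivR ω) :
    H43.TrivL (ω.comp (swapW W₁ W₂).toMonoidHom) := fun _ hw => h _ hw

omit [Fintype G] in
theorem swap_trivL {ω : ↥(W₂ ⊔ W₁) →* ℂˣ} (h : H43.TrivL ω) :
    H43.TrivR (ω.comp (swapW W₁ W₂).toMonoidHom) := fun _ hw => h _ hw

end Cfsg.Agent.OddOrder.PF14
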