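import Cfsg.Agent.OddOrder.PF14.SideShare
import Cfsg.Agent.OddOrder.PF14.WPart
import Cfsg.Agent.OddOrder.PF14.NumMain

/-!
# Peterfalvi section 14: the numerical data from two sides and the blocks

`Setup` collects two sides with `C = 1`, the blocks and their disjointness; `Setup.main` is the
numerical conclusion.
-/

set_option autoImplicit false

namespace Cfsg.Agent.OddOrder.PF14

open Cfsg.Agent Cfsg.Agent.CharBasic Finset
open scoped ComplexConjugate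

universe u

variable {G : Type u} [Group G] [Fintype G]

/-- Part of the norm of `ξ` can be found in `P`. -/
def Part (ξ : G → ℂ) (P : Set G) (r : ℝ) : Prop :=
  ∃ v : G → ℂ, (∀ g, g ∉ P → v g = 0) ∧
    r ≤ 2 * (Cfsg.classInner ξ v).re - (Cfsg.classInner v v).re

omit [Fintype G] in
/-- Conjugates of `K ∖ N₀`. -/
def Side.part (D : Side G) : Set G := {a | ∃ x : G, ∃ k ∈ D.K, k ∉ D.N₀ ∧ a = x * k * x⁻¹}

omit [Fintype G] in
/-- Conjugates of `W₁ W₂ ∖ (W₁ ∪ W₂)`. -/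
def Side.partW (D : Side G) : Set G :=
  {a | ∃ x : G, ∃ w ∈ D.W₁ ⊔ D.W₂, w ∉ D.W₁ ∧ w ∉ D.W₂ ∧ a = x * w * x⁻¹}

theorem Side.Share.part {D : Side G} {ξ : G → ℂ} {r : ℝ} (h : D.Share ξ r) : Part ξ D.part r := by
  obtain ⟨v, hv, hle⟩ := h
  exact ⟨v, fun g hg => by_contra fun hne => hg (hv g hne), hle⟩

omit [Fintype G] in
theorem Side.part_disjoint_partW (D : Side G) : Disjoint D.partW D.part := by
  refine Set.disjoint_left.2 ?_
  rintro a ⟨x, w, hw, h1, h2, rfl⟩ ⟨y, k, hk, hkN, e⟩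
  have hA := D.A_mem k hk hkN
  have hwA := D.V_mem w hw h1 h2
  have hgS : x⁻¹ * y ∈ D.S := by
    by_contra hn
    refine D.ti _ hn w hwA ?_
    have : (x⁻¹ * y)⁻¹ * w * (x⁻¹ * y) = k := by
      calc (x⁻¹ * y)⁻¹ * w * (x⁻¹ * y) = y⁻¹ * (x * w * x⁻¹) * y := by group
        _ = k := by rw [e]; group
    rwa [this]
  have hK : w ∈ D.K := by
    have := D.K_normal _ hgS k hk
    have e' : x⁻¹ * y * k * (x⁻¹ * y)⁻¹ = w := by
      calc x⁻¹ * y * k * (x⁻¹ * y)⁻¹ = x⁻¹ * (y * k * y⁻¹) * x := by group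
        _ = w := by rw [← e]; group
    rwa [e'] at this
  obtain ⟨a, b, ha, hb, eab⟩ := H43.exists_mul_decomp D.hW ⟨w, hw⟩
  have eab' : w = (a : G) * b := congrArg Subtype.val eab
  have : (a : G) ∈ D.K ⊓ D.W₁ := Subgroup.mem_inf.2 ⟨by
    rw [show (a : G) = w * (b : G)⁻¹ by rw [eab', mul_inv_cancel_right]]
    exact mul_mem hK (inv_mem (D.W₂_le hb)), ha⟩
  rw [D.inf_eq, Subgroup.mem_bot] at this
  exact h2 (by rw [eab', this, one_mul]; exact hb)

/-- Two sides, the blocks, and what relates them. -/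
structure Setup (G : Type u) [Group G] [Fintype G] (ι : Type) [Fintype ι] [DecidableEq ι] where
  DS : Side G
  DT : Side G
  χS : (↥(DS.W₁ ⊔ DS.W₂) →* ℂˣ) → (G → ℂ)
  χT : (↥(DT.W₁ ⊔ DT.W₂) →* ℂˣ) → (G → ℂ)
  hχS : Cfsg.IsCyclicTIFamily DS.W₁ DS.W₂ χS
  hχT : Cfsg.IsCyclicTIFamily DT.W₁ DT.W₂ χT
  link : (↥(DT.W₁ ⊔ DT.W₂) →* ℂˣ) → (↥(DS.W₁ ⊔ DS.W₂) →* ℂˣ)
  link_mul : ∀ ω ω', link (ω * ω') = link ω * link ω'
  link_surj : Function.Surjective link
  link_fam : ∀ ω, χT ω = χS (link ω)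
  link_trivR : ∀ ω, H43.TrivR ω → H43.TrivL (link ω)
  link_trivL : ∀ ω, H43.TrivL ω → H43.TrivR (link ω)
  card_W₁ : Nat.card DT.W₁ = Nat.card DS.W₂
  card_W₂ : Nat.card DT.W₂ = Nat.card DS.W₁
  partW_eq : DT.partW = DS.partW
  ΘS : Finset (↥DS.K →* ℂˣ)
  ΘT : Finset (↥DT.K →* ℂˣ)
  covS : DS.Covered ΘS
  covT : DT.Covered ΘT
  B : ι → Block G
  disj : ∀ X Y, X ≠ Y → Disjoint (B X).Ω (B Y).Ω
  clearS : ∀ X, DS.Clear (B X)
  clearT : ∀ X, DT.Clear (B X)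
  disjST : Disjoint DS.part DT.part

namespace Setup

variable {ι : Type} [Fintype ι] [DecidableEq ι] (st : Setup G ι)

omit [Fintype G] in
theorem disjoint_part_omega {D : Side G} [Fintype G] {B : Block G} (h : D.Clear B) :
    Disjoint D.part B.Ω := Set.disjoint_left.2 fun a ⟨x, k, hk, hkN, e⟩ ha => h.notMem k hk hkN (by
  subst e
  simpa [mul_assoc] using B.conj_mem _ ha x⁻¹)

theorem disjoint_partW_omega {D : Side G} {B : Block G} (h : D.Clear B) :
    Disjoint D.partW B.Ω := Set.disjoint_left.2 fun a ⟨x, w, hw, h1, h2, e⟩ ha =>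
  h.avoid ⟨w, hw⟩ h1 h2 (by subst e; simpa [mul_assoc] using B.conj_mem _ ha x⁻¹)

/-- The parts share the norm. -/
theorem total {ξ : G → ℂ} (hξ : Cfsg.classInner ξ ξ = 1) {rW rS rT : ℝ} {r : ι → ℝ}
    (hW : Part ξ st.DS.partW rW) (hS : Part ξ st.DS.part rS) (hT : Part ξ st.DT.part rT)
    (hB : ∀ X, Part ξ (st.B X).Ω (r X)) : rW + rS + rT + ∑ X, r X ≤ 1 := by
  classical
  obtain ⟨vW, sW, lW⟩ := hW
  obtain ⟨vS, sS, lS⟩ := hS
  obtain ⟨vT, sT, lT⟩ := hT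
  choose v sv lv using hB
  have d1 := st.DS.part_disjoint_partW
  have d2 : Disjoint st.DS.partW st.DT.part := st.partW_eq ▸ st.DT.part_disjoint_partW
  let P : Fin 3 ⊕ ι → Set G := Sum.elim ![st.DS.partW, st.DS.part, st.DT.part] fun X => (st.B X).Ω
  let V : Fin 3 ⊕ ι → G → ℂ := Sum.elim ![vW, vS, vT] v
  have hsupp : ∀ i, ∀ g, g ∉ P i → V i g = 0 := by
    rintro (i | X)
    · fin_cases i
      exacts [sW, sS, sT]
    · exact sv X
  have hd : ∀ i j, i ≠ j → Disjoint (P i) (P j) := by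
    rintro (i | X) (j | Y) hij
    · fin_cases i <;> fin_cases j <;>
        first
          | exact absurd rfl hij
          | exact d1 | exact d1.symm | exact d2 | exact d2.symm
          | exact st.disjST | exact st.disjST.symm
    · fin_cases i
      exacts [disjoint_partW_omega (st.clearS Y), disjoint_part_omega (st.clearS Y),
        disjoint_part_omega (st.clearT Y)]
    · fin_cases j
      exacts [(disjoint_partW_omega (st.clearS X)).symm, (disjoint_part_omega (st.clearS X)).symm,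
        (disjoint_part_omega (st.clearT X)).symm]
    · exact st.disj X Y fun e => hij (congrArg Sum.inr e)
  have h := bessel (Finset.univ : Finset (Fin 3 ⊕ ι)) ξ V fun i _ j _ hij =>
    inner_eq_zero_of_disjoint (hsupp i) (hsupp j) (hd i j hij)
  rw [Fintype.sum_sum_type, Fin.sum_univ_three, hξ, Complex.one_re] at h
  have h2 : ∑ X, r X ≤ ∑ X, (2 * (Cfsg.classInner ξ (v X)).re
      - (Cfsg.classInner (v X) (v X)).re) := sum_le_sum fun X _ => lv X
  simp only [V, Sum.elim_inl, Sum.elim_inr, Matrix.cons_val_zero, Matrix.cons_val_one,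
    Matrix.cons_val_two, Matrix.tail_cons, Matrix.head_cons] at h
  linarith

/-- The share of a block in a function orthogonal to its family. -/
theorem part_block (B : Block G) {ξ : G → ℂ} (hξ : ∀ η ∈ B.S, Cfsg.classInner ξ (B.phi η) = 0)
    {t : ℤ} (ht : Cfsg.classInner ξ B.gamma = (t : ℂ)) :
    Part ξ B.Ω ((B.w : ℝ) * (t : ℝ) ^ 2) := by
  refine ⟨(t : ℂ) • B.vec, fun g hg => by simp [B.vec_supp g hg], le_of_eq ?_⟩
  rw [classInner_smul_right, classInner_smul_left, classInner_smul_right, B.pair_vec_of_orth ξ hξ, ht,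
    B.vec_self, map_intCast]
  rw [show ((t : ℂ)) * ((B.w : ℂ) * t) = (((t : ℝ) * ((B.w : ℝ) * t) : ℝ) : ℂ) by push_cast; rfl,
    show ((t : ℂ)) * ((t : ℂ) * (B.w : ℂ)) = (((t : ℝ) * ((t : ℝ) * (B.w : ℝ)) : ℝ) : ℂ) by
      push_cast; rfl,
    Complex.ofReal_re, Complex.ofReal_re]
  ring

theorem part_block_phi {X Y : ι} (h : X ≠ Y) :
    Part (st.B X).phi0 (st.B Y).Ω (((st.B Y).w : ℝ) * (((st.B Y).A (st.B X) : ℤ) : ℝ) ^ 2) :=
  part_block (t := (st.B Y).A (st.B X)) _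
    (fun η hη => Block.phi_orth_phi (st.disj X Y h) (st.B X).xi0_mem hη) (by
    have e : Cfsg.classInner (st.B Y).gamma ((st.B X).phi (st.B X).xi0) = ((st.B Y).A (st.B X) : ℂ) :=
      (Block.gamma_phi' (st.disj Y X (Ne.symm h)) (st.B X).xi0_mem).trans Block.Gamma_phi0'
    rw [← classInner_conj_symm (st.B Y).gamma, e, map_intCast])

theorem part_zero (ξ : G → ℂ) (P : Set G) : Part ξ P 0 := ⟨0, fun _ _ => rfl, by simp⟩

theorem part_wVec (ω : ↥(st.DS.W₁ ⊔ st.DS.W₂) →* ℂˣ) :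
    Part (st.χS ω) st.DS.partW (1 - (1 / (Nat.card st.DS.W₁ : ℝ) + 1 / (Nat.card st.DS.W₂ : ℝ)
      - 1 / ((Nat.card st.DS.W₁ : ℝ) * (Nat.card st.DS.W₂ : ℝ)))) :=
  ⟨wVec ω, fun _ hg => by_contra fun hne => hg (wVec_supp ω hne), wVec_bound st.DS.hW st.hχS ω⟩

theorem link_one : st.link 1 = 1 := by
  have h := st.link_mul 1 1
  rw [one_mul (1 : ↥(st.DT.W₁ ⊔ st.DT.W₂) →* ℂˣ)] at h
  exact MonoidHom.ext fun w => left_eq_mul.1 (DFunLike.congr_fun h w)

theorem link_inj {ω ω' : ↥(st.DT.W₁ ⊔ st.DT.W₂) →* ℂˣ} (h : st.link ω = st.link ω') : ω = ω' :=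
  PF3.family_injective st.hχT (by rw [st.link_fam, st.link_fam, h])

/-- A grid character of `S` read on the side of `T`. -/
theorem exists_link {φ ψ : ↥(st.DS.W₁ ⊔ st.DS.W₂) →* ℂˣ} (hφ : H43.TrivR φ) (hψ : H43.TrivL ψ) :
    ∃ φ' ψ', H43.TrivR φ' ∧ H43.TrivL ψ' ∧ st.link φ' = ψ ∧ st.link ψ' = φ ∧
      st.χT (φ' * ψ') = st.χS (φ * ψ) := by
  obtain ⟨ω, hω⟩ := st.link_surj (φ * ψ)
  obtain ⟨φ', ψ', hφ', hψ', rfl⟩ := H43.exists_factor st.DT.hW ω
  rw [st.link_mul] at hω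
  obtain ⟨e1, e2⟩ := H43.factor_unique st.DS.hW (st.link_trivL _ hψ') hφ (st.link_trivR _ hφ') hψ
    (Eq.trans (MonoidHom.ext fun w => by simp [mul_comm]) hω)
  exact ⟨φ', ψ', hφ', hψ', e2, e1, by rw [st.link_fam, st.link_mul, hω]⟩

theorem eta_self (ω : ↥(st.DS.W₁ ⊔ st.DS.W₂) →* ℂˣ) :
    Cfsg.classInner (st.χS ω) (st.χS ω) = 1 := by
  rw [st.hχS.orthonormal, if_pos rfl]

theorem part_block_eta (X : ι) {ω : ↥(st.DS.W₁ ⊔ st.DS.W₂) →* ℂˣ} (hω : ω ≠ 1) {t : ℤ}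
    (ht : Cfsg.classInner (st.B X).Gamma (st.χS ω) = (t : ℂ)) :
    Part (st.χS ω) (st.B X).Ω (((st.B X).w : ℝ) * (t : ℝ) ^ 2) :=
  part_block _ (fun _ hη => Block.eta_orth_phi st.DS.hW (Side.hodd st.DS) st.hχS (st.clearS X).avoid hη ω)
    (by rw [← classInner_conj_symm (st.B X).gamma,
      Block.gamma_eta st.DS.hW (Side.hodd st.DS) st.hχS (st.clearS X).avoid hω, ht, map_intCast])

/-- `⟨χ', γ⟩` for a free character. -/
theorem free_gamma {D : Side G} {χ : (↥(D.W₁ ⊔ D.W₂) →* ℂˣ) → (G → ℂ)}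
    (hχ : Cfsg.IsCyclicTIFamily D.W₁ D.W₂ χ) {B : Block G} (hB : D.Clear B) {χ₀ θ : ↥D.K →* ℂˣ}
    (hg : D.Good χ₀) (hf : D.Free θ) {σ : ℤ} {ψ₁ : ↥(D.W₁ ⊔ D.W₂) →* ℂˣ} (hψ : H43.TrivL ψ₁)
    (hψ1 : ψ₁ ≠ 1) {a c : ℤ} (hc : Cfsg.classInner B.Gamma (χ ψ₁) = (c : ℂ))
    (hac : ∀ φ, H43.TrivR φ → φ ≠ 1 →
      Cfsg.classInner B.Gamma (χ (φ * ψ₁)) = ((a + c - 1 : ℤ) : ℂ)) :
    Cfsg.classInner (D.freeChar χ χ₀ σ ψ₁ θ) B.gamma =
      ((σ * ((Nat.card D.W₁ : ℤ) * c + ((Nat.card D.W₁ : ℤ) - 1) * (a - 1)) : ℤ) : ℂ) := by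
  classical
  rw [Side.freeChar, classInner_sub_left, classInner_smul_left,
    show Cfsg.classInner (D.diff χ₀ θ) B.gamma = 0 from Side.diff_orth_tau hB hg hf.triv B.beta,
    sub_zero, Side.col, classInner_sum_left, ← add_sum_erase _ _ (D.mem_rowSet.2 H43.trivR_one),
    sum_congr rfl fun φ hφ => show Cfsg.classInner (χ (φ * ψ₁)) B.gamma = ((a + c - 1 : ℤ) : ℂ) by
      have hne : φ * ψ₁ ≠ 1 := fun e => hψ1 (H43.factor_unique D.hW (D.mem_rowSet.1 (mem_erase.1 hφ).2)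
        H43.trivR_one hψ H43.trivL_one (e.trans (one_mul (1 : ↥(D.W₁ ⊔ D.W₂) →* ℂˣ)).symm)).2
      rw [← classInner_conj_symm B.gamma, Block.gamma_eta D.hW (Side.hodd D) hχ hB.avoid hne,
        hac φ (D.mem_rowSet.1 (mem_erase.1 hφ).2) (mem_erase.1 hφ).1, map_intCast],
    one_mul ψ₁, sum_const, card_erase_of_mem (D.mem_rowSet.2 H43.trivR_one), D.card_rowSet,
    ← classInner_conj_symm B.gamma, Block.gamma_eta D.hW (Side.hodd D) hχ hB.avoid hψ1, hc,
    map_intCast, nsmul_eq_mul, Nat.cast_sub Nat.card_pos]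
  push_cast
  ring

/-- No free character: `u` is maximal. -/
theorem full_of_no_free {p q u n : ℕ} (hp : 3 ≤ p) (hpo : Odd p) (hq : 3 ≤ q)
    (h : SideNum p q u ((n : ℚ) + 1)) (hn : n ≤ (p - 1) * u) : u = normCard p q := by
  have hN := normCard_mul (show 2 ≤ p by omega) q
  rcases h.dich with ⟨⟨m, hm⟩, hD⟩ | ⟨h1, -, a, ha, had, hua⟩
  · have hD' : n + 1 = p ^ q := by exact_mod_cast hD
    have h2 : normCard p q * (p - 1) ≤ u * (p - 1) := by
      have e : u * (p - 1) = (p - 1) * u := mul_comm _ _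
      omega
    exact le_antisymm (Nat.le_of_dvd (Nat.pos_of_ne_zero fun e => by
      rw [e, zero_mul, zero_add] at hN
      exact absurd hN (Nat.one_lt_pow (show q ≠ 0 by omega) (show 1 < p by omega)).ne)
      ⟨m, hm⟩) (Nat.le_of_mul_le_mul_right h2 (by omega))
  · exfalso
    obtain ⟨k, hk⟩ := had
    have hk2 : 2 ≤ k := by
      rcases k with _ | _ | k
      · omega
      · obtain ⟨i, hi⟩ := hpo
        obtain ⟨j, hj⟩ := ha
        omega
      · omega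
    have h2a : 2 * a ≤ p - 1 := by rw [hk, mul_comm 2 a]; exact Nat.mul_le_mul_left a hk2
    have h4 : 4 * u * (p - 1) ≤ (p - 1) ^ q := by
      calc 4 * u * (p - 1) ≤ 2 ^ (q - 1) * a ^ (q - 1) * (p - 1) := by
            refine Nat.mul_le_mul_right _ (Nat.mul_le_mul ?_ (Nat.le_of_dvd (pow_pos ha.pos _) hua))
            exact le_trans (by norm_num) (Nat.pow_le_pow_right two_pos (show 2 ≤ q - 1 by omega))
        _ = (2 * a) ^ (q - 1) * (p - 1) := by rw [mul_pow]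
        _ ≤ (p - 1) ^ (q - 1) * (p - 1) := Nat.mul_le_mul_right _ (Nat.pow_le_pow_left h2a _)
        _ = (p - 1) ^ q := by rw [← pow_succ, Nat.sub_add_cancel (by omega)]
    have h5 : (p - 1) ^ q ≤ n + 1 := by
      have h1' : (((p - 1) ^ q : ℕ) : ℚ) ≤ ((n + 1 : ℕ) : ℚ) := by
        push_cast [Nat.cast_sub (show 1 ≤ p by omega)]
        exact h1
      exact_mod_cast h1'
    have h6 : 8 ≤ (p - 1) ^ q :=
      le_trans (by norm_num : 8 ≤ 2 ^ 3) ((Nat.pow_le_pow_left (show 2 ≤ p - 1 by omega) 3).trans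
        (Nat.pow_le_pow_right (by omega) hq))
    have h7 : 4 * u * (p - 1) = 4 * ((p - 1) * u) := by ring
    omega

open scoped Classical in
/-- The numerical conclusion. -/
theorem main (L M : ι) (hqp : Nat.card st.DS.W₁ < Nat.card st.DS.W₂)
    (hsS : SideNum (Nat.card st.DS.W₂) (Nat.card st.DS.W₁) (st.DS.H.relIndex st.DS.S)
      ((st.ΘS.card : ℚ) + 1))
    (hsT : SideNum (Nat.card st.DS.W₁) (Nat.card st.DS.W₂) (st.DT.H.relIndex st.DT.S)
      ((st.ΘT.card : ℚ) + 1))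
    (hg : Nat.card st.DS.W₂ ^ Nat.card st.DS.W₁ * Nat.card st.DS.W₁ ^ Nat.card st.DS.W₂ ≤ Nat.card G)
    (hL : st.DS.H.relIndex st.DS.S ∣ (st.B L).F * (st.B L).e + 1)
    (heL : (st.B L).e = Nat.card st.DS.W₁ ∨ (st.B L).e = Nat.card st.DS.W₂ * Nat.card st.DS.W₁)
    (hM : st.DT.H.relIndex st.DT.S ∣ (st.B M).F * (st.B M).e + 1)
    (heM : (st.B M).e = Nat.card st.DS.W₂ ∨ (st.B M).e = Nat.card st.DS.W₂ * Nat.card st.DS.W₁)
    (hcover : (1 : ℚ) / (Nat.card st.DS.W₂ : ℕ) + 1 / (Nat.card st.DS.W₁ : ℕ)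
        - 1 / ((Nat.card st.DS.W₂ : ℕ) * (Nat.card st.DS.W₁ : ℕ)) =
      ∑ X, ((st.B X).F : ℚ) / ((st.B X).F * (st.B X).e + 1) +
        (1 - 1 / ((Nat.card st.DS.W₂ : ℕ) : ℚ) ^ Nat.card st.DS.W₁) /
          ((st.DS.H.relIndex st.DS.S : ℕ) * (Nat.card st.DS.W₁ : ℕ)) +
        (1 - 1 / ((Nat.card st.DS.W₁ : ℕ) : ℚ) ^ Nat.card st.DS.W₂) /
          ((st.DT.H.relIndex st.DT.S : ℕ) * (Nat.card st.DS.W₂ : ℕ)) + 1 / (Nat.card G : ℕ))
    (hcyclicM : (st.B M).e = Nat.card st.DS.W₂ * Nat.card st.DS.W₁ →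
      (st.B M).F * (st.B M).e + 1 = st.DT.H.relIndex st.DT.S →
      st.DT.H.relIndex st.DT.S = normCard (Nat.card st.DS.W₁) (Nat.card st.DS.W₂) →
      ∀ r : ℕ, r.Prime → r ∣ st.DT.H.relIndex st.DT.S →
        Nat.card st.DS.W₂ * Nat.card st.DS.W₁ ∣ r - 1)
    (hcyclicL : L = M → (st.B L).e = Nat.card st.DS.W₂ * Nat.card st.DS.W₁ →
      (st.B L).F * (st.B L).e + 1 = st.DT.H.relIndex st.DT.S →
      st.DT.H.relIndex st.DT.S = normCard (Nat.card st.DS.W₁) (Nat.card st.DS.W₂) →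
      st.DS.H.relIndex st.DS.S % Nat.card st.DS.W₂ = 1)
    (hprimes : Nat.card st.DS.W₁ = 3 → (st.B L).e = Nat.card st.DS.W₂ * Nat.card st.DS.W₁ →
      (∃ b : ℕ, Odd b ∧ 2 * b + 1 = Nat.card st.DS.W₂ ∧ st.DS.H.relIndex st.DS.S = b ^ 2) →
      ∀ r : ℕ, r.Prime → r ∣ (st.B L).F * (st.B L).e + 1 → r ∣ st.DS.H.relIndex st.DS.S) :
    st.DS.H.relIndex st.DS.S = normCard (Nat.card st.DS.W₂) (Nat.card st.DS.W₁) ∧
      st.DT.H.relIndex st.DT.S = normCard (Nat.card st.DS.W₁) (Nat.card st.DS.W₂) ∧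
      (st.B L).e = Nat.card st.DS.W₂ * Nat.card st.DS.W₁ ∧
      ((st.B L).F * (st.B L).e + 1 = st.DS.H.relIndex st.DS.S ∨
        (L = M ∧ (st.B L).F * (st.B L).e + 1 = st.DT.H.relIndex st.DT.S)) := by
  classical
  set q := Nat.card st.DS.W₁ with hq
  set p := Nat.card st.DS.W₂ with hp
  set u := st.DS.H.relIndex st.DS.S with hu
  set v := st.DT.H.relIndex st.DT.S with hv
  set DS : ℚ := (st.ΘS.card : ℚ) + 1 with hDS
  set DT : ℚ := (st.ΘT.card : ℚ) + 1 with hDT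
  have hodd : Odd (Nat.card G) := st.DS.odd
  have hq3 : 3 ≤ q := by
    have := st.DS.hq.two_le
    obtain ⟨k, hk⟩ : Odd q := hodd.of_dvd_nat (Subgroup.card_subgroup_dvd_card _)
    omega
  have hpo : Odd p := hodd.of_dvd_nat (Subgroup.card_subgroup_dvd_card _)
  have hqo : Odd q := hodd.of_dvd_nat (Subgroup.card_subgroup_dvd_card _)
  have hNS : (st.DS.K.relIndex st.DS.S : ℝ) = (u : ℝ) * q := by
    rw [Side.relIndex_K, Nat.cast_mul]
  have hNT : (st.DT.K.relIndex st.DT.S : ℝ) = (v : ℝ) * p := by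
    rw [Side.relIndex_K, Nat.cast_mul, st.card_W₁]
  obtain ⟨θS, hgS⟩ := st.covS.reg.exists_good
  obtain ⟨θT, hgT⟩ := st.covT.reg.exists_good
  choose a c hR hL' hRL using fun X => Block.exists_ac (B := st.B X) st.DS.hW (Side.hodd st.DS) st.hχS
    (st.clearS X).avoid st.DS.hq st.DS.hp
  let φ₁ := st.link (st.DT.psi θT)
  have hφ₁ : H43.TrivR φ₁ := st.link_trivL _ (st.DT.psi_trivL θT)
  have hφ₁1 : φ₁ ≠ 1 := fun e => hgT.psi_ne_one (st.link_inj (e.trans st.link_one.symm))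
  let ψ₁ := st.DS.psi θS
  have hψ₁ : H43.TrivL ψ₁ := st.DS.psi_trivL θS
  have hψ₁1 : ψ₁ ≠ 1 := hgS.psi_ne_one
  have hne : ∀ φ ψ : ↥(st.DS.W₁ ⊔ st.DS.W₂) →* ℂˣ, H43.TrivR φ → H43.TrivL ψ → ψ ≠ 1 → φ * ψ ≠ 1 :=
    fun φ ψ hφ hψ h1 e => h1 (H43.factor_unique st.DS.hW hφ H43.trivR_one hψ H43.trivL_one
      (e.trans (one_mul (1 : ↥(st.DS.W₁ ⊔ st.DS.W₂) →* ℂˣ)).symm)).2
  -- `η₁₀`
  have e10 : (1 - (1 / (q : ℝ) + 1 / (p : ℝ) - 1 / ((q : ℝ) * p)))
      + (1 - 1 / ((st.ΘS.card : ℝ) + 1)) / ((u : ℝ) * q)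
      + (1 / (p : ℝ) - (v : ℝ) / ((p : ℝ) * ((st.ΘT.card : ℝ) + 1)))
      + ∑ X, ((st.B X).w : ℝ) * (a X : ℝ) ^ 2 ≤ 1 := by
    obtain ⟨φ', ψ', hφ', hψ', e1, e2, e3⟩ := st.exists_link hφ₁ (H43.trivL_one (W₁ := st.DS.W₁))
    have hψ'1 : ψ' ≠ 1 := fun e => hφ₁1 (by rw [← e2, e, st.link_one])
    have hT := (Side.share_col st.covT st.hχT hφ' hψ' hψ'1).part
    rw [e3, mul_one φ₁, st.card_W₁] at hT
    have hS := (Side.share_row st.covS st.hχS hφ₁ hφ₁1).part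
    rw [hNS] at hS
    exact st.total (st.eta_self _) (st.part_wVec _) hS hT fun X =>
      st.part_block_eta X hφ₁1 (hR X φ₁ hφ₁ hφ₁1)
  -- `η₀₁`
  have e01 : (1 - (1 / (q : ℝ) + 1 / (p : ℝ) - 1 / ((q : ℝ) * p)))
      + (1 / (q : ℝ) - (u : ℝ) / ((q : ℝ) * ((st.ΘS.card : ℝ) + 1)))
      + (1 - 1 / ((st.ΘT.card : ℝ) + 1)) / ((v : ℝ) * p)
      + ∑ X, ((st.B X).w : ℝ) * (c X : ℝ) ^ 2 ≤ 1 := by
    obtain ⟨φ', ψ', hφ', hψ', e1, e2, e3⟩ := st.exists_link (H43.trivR_one (W₂ := st.DS.W₂)) hψ₁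
    have hφ'1 : φ' ≠ 1 := fun e => hψ₁1 (by rw [← e1, e, st.link_one])
    have hT := (Side.share_row st.covT st.hχT hφ' hφ'1).part
    have hω : st.χT φ' = st.χS ψ₁ := by
      rw [st.link_fam, e1]
    rw [hω, hNT] at hT
    have hS := (Side.share_col st.covS st.hχS H43.trivR_one hψ₁ hψ₁1).part
    rw [one_mul ψ₁] at hS
    exact st.total (st.eta_self _) (st.part_wVec _) hS hT fun X =>
      st.part_block_eta X hψ₁1 (hL' X ψ₁ hψ₁ hψ₁1)
  -- `η₁₁`
  have e11 : (1 - (1 / (q : ℝ) + 1 / (p : ℝ) - 1 / ((q : ℝ) * p)))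
      + (1 / (q : ℝ) - (u : ℝ) / ((q : ℝ) * ((st.ΘS.card : ℝ) + 1)))
      + (1 / (p : ℝ) - (v : ℝ) / ((p : ℝ) * ((st.ΘT.card : ℝ) + 1)))
      + ∑ X, ((st.B X).w : ℝ) * ((a X + c X - 1 : ℤ) : ℝ) ^ 2 ≤ 1 := by
    obtain ⟨φ', ψ', hφ', hψ', e1, e2, e3⟩ := st.exists_link hφ₁ hψ₁
    have hψ'1 : ψ' ≠ 1 := fun e => hφ₁1 (by rw [← e2, e, st.link_one])
    have hT := (Side.share_col st.covT st.hχT hφ' hψ' hψ'1).part
    rw [e3, st.card_W₁] at hT
    have hS := (Side.share_col st.covS st.hχS hφ₁ hψ₁ hψ₁1).part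
    exact st.total (st.eta_self _) (st.part_wVec _) hS hT fun X =>
      st.part_block_eta X (hne _ _ hφ₁ hψ₁ hψ₁1) (hRL X φ₁ ψ₁ hφ₁ hψ₁ hφ₁1 hψ₁1)
  -- the free characters
  have eS : u = normCard p q ∨ ∑ X, ((st.B X).w : ℝ) *
      (((q : ℤ) * c X + ((q : ℤ) - 1) * (a X - 1) : ℤ) : ℝ) ^ 2 ≤
      (u : ℝ) * q / ((st.ΘS.card : ℝ) + 1) := by
    by_cases hf : ∃ θ, st.DS.Free θ
    swap
    · exact Or.inl (full_of_no_free (by omega) hpo hq3 hsS
        (Side.card_of_no_free st.covS fun θ hθ => hf ⟨θ, hθ⟩))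
    obtain ⟨θ, hθ⟩ := hf
    obtain ⟨σ, ψ, hcol, hall⟩ := st.DS.exists_free st.covS.reg st.hχS hgS hθ
    have hS := (Side.share_free st.covS st.hχS hgS
      (fun θ h => ⟨(hall θ h).2.1, (hall θ h).2.2.1, (hall θ h).2.2.2⟩) hθ).part
    rw [hNS] at hS
    have hσ : (σ : ℝ) ^ 2 = 1 := by
      rcases hcol.cases with ⟨h, -⟩ | ⟨h, -⟩ <;> simp [h]
    have hB : ∀ X, Part (st.DS.freeChar st.χS θS σ ψ θ) (st.B X).Ω (((st.B X).w : ℝ) *
        (((q : ℤ) * c X + ((q : ℤ) - 1) * (a X - 1) : ℤ) : ℝ) ^ 2) := by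
      intro X
      have h := part_block (st.B X)
        (fun η hη => Side.freeChar_phi st.hχS (st.clearS X) hgS hθ (hall θ hθ).2.1 hη)
        (free_gamma st.hχS (st.clearS X) hgS hθ hcol.trivL hcol.ne_one
          (hL' X ψ hcol.trivL hcol.ne_one)
          (fun φ hφ h1 => hRL X φ ψ hφ hcol.trivL h1 hcol.ne_one))
      rwa [Int.cast_mul, mul_pow, hσ, one_mul] at h
    have h := st.total (hall θ hθ).2.1.inner_self (part_zero _ _) hS (part_zero _ _) hB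
    exact Or.inr (by linarith)
  have eT : v = normCard q p ∨ ∑ X, ((st.B X).w : ℝ) *
      (((p : ℤ) * a X + ((p : ℤ) - 1) * (c X - 1) : ℤ) : ℝ) ^ 2 ≤
      (v : ℝ) * p / ((st.ΘT.card : ℝ) + 1) := by
    by_cases hf : ∃ θ, st.DT.Free θ
    swap
    · refine Or.inl (full_of_no_free hq3 hqo (by omega) hsT ?_)
      have := Side.card_of_no_free st.covT fun θ hθ => hf ⟨θ, hθ⟩
      rwa [st.card_W₂] at this
    obtain ⟨θ, hθ⟩ := hf
    obtain ⟨σ, ψ, hcol, hall⟩ := st.DT.exists_free st.covT.reg st.hχT hgT hθ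
    have hT := (Side.share_free st.covT st.hχT hgT
      (fun θ h => ⟨(hall θ h).2.1, (hall θ h).2.2.1, (hall θ h).2.2.2⟩) hθ).part
    rw [hNT] at hT
    have hσ : (σ : ℝ) ^ 2 = 1 := by
      rcases hcol.cases with ⟨h, -⟩ | ⟨h, -⟩ <;> simp [h]
    have hlψ : st.link ψ ≠ 1 := fun e => hcol.ne_one (st.link_inj (e.trans st.link_one.symm))
    have hB : ∀ X, Part (st.DT.freeChar st.χT θT σ ψ θ) (st.B X).Ω (((st.B X).w : ℝ) *
        (((p : ℤ) * a X + ((p : ℤ) - 1) * (c X - 1) : ℤ) : ℝ) ^ 2) := by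
      intro X
      have h := part_block (st.B X)
        (fun η hη => Side.freeChar_phi st.hχT (st.clearT X) hgT hθ (hall θ hθ).2.1 hη)
        (free_gamma (a := c X) (c := a X) st.hχT (st.clearT X) hgT hθ hcol.trivL hcol.ne_one
          (by rw [st.link_fam]; exact hR X _ (st.link_trivL _ hcol.trivL) hlψ)
          (fun φ hφ h1 => by
            rw [st.link_fam, st.link_mul, mul_comm (st.link φ),
              hRL X _ _ (st.link_trivL _ hcol.trivL) (st.link_trivR _ hφ) hlψ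
                (fun e => h1 (st.link_inj (e.trans st.link_one.symm))), add_comm (c X)]))
      rwa [Int.cast_mul, mul_pow, hσ, one_mul, st.card_W₁] at h
    have h := st.total (hall θ hθ).2.1.inner_self (part_zero _ _) (part_zero _ _) hT hB
    exact Or.inr (by linarith)
  -- the characters of the blocks
  have eφ : ∀ X, ((((q : ℤ) * Side.coefB st.χS (st.B X) st.hχS hgS : ℤ) : ℝ) ^ 2
        * (1 - 1 / ((st.ΘS.card : ℝ) + 1)) / ((u : ℝ) * q))
      + ((((p : ℤ) * Side.coefB st.χT (st.B X) st.hχT hgT : ℤ) : ℝ) ^ 2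
        * (1 - 1 / ((st.ΘT.card : ℝ) + 1)) / ((v : ℝ) * p))
      + ∑ Y ∈ Finset.univ.erase X, ((st.B Y).w : ℝ) * (((st.B Y).A (st.B X) : ℤ) : ℝ) ^ 2
      ≤ ((st.B X).e : ℝ) / (Nat.card (st.B X).H : ℝ) := by
    intro X
    have hS := (Side.share_phi st.covS st.hχS (st.clearS X) hgS).part
    have hT := (Side.share_phi st.covT st.hχT (st.clearT X) hgT).part
    rw [hNS] at hS
    rw [hNT, st.card_W₁] at hT
    have h := st.total (r := fun Y => if Y = X then 1 - ((st.B X).e : ℝ) / (Nat.card (st.B X).H : ℝ)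
        else ((st.B Y).w : ℝ) * (((st.B Y).A (st.B X) : ℤ) : ℝ) ^ 2)
      (st.B X).phi0_self (part_zero _ _) hS hT fun Y => by
        by_cases h : Y = X
        · subst h
          rw [if_pos rfl]
          exact ⟨(st.B Y).own, (st.B Y).own_supp, (st.B Y).own_bound⟩
        · rw [if_neg h]
          exact st.part_block_phi (Ne.symm h)
    rw [← add_sum_erase _ _ (mem_univ X), if_pos rfl,
      sum_congr rfl fun Y hY => if_neg (mem_erase.1 hY).1] at h
    linarith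
  have toQ : ∀ x y : ℚ, (x : ℝ) ≤ (y : ℝ) → x ≤ y := fun x y h => Rat.cast_le.1 h
  let d : NumData ι :=
    { p := p, q := q, u := u, v := v, g := Nat.card G, DS := DS, DT := DT, L := L, M := M
      e := fun X => (st.B X).e
      F := fun X => (st.B X).F
      a := a, c := c
      A := fun X Y => (st.B X).A (st.B Y)
      aS := fun X => Side.coefB st.χS (st.B X) st.hχS hgS
      aT := fun X => Side.coefB st.χT (st.B X) st.hχT hgT
      hp := st.DS.hp, hq := st.DS.hq, hq3 := hq3, hqp := hqp, sideS := hsS, sideT := hsT, hg := hg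
      F_pos := fun X => le_trans one_le_two (st.B X).two_le_F
      e_pos := fun X => (st.B X).e_pos
      h_odd := fun X => by rw [(st.B X).card_H]; exact (st.B X).odd_card_H
      L_dvd := hL, eL := heL, M_dvd := hM, eM := heM, cover := hcover
      i10 := toQ _ _ (by
        simp only [Block.w] at e10
        push_cast [hDS, hDT] at e10 ⊢
        linear_combination e10)
      i01 := toQ _ _ (by
        simp only [Block.w] at e01
        push_cast [hDS, hDT] at e01 ⊢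
        linear_combination e01)
      i11 := toQ _ _ (by
        simp only [Block.w] at e11
        push_cast [hDS, hDT] at e11 ⊢
        linear_combination e11)
      chiS := eS.imp_right fun h => toQ _ _ (by
        simp only [Block.w] at h
        push_cast [hDS] at h ⊢
        linear_combination h)
      chiT := eT.imp_right fun h => toQ _ _ (by
        simp only [Block.w] at h
        push_cast [hDT] at h ⊢
        linear_combination h)
      budget := fun X => budget_grid st.B st.disj st.DS.hW (Side.hodd st.DS) st.hχS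
        (fun Y => (st.clearS Y).avoid) X (hR X) (hL' X) (hRL X)
      budgetS := Side.budget_blocks st.B st.disj st.covS.reg st.hχS hgS st.clearS
      budgetT := by
        rw [hp, ← st.card_W₁]
        exact Side.budget_blocks st.B st.disj st.covT.reg st.hχT hgT st.clearT
      parity := fun X Y h => Block.parity hodd (st.disj X Y h)
      parityS := fun X => Side.parity st.covS.reg st.hχS (st.clearS X) hgS (hL' X ψ₁ hψ₁ hψ₁1)
      parityT := fun X => Side.parity st.covT.reg st.hχT (st.clearT X) hgT (by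
        rw [st.link_fam]; exact hR X φ₁ hφ₁ hφ₁1)
      iphi := fun X => toQ _ _ (by
        have h := eφ X
        rw [← (st.B X).card_H] at h
        simp only [Block.w] at h
        push_cast [hDS, hDT] at h ⊢
        linear_combination h)
      hcyclicM := hcyclicM, hcyclicL := hcyclicL, hprimes := hprimes }
  exact d.main

end Setup

end Cfsg.Agent.OddOrder.PF14
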