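import Cfsg.Agent.OddOrder.PF14.NumLemmas

/-!
Peterfalvi section 14: the numerical core.

`q = |W₁| < p = |W₂|`, `S = P U W₁`, `T = Q V W₂` with `|U| = u`, `|V| = v`.  The index type
runs over the remaining blocks (maximal subgroups of Type I, and `T' ∖ Q` when `T` has Type III);
for a block `e` is the index, `F` the norm of the coherent family, `(a, c, a + c - 1)` the
coefficients of its Dade image on the cyclic TI grid, and `A` the coefficients on the other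
families.
-/

set_option autoImplicit false

namespace Cfsg.Agent.OddOrder.PF14

/-- What is used about one side: `D - 1` characters of the Fitting Hall subgroup are under
control. -/
structure SideNum (p q u : ℕ) (D : ℚ) : Prop where
  dich : (u ∣ normCard p q ∧ D = (p : ℚ) ^ q) ∨
    (((p : ℚ) - 1) ^ q ≤ D ∧ D ≤ (p : ℚ) ^ q ∧ ∃ a : ℕ, Odd a ∧ a ∣ p - 1 ∧ u ∣ a ^ (q - 1))
  mod : u % q = 1
  odd : Odd u
  one_lt : 1 < u

/-- The norm of the grid part. -/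
def etaNorm (p q : ℕ) (a c : ℤ) : ℤ :=
  (q - 1) * a ^ 2 + (p - 1) * c ^ 2 + (p - 1) * (q - 1) * (a + c - 1) ^ 2

/-- The numerical data of Peterfalvi section 14. -/
structure NumData (ι : Type*) [Fintype ι] [DecidableEq ι] where
  p : ℕ
  q : ℕ
  u : ℕ
  v : ℕ
  g : ℕ
  DS : ℚ
  DT : ℚ
  L : ι
  M : ι
  e : ι → ℕ
  F : ι → ℕ
  a : ι → ℤ
  c : ι → ℤ
  A : ι → ι → ℤ
  aS : ι → ℤ
  aT : ι → ℤ
  hp : p.Prime
  hq : q.Prime
  hq3 : 3 ≤ q
  hqp : q < p
  sideS : SideNum p q u DS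
  sideT : SideNum q p v DT
  hg : p ^ q * q ^ p ≤ g
  F_pos : ∀ X, 1 ≤ F X
  e_pos : ∀ X, 1 ≤ e X
  h_odd : ∀ X, Odd (F X * e X + 1)
  L_dvd : u ∣ F L * e L + 1
  eL : e L = q ∨ e L = p * q
  M_dvd : v ∣ F M * e M + 1
  eM : e M = p ∨ e M = p * q
  cover : (1 : ℚ) / p + 1 / q - 1 / (p * q) =
    ∑ X, (F X : ℚ) / (F X * e X + 1) + (1 - 1 / (p : ℚ) ^ q) / (u * q) +
      (1 - 1 / (q : ℚ) ^ p) / (v * p) + 1 / g
  i10 : ∑ X, (F X : ℚ) / (F X * e X + 1) * (a X : ℚ) ^ 2 + (1 - 1 / DS) / (u * q) ≤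
    (1 : ℚ) / p + 1 / q - 1 / (p * q) - 1 / p + v / (p * DT)
  i01 : ∑ X, (F X : ℚ) / (F X * e X + 1) * (c X : ℚ) ^ 2 + (1 - 1 / DT) / (v * p) ≤
    (1 : ℚ) / p + 1 / q - 1 / (p * q) - 1 / q + u / (q * DS)
  i11 : ∑ X, (F X : ℚ) / (F X * e X + 1) * ((a X + c X - 1 : ℤ) : ℚ) ^ 2 ≤
    -1 / (p * q) + u / (q * DS) + v / (p * DT)
  chiS : u = normCard p q ∨
    ∑ X, (F X : ℚ) / (F X * e X + 1) * ((q * c X + (q - 1) * (a X - 1) : ℤ) : ℚ) ^ 2 ≤ u * q / DS
  chiT : v = normCard q p ∨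
    ∑ X, (F X : ℚ) / (F X * e X + 1) * ((p * a X + (p - 1) * (c X - 1) : ℤ) : ℚ) ^ 2 ≤ v * p / DT
  budget : ∀ X, etaNorm p q (a X) (c X) + ∑ Y ∈ Finset.univ.erase X, A X Y ^ 2 * (F Y : ℤ) ≤
    (e X : ℤ) - 1
  budgetS : (∑ X, aS X ^ 2 * (F X : ℤ)) * q ≤ (u : ℤ) - 1
  budgetT : (∑ X, aT X ^ 2 * (F X : ℤ)) * p ≤ (v : ℤ) - 1
  parity : ∀ X Y, X ≠ Y → Odd (A X Y + A Y X)
  parityS : ∀ X, Odd (aS X + c X)
  parityT : ∀ X, Odd (aT X + a X)
  iphi : ∀ X, ∑ Y ∈ Finset.univ.erase X, (F Y : ℚ) / (F Y * e Y + 1) * (A Y X : ℚ) ^ 2 +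
      (q * aS X : ℚ) ^ 2 * ((1 - 1 / DS) / (u * q)) +
      (p * aT X : ℚ) ^ 2 * ((1 - 1 / DT) / (v * p)) ≤ (e X : ℚ) / (F X * e X + 1)
  hcyclicM : e M = p * q → F M * e M + 1 = v → v = normCard q p →
    ∀ r : ℕ, r.Prime → r ∣ v → p * q ∣ r - 1
  hcyclicL : L = M → e L = p * q → F L * e L + 1 = v → v = normCard q p → u % p = 1
  hprimes : q = 3 → e L = p * q → (∃ b : ℕ, Odd b ∧ 2 * b + 1 = p ∧ u = b ^ 2) →
    ∀ r : ℕ, r.Prime → r ∣ F L * e L + 1 → r ∣ u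

namespace NumData

variable {ι : Type*} [Fintype ι] [DecidableEq ι] (d : NumData ι)

/-- The weight of a block. -/
def w (X : ι) : ℚ := (d.F X : ℚ) / (d.F X * d.e X + 1)

/-- `u p / D` on the side of `S`. -/
def US : ℚ := d.u * d.p / d.DS

/-- `v q / D` on the side of `T`. -/
def VT : ℚ := d.v * d.q / d.DT

theorem p_odd : Odd d.p := d.hp.odd_of_ne_two (by have := d.hq3; have := d.hqp; omega)

theorem q_odd : Odd d.q := d.hq.odd_of_ne_two (by have := d.hq3; omega)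

theorem q_add_two_le : d.q + 2 ≤ d.p := by
  obtain ⟨a, ha⟩ := d.p_odd
  obtain ⟨b, hb⟩ := d.q_odd
  have := d.hqp
  omega

theorem p_ge : 5 ≤ d.p := by have := d.q_add_two_le; have := d.hq3; omega

theorem u_ge : 2 * d.q + 1 ≤ d.u := by
  have h1 := Nat.div_add_mod d.u d.q
  rw [d.sideS.mod] at h1
  obtain ⟨k, hk⟩ := d.sideS.odd
  obtain ⟨j, hj⟩ := d.q_odd
  have h0 : d.u / d.q ≠ 0 := fun e => by rw [e] at h1; have := d.sideS.one_lt; omega
  have h2 : d.u / d.q ≠ 1 := fun e => by rw [e] at h1; omega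
  have h3 := Nat.mul_le_mul_left d.q ((Nat.two_le_iff _).mpr ⟨h0, h2⟩)
  omega

theorem v_ge : 2 * d.p + 1 ≤ d.v := by
  have h1 := Nat.div_add_mod d.v d.p
  rw [d.sideT.mod] at h1
  obtain ⟨k, hk⟩ := d.sideT.odd
  obtain ⟨j, hj⟩ := d.p_odd
  have h0 : d.v / d.p ≠ 0 := fun e => by rw [e] at h1; have := d.sideT.one_lt; omega
  have h2 : d.v / d.p ≠ 1 := fun e => by rw [e] at h1; omega
  have h3 := Nat.mul_le_mul_left d.p ((Nat.two_le_iff _).mpr ⟨h0, h2⟩)
  omega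

theorem DS_bounds : ((d.p : ℚ) - 1) ^ d.q ≤ d.DS ∧ d.DS ≤ (d.p : ℚ) ^ d.q := by
  have hp : (5 : ℚ) ≤ d.p := by exact_mod_cast d.p_ge
  rcases d.sideS.dich with ⟨-, h⟩ | ⟨h1, h2, -⟩
  · rw [h]
    exact ⟨pow_le_pow_left₀ (by linarith) (by linarith) _, le_rfl⟩
  · exact ⟨h1, h2⟩

theorem DT_bounds : ((d.q : ℚ) - 1) ^ d.p ≤ d.DT ∧ d.DT ≤ (d.q : ℚ) ^ d.p := by
  have hq : (3 : ℚ) ≤ d.q := by exact_mod_cast d.hq3
  rcases d.sideT.dich with ⟨-, h⟩ | ⟨h1, h2, -⟩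
  · rw [h]
    exact ⟨pow_le_pow_left₀ (by linarith) (by linarith) _, le_rfl⟩
  · exact ⟨h1, h2⟩

theorem DS_pos : 0 < d.DS := by
  have hp : (5 : ℚ) ≤ d.p := by exact_mod_cast d.p_ge
  exact lt_of_lt_of_le (pow_pos (by linarith) _) d.DS_bounds.1

theorem DT_pos : 0 < d.DT := by
  have hq : (3 : ℚ) ≤ d.q := by exact_mod_cast d.hq3
  exact lt_of_lt_of_le (pow_pos (by linarith) _) d.DT_bounds.1

theorem small_S : (d.p : ℚ) / (d.u * d.DS) ≤ 5 / 448 := by
  have hp : (5 : ℚ) ≤ d.p := by exact_mod_cast d.p_ge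
  have hu : (7 : ℚ) ≤ d.u := by
    have := d.u_ge; have := d.hq3
    exact_mod_cast (show 7 ≤ d.u by omega)
  have h1 : ((d.p : ℚ) - 1) ^ 3 ≤ d.DS :=
    le_trans (pow_le_pow_right₀ (by linarith) d.hq3) d.DS_bounds.1
  have h2 : (4 : ℚ) * 4 * ((d.p : ℚ) - 1) ≤ ((d.p : ℚ) - 1) ^ 3 := by
    nlinarith [mul_le_mul (show (4 : ℚ) ≤ d.p - 1 by linarith) (show (4 : ℚ) ≤ d.p - 1 by linarith)
      (by norm_num) (by linarith)]
  have h3 := mul_le_mul hu (h2.trans h1) (by linarith) (by linarith)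
  rw [div_le_iff₀ (mul_pos (by linarith) d.DS_pos)]
  linarith

theorem small_T : (d.q : ℚ) / (d.v * d.DT) ≤ 3 / 352 := by
  have hq : (3 : ℚ) ≤ d.q := by exact_mod_cast d.hq3
  have hv : (11 : ℚ) ≤ d.v := by
    have := d.v_ge; have := d.p_ge
    exact_mod_cast (show 11 ≤ d.v by omega)
  have h1 : ((d.q : ℚ) - 1) ^ 5 ≤ d.DT :=
    le_trans (pow_le_pow_right₀ (by linarith) d.p_ge) d.DT_bounds.1
  have h2 : (16 : ℚ) * ((d.q : ℚ) - 1) ≤ ((d.q : ℚ) - 1) ^ 5 := by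
    have : (2 : ℚ) ^ 4 ≤ ((d.q : ℚ) - 1) ^ 4 := pow_le_pow_left₀ (by norm_num) (by linarith) _
    rw [pow_succ]
    exact mul_le_mul_of_nonneg_right (by linarith) (by linarith)
  have h3 := mul_le_mul hv (h2.trans h1) (by linarith) (by linarith)
  rw [div_le_iff₀ (mul_pos (by linarith) d.DT_pos)]
  linarith

theorem small_g : (d.p * d.q : ℚ) / d.g ≤ 1 / 2025 := by
  have h : 2025 * (d.p * d.q) ≤ d.g := by
    refine le_trans ?_ d.hg
    have h1 : 5 ^ 2 ≤ d.p ^ (d.q - 1) := (Nat.pow_le_pow_left d.p_ge 2).trans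
      (Nat.pow_le_pow_right (by have := d.p_ge; omega) (by have := d.hq3; omega))
    have h2 : 3 ^ 4 ≤ d.q ^ (d.p - 1) := (Nat.pow_le_pow_left d.hq3 4).trans
      (Nat.pow_le_pow_right (by have := d.hq3; omega) (by have := d.p_ge; omega))
    calc 2025 * (d.p * d.q) = (5 ^ 2 * 3 ^ 4) * (d.p * d.q) := by norm_num
      _ ≤ (d.p ^ (d.q - 1) * d.q ^ (d.p - 1)) * (d.p * d.q) := by gcongr
      _ = d.p ^ (d.q - 1) * d.p * (d.q ^ (d.p - 1) * d.q) := by ring
      _ = _ := by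
        rw [← pow_succ, ← pow_succ, Nat.sub_add_cancel (by have := d.hq3; omega),
          Nat.sub_add_cancel (by have := d.p_ge; omega)]
  have hg : (0 : ℚ) < d.g := by
    have hpq : 0 < d.p * d.q := Nat.mul_pos d.hp.pos d.hq.pos
    exact_mod_cast (show 0 < d.g by omega)
  rw [div_le_iff₀ hg]
  have : (2025 : ℚ) * (d.p * d.q) ≤ d.g := by exact_mod_cast h
  linarith

theorem eps : (d.p : ℚ) / (d.u * d.DS) + d.q / (d.v * d.DT) + (d.p * d.q : ℚ) / d.g ≤ 21 / 1000 := by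
  linarith [d.small_S, d.small_T, d.small_g]

theorem w_nonneg (X : ι) : 0 ≤ d.w X := by rw [w]; positivity

theorem total : (d.p : ℚ) + d.q - 1 - d.p / d.u - d.q / d.v - (d.p * d.q : ℚ) / d.g ≤
    d.p * d.q * ∑ X, d.w X := by
  have hp : (d.p : ℚ) ≠ 0 := by exact_mod_cast d.hp.ne_zero
  have hq : (d.q : ℚ) ≠ 0 := by exact_mod_cast d.hq.ne_zero
  have hu : (0 : ℚ) < d.u := by exact_mod_cast (show 0 < d.u by have := d.u_ge; omega)
  have hv : (0 : ℚ) < d.v := by exact_mod_cast (show 0 < d.v by have := d.v_ge; omega)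
  have h : (d.p * d.q : ℚ) * _ = (d.p * d.q : ℚ) * _ :=
    congrArg ((d.p * d.q : ℚ) * ·) d.cover
  have e1 : (d.p * d.q : ℚ) * (1 / d.p + 1 / d.q - 1 / (d.p * d.q)) = d.q + d.p - 1 := by
    field_simp
  have e2 : (d.p * d.q : ℚ) * ((1 - 1 / (d.p : ℚ) ^ d.q) / (d.u * d.q)) ≤ d.p / d.u := by
    rw [show (d.p * d.q : ℚ) * ((1 - 1 / (d.p : ℚ) ^ d.q) / (d.u * d.q)) =
      d.p / d.u - d.p / d.u * (1 / (d.p : ℚ) ^ d.q) by field_simp]
    linarith [show (0 : ℚ) ≤ d.p / d.u * (1 / (d.p : ℚ) ^ d.q) by positivity]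
  have e3 : (d.p * d.q : ℚ) * ((1 - 1 / (d.q : ℚ) ^ d.p) / (d.v * d.p)) ≤ d.q / d.v := by
    rw [show (d.p * d.q : ℚ) * ((1 - 1 / (d.q : ℚ) ^ d.p) / (d.v * d.p)) =
      d.q / d.v - d.q / d.v * (1 / (d.q : ℚ) ^ d.p) by field_simp]
    linarith [show (0 : ℚ) ≤ d.q / d.v * (1 / (d.q : ℚ) ^ d.p) by positivity]
  rw [e1, mul_add, mul_add, mul_add] at h
  change _ = (d.p * d.q : ℚ) * ∑ X, d.w X + _ + _ + _ at h
  rw [mul_one_div] at h
  linarith

theorem scaled10 : d.p * d.q * ∑ X, d.w X * (d.a X : ℚ) ^ 2 + d.p / d.u - d.p / (d.u * d.DS) ≤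
    d.p - 1 + d.VT := by
  have hp : (d.p : ℚ) ≠ 0 := by exact_mod_cast d.hp.ne_zero
  have hq : (d.q : ℚ) ≠ 0 := by exact_mod_cast d.hq.ne_zero
  have hu : (d.u : ℚ) ≠ 0 := by exact_mod_cast (show d.u ≠ 0 by have := d.u_ge; omega)
  have hS := d.DS_pos.ne'
  have hT := d.DT_pos.ne'
  have h := mul_le_mul_of_nonneg_left d.i10 (show (0 : ℚ) ≤ d.p * d.q by positivity)
  have e1 : (d.p * d.q : ℚ) * ((1 - 1 / d.DS) / (d.u * d.q)) =
      d.p / d.u - d.p / (d.u * d.DS) := by field_simp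
  have e2 : (d.p * d.q : ℚ) * (1 / d.p + 1 / d.q - 1 / (d.p * d.q) - 1 / d.p + d.v / (d.p * d.DT))
      = d.p - 1 + d.v * d.q / d.DT := by field_simp; ring
  rw [mul_add, e1, e2] at h
  simp only [w, VT]
  linarith

theorem scaled01 : d.p * d.q * ∑ X, d.w X * (d.c X : ℚ) ^ 2 + d.q / d.v - d.q / (d.v * d.DT) ≤
    d.q - 1 + d.US := by
  have hp : (d.p : ℚ) ≠ 0 := by exact_mod_cast d.hp.ne_zero
  have hq : (d.q : ℚ) ≠ 0 := by exact_mod_cast d.hq.ne_zero
  have hv : (d.v : ℚ) ≠ 0 := by exact_mod_cast (show d.v ≠ 0 by have := d.v_ge; omega)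
  have hS := d.DS_pos.ne'
  have hT := d.DT_pos.ne'
  have h := mul_le_mul_of_nonneg_left d.i01 (show (0 : ℚ) ≤ d.p * d.q by positivity)
  have e1 : (d.p * d.q : ℚ) * ((1 - 1 / d.DT) / (d.v * d.p)) =
      d.q / d.v - d.q / (d.v * d.DT) := by field_simp
  have e2 : (d.p * d.q : ℚ) * (1 / d.p + 1 / d.q - 1 / (d.p * d.q) - 1 / d.q + d.u / (d.q * d.DS))
      = d.q - 1 + d.u * d.p / d.DS := by field_simp; ring
  rw [mul_add, e1, e2] at h
  simp only [w, US]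
  linarith

theorem scaled11 : d.p * d.q * ∑ X, d.w X * ((d.a X + d.c X - 1 : ℤ) : ℚ) ^ 2 ≤
    -1 + d.US + d.VT := by
  have hp : (d.p : ℚ) ≠ 0 := by exact_mod_cast d.hp.ne_zero
  have hq : (d.q : ℚ) ≠ 0 := by exact_mod_cast d.hq.ne_zero
  have hS := d.DS_pos.ne'
  have hT := d.DT_pos.ne'
  have h := mul_le_mul_of_nonneg_left d.i11 (show (0 : ℚ) ≤ d.p * d.q by positivity)
  have e2 : (d.p * d.q : ℚ) * (-1 / (d.p * d.q) + d.u / (d.q * d.DS) + d.v / (d.p * d.DT))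
      = -1 + d.u * d.p / d.DS + d.v * d.q / d.DT := by field_simp
  rw [e2] at h
  simp only [w, US, VT]
  linarith

theorem sum_sq_pos (X : ι) :
    (1 : ℚ) ≤ (d.a X : ℚ) ^ 2 + (d.c X : ℚ) ^ 2 + ((d.a X + d.c X - 1 : ℤ) : ℚ) ^ 2 := by
  have h : (1 : ℤ) ≤ d.a X ^ 2 + d.c X ^ 2 + (d.a X + d.c X - 1) ^ 2 := by
    by_cases ha : d.a X = 0
    · by_cases hc : d.c X = 0
      · simp [ha, hc]
      · nlinarith [Int.one_le_abs hc, sq_abs (d.c X), sq_nonneg (d.a X + d.c X - 1)]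
    · nlinarith [Int.one_le_abs ha, sq_abs (d.a X), sq_nonneg (d.a X + d.c X - 1),
        sq_nonneg (d.c X)]
  exact_mod_cast h

/-- `U + V` is almost at least one. -/
theorem key : 1 - 21 / 2000 ≤ d.US + d.VT := by
  have h : d.p * d.q * ∑ X, d.w X ≤ d.p * d.q * ∑ X, d.w X * (d.a X : ℚ) ^ 2 +
      d.p * d.q * ∑ X, d.w X * (d.c X : ℚ) ^ 2 +
      d.p * d.q * ∑ X, d.w X * ((d.a X + d.c X - 1 : ℤ) : ℚ) ^ 2 := by
    rw [← mul_add, ← mul_add, ← Finset.sum_add_distrib, ← Finset.sum_add_distrib]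
    gcongr with X
    nlinarith [d.w_nonneg X, d.sum_sq_pos X]
  linarith [d.total, d.scaled10, d.scaled01, d.scaled11, d.eps]

theorem gal_bound {p q u m : ℕ} (hp : 2 ≤ p) (hu : u * m = normCard p q) :
    (u * p / (p : ℚ) ^ q) * m * (p - 1 : ℚ) ≤ p := by
  have h : u * m * (p - 1) ≤ p ^ q := by
    rw [hu]
    have := normCard_mul hp q
    omega
  have h' : (u : ℚ) * m * (p - 1 : ℚ) ≤ (p : ℚ) ^ q := by
    have := (Nat.cast_le (α := ℚ)).mpr h
    push_cast [Nat.cast_sub (show 1 ≤ p by omega)] at this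
    exact this
  have hp0 : (0 : ℚ) < (p : ℚ) ^ q := pow_pos (by exact_mod_cast (show 0 < p by omega)) _
  rw [div_mul_eq_mul_div, div_mul_eq_mul_div, div_le_iff₀ hp0]
  calc (u : ℚ) * p * m * (p - 1 : ℚ) = p * (u * m * (p - 1 : ℚ)) := by ring
    _ ≤ p * (p : ℚ) ^ q := mul_le_mul_of_nonneg_left h' (by positivity)

theorem split_bound {p q u a : ℕ} {D : ℚ} (hp : 3 ≤ p) (hpo : Odd p) (hq : 1 ≤ q) (ha : Odd a)
    (had : a ∣ p - 1) (hu : u ∣ a ^ (q - 1)) (hD : ((p : ℚ) - 1) ^ q ≤ D) :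
    (u * p / D) * (2 : ℚ) ^ (q - 1) * (p - 1 : ℚ) ≤ p := by
  obtain ⟨k, hk⟩ := had
  have hk2 : 2 ≤ k := by
    rcases k with _ | _ | k
    · omega
    · obtain ⟨i, hi⟩ := hpo
      obtain ⟨j, hj⟩ := ha
      omega
    · omega
  have h2a : 2 * a ≤ p - 1 := by rw [hk, mul_comm 2 a]; exact Nat.mul_le_mul_left a hk2
  have h : u * 2 ^ (q - 1) * (p - 1) ≤ (p - 1) ^ q := by
    calc u * 2 ^ (q - 1) * (p - 1) ≤ a ^ (q - 1) * 2 ^ (q - 1) * (p - 1) :=
          Nat.mul_le_mul_right _ (Nat.mul_le_mul_right _ (Nat.le_of_dvd (pow_pos ha.pos _) hu))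
      _ = (2 * a) ^ (q - 1) * (p - 1) := by rw [mul_pow]; ring
      _ ≤ (p - 1) ^ (q - 1) * (p - 1) := Nat.mul_le_mul_right _ (Nat.pow_le_pow_left h2a _)
      _ = (p - 1) ^ q := by rw [← pow_succ, Nat.sub_add_cancel hq]
  have h' : (u : ℚ) * 2 ^ (q - 1) * (p - 1 : ℚ) ≤ ((p : ℚ) - 1) ^ q := by
    have := (Nat.cast_le (α := ℚ)).mpr h
    push_cast [Nat.cast_sub (show 1 ≤ p by omega)] at this
    exact this
  have hp1 : (2 : ℚ) ≤ (p : ℚ) - 1 := by
    have : (3 : ℚ) ≤ p := by exact_mod_cast hp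
    linarith
  have hD0 : 0 < D := lt_of_lt_of_le (pow_pos (by linarith) _) hD
  rw [div_mul_eq_mul_div, div_mul_eq_mul_div, div_le_iff₀ hD0]
  calc (u : ℚ) * p * 2 ^ (q - 1) * (p - 1 : ℚ) = p * (u * 2 ^ (q - 1) * (p - 1 : ℚ)) := by ring
    _ ≤ p * D := mul_le_mul_of_nonneg_left (h'.trans hD) (by positivity)

theorem US_le : d.US * (d.p - 1 : ℚ) ≤ d.p := by
  rcases d.sideS.dich with ⟨⟨m, hm⟩, hD⟩ | ⟨h1, -, a, ha, had, hu⟩
  · have h := gal_bound (by have := d.p_ge; omega) hm.symm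
    rw [US, hD]
    have hm1 : (1 : ℚ) ≤ m := by
      refine Nat.one_le_cast.mpr (Nat.one_le_iff_ne_zero.mpr fun e => ?_)
      have := normCard_gt (p := d.p) (q := d.q) (by have := d.p_ge; omega)
        (by have := d.hq3; omega)
      rw [hm, e, mul_zero] at this
      omega
    refine le_trans ?_ h
    have : (1 : ℚ) ≤ d.p := by exact_mod_cast d.hp.one_le
    refine mul_le_mul_of_nonneg_right ?_ (by linarith)
    exact le_mul_of_one_le_right (by positivity) hm1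
  · have h := split_bound (by have := d.p_ge; omega) d.p_odd (by have := d.hq3; omega) ha had hu h1
    rw [US]
    refine le_trans ?_ h
    have : (1 : ℚ) ≤ d.p := by exact_mod_cast d.hp.one_le
    refine mul_le_mul_of_nonneg_right ?_ (by linarith)
    exact le_mul_of_one_le_right (div_nonneg (by positivity) d.DS_pos.le)
      (one_le_pow₀ (by norm_num))

theorem US_le' : d.US ≤ 5 / 4 := by
  have hp : (5 : ℚ) ≤ d.p := by exact_mod_cast d.p_ge
  nlinarith [d.US_le]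

theorem VT_full (h : d.v = normCard d.q d.p) : d.VT * (d.q - 1 : ℚ) ≤ d.q := by
  rcases d.sideT.dich with ⟨⟨m, hm⟩, hD⟩ | ⟨h1, -, a, ha, had, hu⟩
  · have hb := gal_bound (q := d.p) (m := 1) (by have := d.hq3; omega)
      (show d.v * 1 = normCard d.q d.p by rw [mul_one, h])
    rw [VT, hD]
    simpa using hb
  · have hb := split_bound (by have := d.hq3; omega) d.q_odd (by have := d.p_ge; omega) ha had hu h1
    rw [VT]
    refine le_trans ?_ hb
    have : (1 : ℚ) ≤ d.q := by exact_mod_cast d.hq.one_le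
    refine mul_le_mul_of_nonneg_right ?_ (by linarith)
    exact le_mul_of_one_le_right (div_nonneg (by positivity) d.DT_pos.le)
      (one_le_pow₀ (by norm_num))

theorem VT_not_full (h : d.v ≠ normCard d.q d.p) : d.VT * (2 * d.p + 1 : ℚ) ≤ 3 / 2 := by
  have hp5 := d.p_ge
  have hq : (3 : ℚ) ≤ d.q := by exact_mod_cast d.hq3
  rcases d.sideT.dich with ⟨hdvd, hD⟩ | ⟨h1, -, a, ha, had, hu⟩
  · obtain ⟨hmod, -⟩ | ⟨m, hm, hvm⟩ := cofactor_cases d.hq d.hp (by have := d.hq3; omega)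
      (by omega) hdvd h d.sideT.mod
    · rw [Nat.mod_eq_of_lt d.hqp] at hmod
      have := d.hq3
      omega
    have hb := gal_bound (by have := d.hq3; omega) hvm
    rw [← hD] at hb
    change d.VT * m * _ ≤ _ at hb
    have hm' : (2 * d.p + 1 : ℚ) ≤ m := by exact_mod_cast hm
    have hV : 0 ≤ d.VT := div_nonneg (by positivity) d.DT_pos.le
    have := mul_le_mul_of_nonneg_left hm' hV
    nlinarith
  · have hb := split_bound (by have := d.hq3; omega) d.q_odd (by omega) ha had hu h1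
    change d.VT * _ * _ ≤ _ at hb
    have hm' : (2 * d.p + 1 : ℚ) ≤ (2 : ℚ) ^ (d.p - 1) := by
      have hn : ∀ n : ℕ, 4 ≤ n → 2 * (n + 1) + 1 ≤ 2 ^ n := by
        intro n hn
        induction n, hn using Nat.le_induction with
        | base => norm_num
        | succ n hn ih => rw [pow_succ]; omega
      have := hn (d.p - 1) (by omega)
      rw [Nat.sub_add_cancel (by omega : 1 ≤ d.p)] at this
      exact_mod_cast this
    have hV : 0 ≤ d.VT := div_nonneg (by positivity) d.DT_pos.le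
    have := mul_le_mul_of_nonneg_left hm' hV
    nlinarith

theorem US_not_full (h : d.u ≠ normCard d.p d.q) : d.US ≤ 5 / 12 := by
  have hp : (5 : ℚ) ≤ d.p := by exact_mod_cast d.p_ge
  have hU : 0 ≤ d.US := div_nonneg (by positivity) d.DS_pos.le
  rcases d.sideS.dich with ⟨hdvd, hD⟩ | ⟨h1, -, a, ha, had, hu⟩
  · obtain ⟨m, hm, hum⟩ : ∃ m, 3 ≤ m ∧ d.u * m = normCard d.p d.q := by
      rcases cofactor_cases d.hp d.hq (by have := d.p_ge; omega) (by have := d.hq3; omega) hdvd h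
        d.sideS.mod with ⟨-, hm⟩ | ⟨m, hm, hum⟩
      · exact ⟨_, d.hq3, hm⟩
      · exact ⟨m, by have := d.hq3; omega, hum⟩
    have hb := gal_bound (by have := d.p_ge; omega) hum
    rw [← hD] at hb
    change d.US * m * _ ≤ _ at hb
    have hm' : (3 : ℚ) ≤ m := by exact_mod_cast hm
    have := mul_le_mul_of_nonneg_left hm' hU
    nlinarith
  · have hb := split_bound (by have := d.p_ge; omega) d.p_odd (by have := d.hq3; omega) ha had hu h1
    change d.US * _ * _ ≤ _ at hb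
    have hm' : (3 : ℚ) ≤ (2 : ℚ) ^ (d.q - 1) := by
      refine le_trans (by norm_num : (3 : ℚ) ≤ 2 ^ 2) (pow_le_pow_right₀ (by norm_num) ?_)
      have := d.hq3
      omega
    have := mul_le_mul_of_nonneg_left hm' hU
    nlinarith

theorem one_le_cT (X : ι) : (1 : ℚ) ≤ (d.c X : ℚ) ^ 2 +
    ((d.p * d.a X + (d.p - 1) * (d.c X - 1) : ℤ) : ℚ) ^ 2 := by
  have hp := d.p_ge
  have h : (1 : ℤ) ≤ d.c X ^ 2 + (d.p * d.a X + (d.p - 1) * (d.c X - 1)) ^ 2 := by
    by_cases hc : d.c X = 0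
    · have hne : (d.p : ℤ) * d.a X + (d.p - 1) * (d.c X - 1) ≠ 0 := by
        intro e
        have h1 : (d.p : ℤ) ∣ 1 := ⟨1 - d.a X, by rw [hc] at e; linarith⟩
        have := Int.le_of_dvd (by norm_num) h1
        omega
      nlinarith [Int.one_le_abs hne, sq_abs ((d.p : ℤ) * d.a X + (d.p - 1) * (d.c X - 1))]
    · nlinarith [Int.one_le_abs hc, sq_abs (d.c X),
        sq_nonneg ((d.p : ℤ) * d.a X + (d.p - 1) * (d.c X - 1))]
  exact_mod_cast h

/-- `v = (q ^ p - 1) / (q - 1)`. -/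
theorem v_eq : d.v = normCard d.q d.p := by
  by_contra hv
  have hp : (5 : ℚ) ≤ d.p := by exact_mod_cast d.p_ge
  have hV := d.VT_not_full hv
  have hV0 : 0 ≤ d.VT := div_nonneg (by positivity) d.DT_pos.le
  have hV1 : d.VT ≤ 3 / 22 := by nlinarith
  have hu : d.u = normCard d.p d.q := by
    by_contra hu
    linarith [d.key, d.US_not_full hu]
  have hchi := d.chiT.resolve_left hv
  have hpu : (d.p : ℚ) / d.u ≤ 1 / 5 := by
    have h1 := normCard_gt (p := d.p) (q := d.q) d.hp.two_le (by have := d.hq3; omega)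
    rw [← hu] at h1
    have h2 : d.p * 5 ≤ d.u := le_trans
      (show d.p * 5 ≤ d.p ^ (d.q - 1) from
        (Nat.mul_le_mul_left _ d.p_ge).trans ((sq d.p).symm.trans_le
          (Nat.pow_le_pow_right d.hp.pos (by have := d.hq3; omega)))) h1.le
    have h3 : (d.p : ℚ) * 5 ≤ d.u := by exact_mod_cast h2
    rw [div_le_iff₀ (by exact_mod_cast (show 0 < d.u by have := d.u_ge; omega))]
    linarith
  have hT : d.p * d.q * ∑ X, d.w X * ((d.p * d.a X + (d.p - 1) * (d.c X - 1) : ℤ) : ℚ) ^ 2 ≤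
      (d.p : ℚ) ^ 2 * d.VT := by
    have h := mul_le_mul_of_nonneg_left hchi (show (0 : ℚ) ≤ d.p * d.q by positivity)
    rw [show (d.p * d.q : ℚ) * (d.v * d.p / d.DT) = (d.p : ℚ) ^ 2 * (d.v * d.q / d.DT) by ring] at h
    exact h
  have h : d.p * d.q * ∑ X, d.w X ≤ d.p * d.q * ∑ X, d.w X * (d.c X : ℚ) ^ 2 +
      d.p * d.q * ∑ X, d.w X * ((d.p * d.a X + (d.p - 1) * (d.c X - 1) : ℤ) : ℚ) ^ 2 := by
    rw [← mul_add, ← Finset.sum_add_distrib]
    gcongr with X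
    nlinarith [d.w_nonneg X, d.one_le_cT X]
  have h2 : (d.p : ℚ) - 1471 / 1000 ≤ (d.p : ℚ) ^ 2 * d.VT := by
    linarith [d.total, d.scaled01, d.eps, d.US_le',
      show (0 : ℚ) ≤ d.p / (d.u * d.DS) by have := d.DS_pos; positivity]
  nlinarith [mul_le_mul_of_nonneg_left hV (show (0 : ℚ) ≤ (d.p : ℚ) ^ 2 by positivity)]

theorem one_le_aS (X : ι) : (1 : ℚ) ≤ (d.a X : ℚ) ^ 2 +
    ((d.q * d.c X + (d.q - 1) * (d.a X - 1) : ℤ) : ℚ) ^ 2 := by
  have hq := d.hq3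
  have h : (1 : ℤ) ≤ d.a X ^ 2 + (d.q * d.c X + (d.q - 1) * (d.a X - 1)) ^ 2 := by
    by_cases ha : d.a X = 0
    · have hne : (d.q : ℤ) * d.c X + (d.q - 1) * (d.a X - 1) ≠ 0 := by
        intro e
        have h1 : (d.q : ℤ) ∣ 1 := ⟨1 - d.c X, by rw [ha] at e; linarith⟩
        have := Int.le_of_dvd (by norm_num) h1
        omega
      nlinarith [Int.one_le_abs hne, sq_abs ((d.q : ℤ) * d.c X + (d.q - 1) * (d.a X - 1))]
    · nlinarith [Int.one_le_abs ha, sq_abs (d.a X),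
        sq_nonneg ((d.q : ℤ) * d.c X + (d.q - 1) * (d.a X - 1))]
  exact_mod_cast h

theorem v_gt : d.q ^ (d.p - 1) < d.v := by
  rw [d.v_eq]
  exact normCard_gt d.hq.two_le (by have := d.p_ge; omega)

theorem q_div_v : (d.q : ℚ) / d.v ≤ 1 / 27 := by
  have h : d.q * 27 ≤ d.v := by
    refine le_trans ?_ d.v_gt.le
    rw [show d.p - 1 = d.p - 2 + 1 by have := d.p_ge; omega, pow_succ, mul_comm _ d.q]
    refine Nat.mul_le_mul_left _ (le_trans ?_ (Nat.pow_le_pow_left d.hq3 _))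
    exact le_trans (by norm_num : 27 ≤ 3 ^ 3)
      (Nat.pow_le_pow_right (by norm_num) (by have := d.p_ge; omega))
  have h3 : (d.q : ℚ) * 27 ≤ d.v := by exact_mod_cast h
  rw [div_le_iff₀ (by exact_mod_cast (show 0 < d.v by have := d.v_ge; omega))]
  linarith

/-- The lower bound for `u` (Peterfalvi 13.10). -/
theorem US_lower (hu : d.u ≠ normCard d.p d.q) :
    (d.q : ℚ) - d.q / (d.q - 1) - 59 / 1000 ≤ (d.q : ℚ) ^ 2 * d.US := by
  have hq : (3 : ℚ) ≤ d.q := by exact_mod_cast d.hq3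
  have hchi := d.chiS.resolve_left hu
  have hS : d.p * d.q * ∑ X, d.w X * ((d.q * d.c X + (d.q - 1) * (d.a X - 1) : ℤ) : ℚ) ^ 2 ≤
      (d.q : ℚ) ^ 2 * d.US := by
    have h := mul_le_mul_of_nonneg_left hchi (show (0 : ℚ) ≤ d.p * d.q by positivity)
    rw [show (d.p * d.q : ℚ) * (d.u * d.q / d.DS) = (d.q : ℚ) ^ 2 * (d.u * d.p / d.DS) by ring] at h
    exact h
  have h : d.p * d.q * ∑ X, d.w X ≤ d.p * d.q * ∑ X, d.w X * (d.a X : ℚ) ^ 2 +
      d.p * d.q * ∑ X, d.w X * ((d.q * d.c X + (d.q - 1) * (d.a X - 1) : ℤ) : ℚ) ^ 2 := by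
    rw [← mul_add, ← Finset.sum_add_distrib]
    gcongr with X
    nlinarith [d.w_nonneg X, d.one_le_aS X]
  have hV : d.VT ≤ d.q / (d.q - 1) := by
    rw [le_div_iff₀ (by linarith)]
    exact d.VT_full d.v_eq
  linarith [d.total, d.scaled10, d.eps, d.q_div_v,
    show (0 : ℚ) ≤ d.q / (d.v * d.DT) by have := d.DT_pos; positivity]

theorem sq_le_two_pow {n : ℕ} (hn : 4 ≤ n) : n ^ 2 ≤ 2 ^ n := by
  induction n, hn using Nat.le_induction with
  | base => norm_num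
  | succ n hn ih => rw [pow_succ 2]; nlinarith

/-- Three possibilities are left for `u`. -/
theorem u_cases : d.u = normCard d.p d.q ∨ (d.p % d.q = 1 ∧ d.u * d.q = normCard d.p d.q) ∨
    (d.q = 3 ∧ ∃ b, Odd b ∧ 2 * b + 1 = d.p ∧ d.u = b ^ 2) := by
  by_cases hu : d.u = normCard d.p d.q
  · exact Or.inl hu
  refine Or.inr ?_
  have hlow := d.US_lower hu
  have hp5 := d.p_ge
  have hp : (5 : ℚ) ≤ d.p := by exact_mod_cast d.p_ge
  have hU : 0 ≤ d.US := div_nonneg (by positivity) d.DS_pos.le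
  have hu1 := d.u_ge
  rcases d.sideS.dich with ⟨hdvd, hD⟩ | ⟨h1, -, a, ha, had, hua⟩
  · rcases cofactor_cases d.hp d.hq (by omega) (by have := d.hq3; omega) hdvd hu d.sideS.mod with
      h | ⟨m, hm, hum⟩
    · exact Or.inl h
    refine Or.inl ?_
    have hb := gal_bound (by omega) hum
    rw [← hD] at hb
    change d.US * m * _ ≤ _ at hb
    have hm' : (2 * d.q + 1 : ℚ) ≤ m := by exact_mod_cast hm
    have hb' : d.US * (2 * d.q + 1) * ((d.p : ℚ) - 1) ≤ d.p :=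
      le_trans (mul_le_mul_of_nonneg_right (mul_le_mul_of_nonneg_left hm' hU) (by linarith)) hb
    rcases eq_or_lt_of_le d.hq3 with hq3 | hq3
    · by_cases hp11 : 11 ≤ d.p
      · exfalso
        rw [← hq3] at hlow hb'
        push_cast at hlow hb'
        have hp' : (11 : ℚ) ≤ d.p := by exact_mod_cast hp11
        norm_num at hlow
        nlinarith
      · have hq2 := d.hqp
        have h57 : d.p = 5 ∨ d.p = 7 := by
          have hpr := d.hp
          interval_cases (d.p) <;> norm_num at hpr <;> simp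
        rw [← hq3] at hum hu hdvd hu1 ⊢
        have h3 := d.sideS.mod
        rw [← hq3] at h3
        rcases h57 with h | h <;> rw [h] at hum hu hdvd ⊢ <;> norm_num [normCard] at hum hu hdvd
        · rcases (Nat.dvd_prime (by norm_num)).mp hdvd with h' | h' <;> omega
        · have hd : d.u ∈ Nat.divisors 57 := Nat.mem_divisors.mpr ⟨hdvd, by norm_num⟩
          rw [show Nat.divisors 57 = {1, 3, 19, 57} by decide] at hd
          simp only [Finset.mem_insert, Finset.mem_singleton] at hd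
          norm_num [normCard]
          omega
    · exfalso
      have hq5 : (5 : ℚ) ≤ d.q := by
        obtain ⟨k, hk⟩ := d.q_odd
        exact_mod_cast (show 5 ≤ d.q by omega)
      have hp7 : (7 : ℚ) ≤ d.p := by
        have := d.q_add_two_le
        obtain ⟨k, hk⟩ := d.q_odd
        exact_mod_cast (show 7 ≤ d.p by omega)
      have h76 : d.US * (2 * d.q + 1) ≤ 7 / 6 := by nlinarith
      have hq1 : (d.q : ℚ) / (d.q - 1) ≤ 5 / 4 := by rw [div_le_iff₀ (by linarith)]; linarith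
      nlinarith [mul_le_mul_of_nonneg_left h76 (show (0 : ℚ) ≤ (d.q : ℚ) ^ 2 by positivity)]
  · have hb := split_bound (by omega) d.p_odd (by have := d.hq3; omega) ha had hua h1
    change d.US * _ * _ ≤ _ at hb
    rcases eq_or_lt_of_le d.hq3 with hq3 | hq3
    · right
      refine ⟨hq3.symm, ?_⟩
      rw [← hq3] at hlow h1 hua
      push_cast at hlow
      norm_num at hlow hua
      obtain ⟨k, hk⟩ := had
      obtain ⟨j, hj⟩ := hua
      have hp2 : (d.p : ℚ) - 1 = a * k := by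
        have := congrArg (fun n : ℕ => (n : ℚ)) hk
        push_cast [Nat.cast_sub (show 1 ≤ d.p by omega)] at this
        exact this
      have hUu : d.US * ((d.p : ℚ) - 1) ^ 3 ≤ d.u * d.p := by
        refine le_trans (mul_le_mul_of_nonneg_left h1 hU) ?_
        rw [US, div_mul_cancel₀ _ d.DS_pos.ne']
      have hu2 : (d.u : ℚ) * j = (a : ℚ) ^ 2 := by exact_mod_cast hj.symm
      have hk0 : k ≠ 0 := fun e => by rw [e, mul_zero] at hk; omega
      have hk1 : k ≠ 1 := fun e => by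
        obtain ⟨i, hi⟩ := d.p_odd
        obtain ⟨i', hi'⟩ := ha
        rw [e, mul_one] at hk
        omega
      have hkj : k = 2 ∧ j = 1 := by
        have hj0 : j ≠ 0 := fun e => by
          rw [e, mul_zero, sq, mul_eq_zero] at hj
          rcases hj with h | h <;> simp [h] at ha
        by_contra hne
        have h8 : 8 ≤ k ^ 2 * j := by
          by_cases hk2 : k = 2
          · subst hk2
            have : j ≠ 1 := fun e => hne ⟨rfl, e⟩
            omega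
          · have h9 : 3 ^ 2 ≤ k ^ 2 := Nat.pow_le_pow_left (by omega) 2
            calc 8 ≤ 3 ^ 2 * 1 := by norm_num
              _ ≤ _ := Nat.mul_le_mul h9 (by omega)
        have h8' : (8 : ℚ) ≤ (k : ℚ) ^ 2 * j := by exact_mod_cast h8
        have h9 : (d.u : ℚ) * 8 ≤ ((d.p : ℚ) - 1) ^ 2 := by
          rw [hp2, mul_pow, ← hu2]
          calc (d.u : ℚ) * 8 ≤ d.u * ((k : ℚ) ^ 2 * j) := mul_le_mul_of_nonneg_left h8' (by positivity)
            _ = _ := by ring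
        have h10 : d.US * ((d.p : ℚ) - 1) * 8 ≤ d.p := by
          refine le_of_mul_le_mul_right (a := ((d.p : ℚ) - 1) ^ 2) ?_
            (pow_pos (show (0 : ℚ) < d.p - 1 by linarith) 2)
          calc d.US * ((d.p : ℚ) - 1) * 8 * ((d.p : ℚ) - 1) ^ 2
              = 8 * (d.US * ((d.p : ℚ) - 1) ^ 3) := by ring
            _ ≤ 8 * ((d.u : ℚ) * d.p) := mul_le_mul_of_nonneg_left hUu (by norm_num)
            _ = (d.p : ℚ) * ((d.u : ℚ) * 8) := by ring
            _ ≤ (d.p : ℚ) * ((d.p : ℚ) - 1) ^ 2 := mul_le_mul_of_nonneg_left h9 (by positivity)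
        nlinarith
      obtain ⟨rfl, rfl⟩ := hkj
      exact ⟨a, ha, by omega, by rw [hj, mul_one]⟩
    · exfalso
      have hq5 : 5 ≤ d.q := by
        obtain ⟨k, hk⟩ := d.q_odd
        omega
      have hq5' : (5 : ℚ) ≤ d.q := by exact_mod_cast hq5
      have hp7 : (7 : ℚ) ≤ d.p := by
        have := d.q_add_two_le
        exact_mod_cast (show 7 ≤ d.p by omega)
      have h76 : d.US * (2 : ℚ) ^ (d.q - 1) ≤ 7 / 6 := by nlinarith
      have h2 : (d.q : ℚ) ^ 2 ≤ 2 * (2 : ℚ) ^ (d.q - 1) := by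
        rw [← pow_succ', Nat.sub_add_cancel (by omega : 1 ≤ d.q)]
        exact_mod_cast sq_le_two_pow (show 4 ≤ d.q by omega)
      have hq1 : (d.q : ℚ) / (d.q - 1) ≤ 5 / 4 := by rw [div_le_iff₀ (by linarith)]; linarith
      nlinarith [mul_le_mul_of_nonneg_right h2 hU]

end NumData

end Cfsg.Agent.OddOrder.PF14
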