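import Cfsg.Agent.OddOrder.PF14.BlockFacts
import Cfsg.Agent.OddOrder.PF14.Num
import Cfsg.Agent.OddOrder.PF3.Props

/-!
# Peterfalvi section 14: a block and the cyclic TI family
-/

set_option autoImplicit false

namespace Cfsg.Agent.OddOrder.PF14

open Cfsg.Agent Cfsg.Agent.CharBasic Finset
open scoped ComplexConjugate

universe u

variable {G : Type u} [Group G] [Fintype G] {W₁ W₂ : Subgroup G}
  {χ : (↥(W₁ ⊔ W₂) →* ℂˣ) → (G → ℂ)}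

/-- A linear character whose square is trivial off `W₁ ∪ W₂` is trivial. -/
theorem eq_one_of_sq (hW : Cfsg.IsSelfNormalizingCyclic W₁ W₂)
    (hodd : Odd (Nat.card ↥(W₁ ⊔ W₂))) {ω : ↥(W₁ ⊔ W₂) →* ℂˣ}
    (h : ∀ w : ↥(W₁ ⊔ W₂), (w : G) ∉ W₁ → (w : G) ∉ W₂ → ω w * ω w = 1) : ω = 1 := by
  have hsq : ∀ x : ↥(W₁ ⊔ W₂), x * x = 1 → x = 1 := fun x hx => by
    have h2 : orderOf x ∣ 2 := orderOf_dvd_of_pow_eq_one (by rw [pow_two]; exact hx)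
    exact orderOf_eq_one_iff.1
      (Nat.eq_one_of_dvd_coprimes (Nat.coprime_two_left.2 hodd) h2 (orderOf_dvd_natCard x))
  have key : ∀ a b : ↥(W₁ ⊔ W₂), (a : G) ∈ W₁ → (b : G) ∈ W₂ → a ≠ 1 → b ≠ 1 →
      ω (a * b) * ω (a * b) = 1 := by
    intro a b ha hb ha1 hb1
    refine h _ (fun hm => hb1 ?_) (fun hm => ha1 ?_)
    · refine Subtype.ext (Subgroup.mem_bot.1 (hW.2.2.1 ▸ Subgroup.mem_inf.2 ⟨?_, hb⟩))
      have := W₁.mul_mem (W₁.inv_mem ha) hm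
      simpa using this
    · refine Subtype.ext (Subgroup.mem_bot.1 (hW.2.2.1 ▸ Subgroup.mem_inf.2 ⟨ha, ?_⟩))
      have := W₂.mul_mem hm (W₂.inv_mem hb)
      simpa using this
  obtain ⟨a₀, ha₀, ha₀1⟩ := W₁.bot_or_exists_ne_one.resolve_left hW.1
  obtain ⟨b₀, hb₀, hb₀1⟩ := W₂.bot_or_exists_ne_one.resolve_left hW.2.1
  set a : ↥(W₁ ⊔ W₂) := ⟨a₀, Subgroup.mem_sup_left ha₀⟩ with ha
  set b : ↥(W₁ ⊔ W₂) := ⟨b₀, Subgroup.mem_sup_right hb₀⟩ with hb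
  have ha1 : a ≠ 1 := fun e => ha₀1 (congrArg Subtype.val e)
  have hb1 : b ≠ 1 := fun e => hb₀1 (congrArg Subtype.val e)
  have hL : ∀ y : ↥(W₁ ⊔ W₂), (y : G) ∈ W₂ → ω y * ω y = 1 := by
    intro y hy
    rcases eq_or_ne y 1 with rfl | hy1
    · simp
    have e1 := key a y ha₀ hy ha1 hy1
    have e2 := key a (y * y) ha₀ (W₂.mul_mem hy hy) ha1 fun e => hy1 (hsq y e)
    rw [map_mul, map_mul] at e2
    rw [map_mul] at e1
    rw [show ω a * (ω y * ω y) * (ω a * (ω y * ω y))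
      = ω a * ω y * (ω a * ω y) * (ω y * ω y) by ac_rfl, e1, one_mul] at e2
    exact e2
  have hR : ∀ x : ↥(W₁ ⊔ W₂), (x : G) ∈ W₁ → ω x * ω x = 1 := by
    intro x hx
    rcases eq_or_ne x 1 with rfl | hx1
    · simp
    have e1 := key x b hx hb₀ hx1 hb1
    rw [map_mul] at e1
    rw [mul_mul_mul_comm, hL b hb₀, mul_one] at e1
    exact e1
  have h2 : ω * ω = 1 := H43.linear_ext hW (fun w hw => hR w hw) fun w hw => hL w hw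
  ext w
  have h1 : orderOf (ω w) ∣ 2 := orderOf_dvd_of_pow_eq_one (by
    rw [pow_two]; exact DFunLike.congr_fun h2 w)
  have h3 : orderOf (ω w) ∣ Nat.card ↥(W₁ ⊔ W₂) := (orderOf_map_dvd ω w).trans (orderOf_dvd_natCard w)
  rw [orderOf_eq_one_iff.1 (Nat.eq_one_of_dvd_coprimes (Nat.coprime_two_left.2 hodd) h1 h3),
    MonoidHom.one_apply]

namespace Block

variable (B : Block G)

/-- The block avoids the elements of `W₁ W₂` outside `W₁ ∪ W₂`. -/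
def Avoid (W₁ W₂ : Subgroup G) : Prop :=
  ∀ w : ↥(W₁ ⊔ W₂), (w : G) ∉ W₁ → (w : G) ∉ W₂ → (w : G) ∉ B.Ω

variable {B} (hW : Cfsg.IsSelfNormalizingCyclic W₁ W₂) (hodd : Odd (Nat.card ↥(W₁ ⊔ W₂)))
  (hχ : Cfsg.IsCyclicTIFamily W₁ W₂ χ) (hB : B.Avoid W₁ W₂)

include hW hodd hχ hB

theorem phi_orth_eta {ξ : B.L → ℂ} (hξ : ξ ∈ B.S) (ω : ↥(W₁ ⊔ W₂) →* ℂˣ) :
    Cfsg.classInner (B.phi ξ) (χ ω) = 0 := by
  rcases H43.Signed.inner_eq (B.phi_signed hξ) (hχ.irr_or_neg ω) with h | ⟨s, hs, he, -, hsc⟩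
  · exact h
  exfalso
  have hs0 : s ≠ 0 := fun e => by simp [e] at hs
  have hc : B.phi (Cfsg.conjFun ξ) = s • χ ω⁻¹ := by
    rw [B.phi_conj hξ, PF3.family_inv hW hodd hχ, he]
    funext g
    simp [Cfsg.conjFun, hsc]
  have h1 : ω = 1 := by
    refine eq_one_of_sq hW hodd fun w h1 h2 => ?_
    have e := B.τ_supp (ξ - Cfsg.conjFun ξ) (w : G) (hB w h1 h2)
    rw [B.tau_conj_diff hξ, he, hc, Pi.sub_apply, Pi.smul_apply, Pi.smul_apply,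
      hχ.eq_on ω w h1 h2, hχ.eq_on ω⁻¹ w h1 h2, ← smul_sub, smul_eq_zero] at e
    have e' := sub_eq_zero.1 (e.resolve_left hs0)
    rw [Units.val_inj, MonoidHom.inv_apply] at e'
    exact mul_eq_one_iff_eq_inv.2 e'
  have h0 := B.phi_orth_one hξ
  rw [he, h1, hχ.map_one, classInner_smul_left, classInner_irr_self isIrrCharacter_one,
    mul_one] at h0
  exact hs0 h0

theorem eta_orth_phi {ξ : B.L → ℂ} (hξ : ξ ∈ B.S) (ω : ↥(W₁ ⊔ W₂) →* ℂˣ) :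
    Cfsg.classInner (χ ω) (B.phi ξ) = 0 := by
  rw [← classInner_conj_symm, phi_orth_eta hW hodd hχ hB hξ ω, map_zero]

theorem gamma_eta {ω : ↥(W₁ ⊔ W₂) →* ℂˣ} (hω : ω ≠ 1) :
    Cfsg.classInner B.gamma (χ ω) = Cfsg.classInner B.Gamma (χ ω) := by
  classical
  rw [gamma_eq, classInner_sub_left, classInner_add_left, phi0,
    phi_orth_eta hW hodd hχ hB B.xi0_mem ω, ← hχ.map_one, hχ.orthonormal, if_neg (Ne.symm hω),
    add_zero, sub_zero]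

theorem eta_vec (ω : ↥(W₁ ⊔ W₂) →* ℂˣ) :
    Cfsg.classInner (χ ω) B.vec = (B.w : ℂ) * Cfsg.classInner (χ ω) B.gamma :=
  B.pair_vec_of_orth _ fun _ hξ => eta_orth_phi hW hodd hχ hB hξ ω

omit hB in
theorem Gamma_eta_aut (σ : ℂ ≃+* ℂ) (ω : ↥(W₁ ⊔ W₂) →* ℂˣ) :
    Cfsg.classInner B.Gamma (χ ((Units.map (σ : ℂ →* ℂ)).comp ω))
      = Cfsg.classInner B.Gamma (χ ω) := by
  obtain ⟨n, hn⟩ := H43.gen_inner_int B.Gamma_gen (H43.Signed.gen (hχ.irr_or_neg ω))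
  rw [PF3.family_aut hW hodd hχ σ ω]
  conv_lhs => arg 1; rw [← B.Gamma_aut σ]
  rw [PF6.classInner_aut σ _ (H43.Signed.gen (hχ.irr_or_neg ω)), hn, map_intCast]

omit hB in
theorem Gamma_eta_const {P : (↥(W₁ ⊔ W₂) →* ℂˣ) → Prop} (hP1 : P 1)
    (hPm : ∀ a b, P a → P b → P (a * b)) (hPi : ∀ a, P a → P a⁻¹)
    (hprime : (Nat.card {φ : ↥(W₁ ⊔ W₂) →* ℂˣ // P φ}).Prime) {φ φ' : ↥(W₁ ⊔ W₂) →* ℂˣ}
    (hφ : P φ) (hφ' : P φ') (h1 : φ ≠ 1) (h1' : φ' ≠ 1) :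
    Cfsg.classInner B.Gamma (χ φ') = Cfsg.classInner B.Gamma (χ φ) := by
  let M : Subgroup (↥(W₁ ⊔ W₂) →* ℂˣ) :=
    { carrier := {φ | P φ}
      one_mem' := hP1
      mul_mem' := fun {a b} ha hb => hPm a b ha hb
      inv_mem' := fun {a} ha => hPi a ha }
  set n := Nat.card {φ : ↥(W₁ ⊔ W₂) →* ℂˣ // P φ} with hn
  haveI := Fact.mk hprime
  have hM : Nat.card M = n := rfl
  obtain ⟨t, ht⟩ := (Submonoid.mem_powers_iff _ _).1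
    (mem_powers_of_prime_card (g := (⟨φ, hφ⟩ : M)) (g' := ⟨φ', hφ'⟩) hM
      fun e => h1 (congrArg Subtype.val e))
  have ht' : φ ^ t = φ' := congrArg Subtype.val ht
  have hpow : φ ^ n = 1 := congrArg Subtype.val (pow_card_eq_one' (G := M) (x := ⟨φ, hφ⟩))
  have hcop : t.Coprime n := by
    refine Nat.Coprime.symm (hprime.coprime_iff_not_dvd.2 fun ⟨k, hk⟩ => h1' ?_)
    rw [← ht', hk]
    exact (pow_mul φ n k).trans ((congrArg (· ^ k) hpow).trans (one_pow (M := ↥(W₁ ⊔ W₂) →* ℂˣ) k))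
  obtain ⟨σ, hσ⟩ := H43.exists_aut_pow hprime.ne_zero hcop
  have e : (Units.map (σ : ℂ →* ℂ)).comp φ = φ' := by
    rw [← ht']
    ext w
    show σ (φ w : ℂ) = _
    rw [MonoidHom.pow_apply, Units.val_pow_eq_pow_val]
    refine hσ _ ?_
    rw [← Units.val_pow_eq_pow_val, ← MonoidHom.pow_apply, hpow, MonoidHom.one_apply, Units.val_one]
  rw [← e]
  exact Gamma_eta_aut hW hodd hχ σ φ

theorem exists_ac (hq : (Nat.card W₁).Prime) (hp : (Nat.card W₂).Prime) :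
    ∃ a c : ℤ, (∀ φ, H43.TrivR φ → φ ≠ 1 → Cfsg.classInner B.Gamma (χ φ) = a) ∧
      (∀ ψ, H43.TrivL ψ → ψ ≠ 1 → Cfsg.classInner B.Gamma (χ ψ) = c) ∧
      ∀ φ ψ, H43.TrivR φ → H43.TrivL ψ → φ ≠ 1 → ψ ≠ 1 →
        Cfsg.classInner B.Gamma (χ (φ * ψ)) = ((a + c - 1 : ℤ) : ℂ) := by
  classical
  obtain ⟨hc1, hc2⟩ := PF3.card_trivR_trivL hW
  have hex : ∀ P : (↥(W₁ ⊔ W₂) →* ℂˣ) → Prop, (Nat.card {φ // P φ}).Prime →
      ∃ φ, P φ ∧ φ ≠ 1 := fun P hP => by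
    haveI : Nontrivial {φ // P φ} := Finite.one_lt_card_iff_nontrivial.1 hP.one_lt
    obtain ⟨⟨φ, hφ⟩, -⟩ := exists_pair_ne {φ // P φ}
    by_contra hc
    push Not at hc
    obtain ⟨⟨a, ha⟩, ⟨b, hb⟩, hab⟩ := exists_pair_ne {φ // P φ}
    exact hab (Subtype.ext ((hc a ha).trans (hc b hb).symm))
  obtain ⟨φ₁, hφ₁, hφ₁1⟩ := hex _ (hc1.symm ▸ hq)
  obtain ⟨ψ₁, hψ₁, hψ₁1⟩ := hex _ (hc2.symm ▸ hp)
  obtain ⟨a, ha⟩ := H43.gen_inner_int B.Gamma_gen (H43.Signed.gen (hχ.irr_or_neg φ₁))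
  obtain ⟨c, hc⟩ := H43.gen_inner_int B.Gamma_gen (H43.Signed.gen (hχ.irr_or_neg ψ₁))
  have hR : ∀ φ, H43.TrivR φ → φ ≠ 1 → Cfsg.classInner B.Gamma (χ φ) = a := fun φ h h1 =>
    (Gamma_eta_const hW hodd hχ H43.trivR_one (fun x y hx hy w hw => by simp [hx w hw, hy w hw])
      (fun x hx w hw => by simp [hx w hw]) (hc1.symm ▸ hq) hφ₁ h hφ₁1 h1).trans ha
  have hL : ∀ ψ, H43.TrivL ψ → ψ ≠ 1 → Cfsg.classInner B.Gamma (χ ψ) = c := fun ψ h h1 =>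
    (Gamma_eta_const hW hodd hχ H43.trivL_one (fun x y hx hy w hw => by simp [hx w hw, hy w hw])
      (fun x hx w hw => by simp [hx w hw]) (hc2.symm ▸ hp) hψ₁ h hψ₁1 h1).trans hc
  refine ⟨a, c, hR, hL, fun φ ψ hφ hψ h1 h2 => ?_⟩
  have hne : φ * ψ ≠ 1 := fun e => h1
    (H43.factor_unique hW hφ H43.trivR_one hψ H43.trivL_one (e.trans (one_mul (1 : ↥(W₁ ⊔ W₂) →* ℂˣ)).symm)).1
  have hrel := H43.family_relation hW hχ B.gamma (H43.gen_isClassFunction B.gamma_gen)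
    (fun w a b => B.τ_supp _ _ (hB w a b)) hφ hψ
  rw [gamma_eta hW hodd hχ hB hne, gamma_eta hW hodd hχ hB h1, gamma_eta hW hodd hχ hB h2,
    hR φ hφ h1, hL ψ hψ h2, hχ.map_one, B.gamma_one] at hrel
  rw [hrel]
  push_cast
  ring

omit hW hodd hB in
theorem Gamma_eta_one : Cfsg.classInner B.Gamma (χ 1) = 0 := by
  rw [hχ.map_one, B.Gamma_one]

omit hB in
/-- The sum of the squared coefficients on the grid. -/
theorem sum_grid {a c : ℤ} {f : (↥(W₁ ⊔ W₂) →* ℂˣ) → ℤ} [Fintype (↥(W₁ ⊔ W₂) →* ℂˣ)]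
    (h0 : f 1 = 0) (hR : ∀ φ, H43.TrivR φ → φ ≠ 1 → f φ = a)
    (hL : ∀ ψ, H43.TrivL ψ → ψ ≠ 1 → f ψ = c)
    (hRL : ∀ φ ψ, H43.TrivR φ → H43.TrivL ψ → φ ≠ 1 → ψ ≠ 1 → f (φ * ψ) = a + c - 1) :
    ∑ ω, f ω ^ 2 = etaNorm (Nat.card W₂) (Nat.card W₁) a c := by
  classical
  obtain ⟨hc1, hc2⟩ := PF3.card_trivR_trivL hW
  let R := {φ : ↥(W₁ ⊔ W₂) →* ℂˣ // H43.TrivR φ}
  let T := {ψ : ↥(W₁ ⊔ W₂) →* ℂˣ // H43.TrivL ψ}
  let D : R × T → (↥(W₁ ⊔ W₂) →* ℂˣ) := fun p => p.1.1 * p.2.1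
  have hD : Function.Bijective D := by
    refine ⟨fun p q e => ?_, fun ω => ?_⟩
    · obtain ⟨e1, e2⟩ := H43.factor_unique hW p.1.2 q.1.2 p.2.2 q.2.2 e
      exact Prod.ext (Subtype.ext e1) (Subtype.ext e2)
    · obtain ⟨φ, ψ, hφ, hψ, rfl⟩ := H43.exists_factor hW ω
      exact ⟨(⟨φ, hφ⟩, ⟨ψ, hψ⟩), rfl⟩
  rw [← Fintype.sum_bijective D hD (fun p => f (D p) ^ 2) (fun ω => f ω ^ 2) fun _ => rfl,
    Fintype.sum_prod_type]
  let r₀ : R := ⟨1, H43.trivR_one⟩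
  let t₀ : T := ⟨1, H43.trivL_one⟩
  haveI : Nonempty R := ⟨r₀⟩
  haveI : Nonempty T := ⟨t₀⟩
  have hr : ∀ r : R, r ≠ r₀ → r.1 ≠ 1 := fun r h e => h (Subtype.ext e)
  have ht : ∀ t : T, t ≠ t₀ → t.1 ≠ 1 := fun t h e => h (Subtype.ext e)
  have hnR : ((univ.erase r₀).card : ℤ) = (Nat.card W₁ : ℤ) - 1 := by
    rw [card_erase_of_mem (mem_univ _), card_univ, ← Nat.card_eq_fintype_card,
      Nat.cast_sub Nat.card_pos, hc1, Nat.cast_one]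
  have hnT : ((univ.erase t₀).card : ℤ) = (Nat.card W₂ : ℤ) - 1 := by
    rw [card_erase_of_mem (mem_univ _), card_univ, ← Nat.card_eq_fintype_card,
      Nat.cast_sub Nat.card_pos, hc2, Nat.cast_one]
  have hrow : ∀ r : R, r ≠ r₀ → ∑ t : T, f (D (r, t)) ^ 2
      = a ^ 2 + ((Nat.card W₂ : ℤ) - 1) * (a + c - 1) ^ 2 := fun r h => by
    rw [← add_sum_erase _ _ (mem_univ t₀), sum_congr rfl fun t h' => show f (D (r, t)) ^ 2
        = (a + c - 1) ^ 2 by rw [hRL _ _ r.2 t.2 (hr r h) (ht t (mem_erase.1 h').1)],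
      sum_const, nsmul_eq_mul, hnT]
    show f (r.1 * 1) ^ 2 + _ = _
    rw [show r.1 * (1 : ↥(W₁ ⊔ W₂) →* ℂˣ) = r.1 from mul_one r.1, hR _ r.2 (hr r h)]
  have hrow₀ : ∑ t : T, f (D (r₀, t)) ^ 2 = ((Nat.card W₂ : ℤ) - 1) * c ^ 2 := by
    rw [← add_sum_erase _ _ (mem_univ t₀), sum_congr rfl fun t h' => show f (D (r₀, t)) ^ 2
        = c ^ 2 by
        show f (1 * t.1) ^ 2 = _
        rw [show (1 : ↥(W₁ ⊔ W₂) →* ℂˣ) * t.1 = t.1 from one_mul t.1, hL _ t.2 (ht t (mem_erase.1 h').1)],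
      sum_const, nsmul_eq_mul, hnT]
    show f (1 * 1) ^ 2 + _ = _
    rw [show (1 : ↥(W₁ ⊔ W₂) →* ℂˣ) * 1 = 1 from one_mul (1 : ↥(W₁ ⊔ W₂) →* ℂˣ), h0]
    ring
  rw [← add_sum_erase _ _ (mem_univ r₀), hrow₀, sum_congr rfl fun r h => hrow r (mem_erase.1 h).1,
    sum_const, nsmul_eq_mul, hnR, etaNorm]
  ring

end Block

open Block in
/-- Peterfalvi's budget for a block among pairwise disjoint blocks avoiding the grid. -/
theorem budget_grid {ι : Type*} [Fintype ι] [DecidableEq ι] (B : ι → Block G)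
    (hd : ∀ X Y, X ≠ Y → Disjoint (B X).Ω (B Y).Ω)
    (hW : Cfsg.IsSelfNormalizingCyclic W₁ W₂) (hodd : Odd (Nat.card ↥(W₁ ⊔ W₂)))
    (hχ : Cfsg.IsCyclicTIFamily W₁ W₂ χ) (hB : ∀ X, (B X).Avoid W₁ W₂) (X : ι) {a c : ℤ}
    (hR : ∀ φ, H43.TrivR φ → φ ≠ 1 → Cfsg.classInner (B X).Gamma (χ φ) = a)
    (hL : ∀ ψ, H43.TrivL ψ → ψ ≠ 1 → Cfsg.classInner (B X).Gamma (χ ψ) = c)
    (hRL : ∀ φ ψ, H43.TrivR φ → H43.TrivL ψ → φ ≠ 1 → ψ ≠ 1 →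
      Cfsg.classInner (B X).Gamma (χ (φ * ψ)) = ((a + c - 1 : ℤ) : ℂ)) :
    etaNorm (Nat.card W₂) (Nat.card W₁) a c
      + ∑ Y ∈ univ.erase X, (B X).A (B Y) ^ 2 * ((B Y).F : ℤ) ≤ ((B X).e : ℤ) - 1 := by
  classical
  haveI : Fintype (↥(W₁ ⊔ W₂) →* ℂˣ) := Fintype.ofFinite _
  choose f hf using fun ω => H43.gen_inner_int (B X).Gamma_gen (H43.Signed.gen (hχ.irr_or_neg ω))
  have hne : ∀ φ ψ : ↥(W₁ ⊔ W₂) →* ℂˣ, H43.TrivR φ → H43.TrivL ψ → φ ≠ 1 → φ * ψ ≠ 1 :=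
    fun φ ψ hφ hψ h1 e => h1
      (H43.factor_unique hW hφ H43.trivR_one hψ H43.trivL_one (e.trans (one_mul (1 : ↥(W₁ ⊔ W₂) →* ℂˣ)).symm)).1
  let s := (univ : Finset (↥(W₁ ⊔ W₂) →* ℂˣ)).disjSum
    ((univ.erase X).sigma fun Y => (B Y).S)
  let v : (↥(W₁ ⊔ W₂) →* ℂˣ) ⊕ (Σ Y, ((B Y).L → ℂ)) → G → ℂ :=
    Sum.elim χ fun p => (B p.1).phi p.2
  let k : (↥(W₁ ⊔ W₂) →* ℂˣ) ⊕ (Σ Y, ((B Y).L → ℂ)) → ℤ :=
    Sum.elim f fun p => (B X).A (B p.1) * (B p.1).deg p.2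
  have hmem : ∀ {p : Σ Y, ((B Y).L → ℂ)}, Sum.inr p ∈ s → p.1 ≠ X ∧ p.2 ∈ (B p.1).S := fun h => by
    rw [Finset.inr_mem_disjSum, Finset.mem_sigma, mem_erase] at h
    exact ⟨h.1.1, h.2⟩
  have h := (B X).budget s v k (fun i hi => ?_) (fun i hi j hj hij => ?_) (fun i hi ξ hξ => ?_)
    fun i hi => ?_
  · rw [Finset.sum_disjSum, Finset.sum_sigma] at h
    simp only [k, Sum.elim_inl, Sum.elim_inr] at h
    rw [sum_grid hW hodd hχ (f := f) (a := a) (c := c)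
      (by exact_mod_cast (hf 1).symm.trans (Gamma_eta_one hχ))
      (fun φ h1 h2 => by exact_mod_cast (hf φ).symm.trans (hR φ h1 h2))
      (fun ψ h1 h2 => by exact_mod_cast (hf ψ).symm.trans (hL ψ h1 h2))
      (fun φ ψ h1 h2 h3 h4 => by exact_mod_cast (hf _).symm.trans (hRL φ ψ h1 h2 h3 h4))] at h
    refine le_trans (le_of_eq ?_) h
    congr 1
    refine sum_congr rfl fun Y _ => ?_
    rw [(B Y).F_eq, Nat.cast_sum, mul_sum]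
    exact sum_congr rfl fun η _ => by push_cast; ring
  · rcases i with ω | p
    · exact H43.Signed.inner_self (hχ.irr_or_neg ω)
    · exact ((B p.1).phi_signed (hmem hi).2).inner_self
  · rcases i with ω | ⟨Y, η⟩ <;> rcases j with ω' | ⟨Y', η'⟩
    · show Cfsg.classInner (χ ω) (χ ω') = 0
      rw [hχ.orthonormal, if_neg fun e => hij (congrArg _ e)]
    · exact eta_orth_phi hW hodd hχ (hB _) (hmem hj).2 ω
    · exact phi_orth_eta hW hodd hχ (hB _) (hmem hi).2 ω'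
    · by_cases hY : Y = Y'
      · subst hY
        show Cfsg.classInner ((B Y).phi η) ((B Y).phi η') = 0
        rw [(B Y).phi_orth (hmem hi).2 (hmem hj).2, if_neg fun e => hij (congrArg (fun z => Sum.inr (⟨Y, z⟩ : Σ Y, ((B Y).L → ℂ))) e)]
      · exact phi_orth_phi (hd Y Y' hY) (hmem hi).2 (hmem hj).2
  · rcases i with ω | p
    · exact eta_orth_phi hW hodd hχ (hB _) hξ ω
    · exact phi_orth_phi (hd _ _ (hmem hi).1) (hmem hi).2 hξ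
  · rcases i with ω | p
    · exact hf ω
    · show Cfsg.classInner (B X).Gamma ((B p.1).phi p.2) = _
      rw [Gamma_phi' (hd _ _ (hmem hi).1.symm) (hmem hi).2]
      simp only [k, Sum.elim_inr, Int.cast_mul, Int.cast_natCast]
      ring

end Cfsg.Agent.OddOrder.PF14
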