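import Cfsg.Agent.OddOrder.PF14.BlockFacts
import Cfsg.Agent.OddOrder.PF4.Dade
import Cfsg.Agent.CharInduce.Gallagher
import Cfsg.Agent.S1500
import Cfsg.Agent.S1501
import Cfsg.Agent.OddOrder.WeakType

/-!
# Peterfalvi section 14: instances of blocks

`ofDade`: a Frobenius group with the Dade map on the nontrivial kernel elements (maximal subgroups
of Type I, `ofTypeI`).  `ofQuotient`: `T / Q` with induction from `T` when `K ∖ Q` is a TI-set with
normaliser `T` and `K / Q` is abelian (`T' / Q` for `T` of Type III).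
-/

set_option autoImplicit false
set_option linter.unusedSectionVars false

namespace Cfsg.Agent.OddOrder.PF14

open Cfsg.Agent Cfsg.Agent.CharBasic Finset

universe u

variable {G : Type u} [Group G] [Fintype G]

section Dade

variable {A : Set G} {L : Subgroup G} {R : G → Subgroup G}

theorem dade_isClassFunction (hD : Cfsg.DadeHypothesis A L R) {α : L → ℂ}
    (hα : Cfsg.IsClassFunction L α) :
    Cfsg.IsClassFunction G (Cfsg.dadeIsometry A L R α) := by
  intro g h
  by_cases hg : ∃ a : L, (a : G) ∈ A ∧ ∃ x : G, ∃ u ∈ R (a : G), x * g * x⁻¹ = (a : G) * u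
  · obtain ⟨a, ha, x, u, hu, hx⟩ := hg
    rw [H43.dade_apply hD hα ha hu hx,
      H43.dade_apply hD hα ha hu (x := x * h⁻¹) (by rw [← hx]; group)]
  · rw [H43.dade_apply_zero hg, H43.dade_apply_zero]
    rintro ⟨a, ha, x, u, hu, hx⟩
    exact hg ⟨a, ha, x * h, u, hu, by rw [← hx]; group⟩

/-- The block of a Frobenius group with the Dade map. -/
@[reducible] noncomputable def Block.ofDade (hD : Cfsg.DadeHypothesis A L R) (H : Subgroup L)
    [hH : H.Normal] (hA : ∀ l : L, (l : G) ∈ A ↔ l ∈ H ∧ l ≠ 1) (hne : H ≠ ⊥) (htop : H ≠ ⊤)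
    (hfrob : ∀ h ∈ H, h ≠ 1 → Subgroup.centralizer ({h} : Set L) ≤ H)
    (hodd : Odd (Nat.card L)) (hnil : Group.IsNilpotent H)
    (hcoh : letI := Fintype.ofFinite L
      Cfsg.IsCoherent (Cfsg.inducedIrrAbove H ⊥) {1}ᶜ (Cfsg.dadeIsometry A L R)) : Block G :=
  letI := Fintype.ofFinite L
  have hoff : ∀ {α : L → ℂ}, (∀ l, l ∉ H ∨ l = 1 → α l = 0) → ∀ x : L, (x : G) ∉ A → α x = 0 :=
    fun {α} hα x hx => hα x <| by
      by_cases hxH : x ∈ H
      · exact Or.inr (by_contra fun h1 => hx ((hA x).2 ⟨hxH, h1⟩))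
      · exact Or.inl hxH
  { L := L
    H := H
    normal := hH
    ne_bot := hne
    ne_top := htop
    frob := hfrob
    odd := hodd
    nilpotent := hnil
    Ω := H43.dadeSupp A R
    conj_mem := by
      rintro g ⟨a, ha, u, hu, y, hy⟩ x
      exact ⟨a, ha, u, hu, y * x⁻¹, by rw [← hy]; group⟩
    one_notMem := by
      rintro ⟨a, ha, u, hu, y, hy⟩
      rw [mul_one, mul_inv_cancel] at hy
      have hau : a ∈ R a := by
        rw [eq_inv_of_mul_eq_one_left hy.symm] at hu ⊢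
        exact (R _).inv_mem hu
      have hmem : a ∈ R a ⊓ (L ⊓ Subgroup.centralizer ({a} : Set G)) :=
        ⟨hau, hD.subset ha, Subgroup.mem_centralizer_singleton_iff.2 rfl⟩
      rw [hD.inf_eq_bot _ ha, Subgroup.mem_bot] at hmem
      exact hD.one_not_mem (hmem ▸ ha)
    τ := Cfsg.dadeIsometry A L R
    τ_add := PF4.dade_add
    τ_smul := PF4.dade_smul
    τ_supp := fun α g hg => H43.dade_apply_zero fun ⟨a, ha, x, u, hu, hx⟩ =>
      hg ⟨a, ha, u, hu, x, hx⟩
    τ_class := fun α hα => dade_isClassFunction hD hα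
    τ_inner := fun α β hα hβ h1 h2 =>
      (Cfsg.Agent.S1500.result A L R hD α hα (hoff h1)).1 β hβ (hoff h2)
    τ_one := fun α hα h1 => by
      refine (Cfsg.Agent.S1500.result A L R hD α hα (hoff h1)).2 (fun _ => 1) (fun _ => 1)
        (fun _ _ => rfl) fun a _ => ?_
      classical
      rw [finsum_mem_eq_toFinset_sum, Finset.sum_const, nsmul_eq_mul, mul_one,
        Set.toFinset_card, ← Nat.card_eq_fintype_card]
      exact (inv_mul_cancel₀ (CharInduce.card_ne_zero_complex _)).symm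
    τ_gen := fun α hα h1 => Cfsg.Agent.S1501.result A L R hD α hα (hoff h1)
    τ_aut := fun σ α => by
      funext g
      simp only [Cfsg.dadeIsometry]
      split_ifs <;> simp
    coherent := hcoh }

end Dade

section TypeI

/-- The block of a maximal subgroup of Type I which is a Frobenius group. -/
@[reducible] noncomputable def Block.ofTypeI (L : Subgroup G)
    (hD : Cfsg.DadeHypothesis (setA L) L (Cfsg.supportR L)) (hI : IsTypeI L)
    (hne : Cfsg.fittingHall L ≠ ⊥) (htop : Cfsg.fittingHall L ≠ ⊤)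
    (hnil : Group.IsNilpotent (Cfsg.fittingHall L)) (hodd : Odd (Nat.card L))
    (hfrob : ∀ x ∈ Cfsg.fittingHallOf L, x ≠ 1 →
      L ⊓ Subgroup.centralizer ({x} : Set G) ≤ Cfsg.fittingHallOf L)
    (hcoh : letI := Fintype.ofFinite L
      Cfsg.IsCoherent (Cfsg.inducedIrrAbove (Cfsg.fittingHall L) ⊥) {1}ᶜ
        (Cfsg.dadeIsometry (setA L) L (Cfsg.supportR L))) : Block G :=
  have hmem : ∀ x : L, (x : G) ∈ Cfsg.fittingHallOf L ↔ x ∈ Cfsg.fittingHall L := fun x =>
    Subgroup.mem_map_iff_mem L.subtype_injective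
  Block.ofDade hD (Cfsg.fittingHall L)
    (fun l => by
      rw [setA, if_pos hI, Set.mem_setOf_eq]
      constructor
      · rintro ⟨-, h1, x, hx, hx1, hc⟩
        exact ⟨(hmem l).1 (hfrob x hx hx1 ⟨l.2, Subgroup.mem_centralizer_singleton_iff.2 hc⟩),
          fun e => h1 (congrArg Subtype.val e)⟩
      · rintro ⟨hl, h1⟩
        exact ⟨l.2, fun e => h1 (Subtype.ext e), l, (hmem l).2 hl, fun e => h1 (Subtype.ext e), rfl⟩)
    hne htop
    (fun h hh h1 x hx => (hmem x).1 (hfrob h ((hmem h).2 hh) (fun e => h1 (Subtype.ext e))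
      ⟨x.2, Subgroup.mem_centralizer_singleton_iff.2
        (congrArg Subtype.val (Subgroup.mem_centralizer_singleton_iff.1 hx))⟩))
    hodd hnil hcoh

/-- The support of a Dade block is the set `Ã`. -/
theorem dadeSupp_supportR (M : Subgroup G) (A : Set G) :
    H43.dadeSupp A (Cfsg.supportR M) = Cfsg.tildeOf M A := by
  ext g
  constructor
  · rintro ⟨a, ha, u, hu, x, hx⟩
    exact ⟨a, ha, u, hu, x⁻¹, by rw [← hx]; group⟩
  · rintro ⟨a, ha, u, hu, y, rfl⟩
    exact ⟨a, ha, u, hu, y⁻¹, by group⟩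

end TypeI

section Quotient

variable (T : Subgroup G) (Q K : Subgroup T) [Q.Normal]

/-- The elements of `G` conjugate into `K ∖ Q`. -/
def quotΩ : Set G := {g | ∃ x : G, ∃ t : T, t ∈ K ∧ t ∉ Q ∧ x * g * x⁻¹ = t}

open scoped Classical in
/-- The inflation of a function on `T / Q`, cut down to `K ∖ Q`. -/
noncomputable def quotCut (α : T ⧸ Q → ℂ) : T → ℂ := fun t =>
  if t ∈ K ∧ t ∉ Q then α (QuotientGroup.mk' Q t) else 0

/-- Induction of inflated functions. -/
noncomputable def quotTau (α : T ⧸ Q → ℂ) : G → ℂ := Cfsg.indFun T (quotCut T Q K α)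

variable {T Q K}

theorem indFun_apply_of_ti [K.Normal]
    (hTI : ∀ g : G, ∀ t : T, t ∈ K → t ∉ Q →
      (∃ t' : T, t' ∈ K ∧ t' ∉ Q ∧ g * t * g⁻¹ = (t' : G)) → g ∈ T)
    {f : T → ℂ} (hf : Cfsg.IsClassFunction T f) (hf0 : ∀ t, ¬(t ∈ K ∧ t ∉ Q) → f t = 0) (t : T)
    (ht : t ∈ K ∧ t ∉ Q) : Cfsg.indFun T f t = f t := by
  classical
  have key : ∀ x : G, Cfsg.extendByZero T f (x⁻¹ * t * x) = if x ∈ T then f t else 0 := by
    intro x
    split_ifs with hx
    · have := CharInduce.extendByZero_conj hf (inv_mem hx) (t : G)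
      rw [inv_inv, CharInduce.extendByZero_coe] at this
      exact this
    · by_cases hy : x⁻¹ * (t : G) * x ∈ T
      · rw [← show ((⟨_, hy⟩ : T) : G) = x⁻¹ * (t : G) * x from rfl, CharInduce.extendByZero_coe]
        refine hf0 _ fun h => hx (by
          simpa using inv_mem (hTI x⁻¹ t ht.1 ht.2 ⟨⟨_, hy⟩, h.1, h.2, by rw [inv_inv]⟩))
      · rw [CharInduce.extendByZero_of_not_mem _ hy]
  simp only [CharInduce.indFun_apply, key]
  rw [← sum_filter, sum_const, nsmul_eq_mul, ← Fintype.card_subtype, ← Nat.card_eq_fintype_card,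
    ← mul_assoc, inv_mul_cancel₀ (CharInduce.card_ne_zero_complex _), one_mul]

theorem cut_class [K.Normal] {α : T ⧸ Q → ℂ} (hα : Cfsg.IsClassFunction _ α) :
    Cfsg.IsClassFunction T (quotCut T Q K α) := by
  classical
  intro g h
  have h1 : h * g * h⁻¹ ∈ K ↔ g ∈ K :=
    ⟨fun e => by simpa [mul_assoc] using Subgroup.Normal.conj_mem ‹K.Normal› _ e h⁻¹,
      fun e => Subgroup.Normal.conj_mem ‹K.Normal› _ e h⟩
  have h2 : h * g * h⁻¹ ∈ Q ↔ g ∈ Q :=
    ⟨fun e => by simpa [mul_assoc] using Subgroup.Normal.conj_mem ‹Q.Normal› _ e h⁻¹,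
      fun e => Subgroup.Normal.conj_mem ‹Q.Normal› _ e h⟩
  simp only [quotCut, h1, h2, map_mul, map_inv]
  split_ifs with hg
  · exact hα _ _
  · rfl

theorem cut_eq (hQK : Q ≤ K) {α : T ⧸ Q → ℂ}
    (hα : ∀ l, l ∉ K.map (QuotientGroup.mk' Q) ∨ l = 1 → α l = 0) :
    quotCut T Q K α = fun t => α (QuotientGroup.mk' Q t) := by
  classical
  funext t
  simp only [quotCut]
  split_ifs with h
  · rfl
  · rw [hα]
    by_cases hQ : t ∈ Q
    · exact Or.inr ((QuotientGroup.eq_one_iff t).2 hQ)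
    · refine Or.inl fun ⟨k, hk, he⟩ => h ⟨?_, hQ⟩
      have : k⁻¹ * t ∈ Q := QuotientGroup.eq.1 he
      simpa using mul_mem hk (hQK this)

/-- The block `T / Q`. -/
@[reducible] noncomputable def Block.ofQuotient [hK : K.Normal] (hQK : Q ≤ K) (hne : ¬ K ≤ Q)
    (htop : K ≠ ⊤) (hodd : Odd (Nat.card T))
    (hcomm : ∀ a ∈ K, ∀ b ∈ K, a * b * a⁻¹ * b⁻¹ ∈ Q)
    (hfrob : ∀ k ∈ K, k ∉ Q → ∀ x : T, x * k * x⁻¹ * k⁻¹ ∈ Q → x ∈ K)
    (hTI : ∀ g : G, ∀ t : T, t ∈ K → t ∉ Q →
      (∃ t' : T, t' ∈ K ∧ t' ∉ Q ∧ g * t * g⁻¹ = (t' : G)) → g ∈ T) : Block G :=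
  letI : Fintype (T ⧸ Q) := Fintype.ofFinite _
  letI : Fintype T := Fintype.ofFinite _
  let H := K.map (QuotientGroup.mk' Q)
  haveI hHn : H.Normal := hK.map _ (QuotientGroup.mk'_surjective Q)
  have hmem : ∀ t : T, QuotientGroup.mk' Q t ∈ H → t ∈ K := fun t ⟨k, hk, he⟩ => by
    have : k⁻¹ * t ∈ Q := QuotientGroup.eq.1 he
    simpa using mul_mem hk (hQK this)
  have hbot : H ≠ ⊥ := fun e => hne fun k hk =>
    (QuotientGroup.eq_one_iff k).1 (Subgroup.mem_bot.1 (e ▸ Subgroup.mem_map_of_mem _ hk))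
  have htop' : H ≠ ⊤ := fun e => htop ((Subgroup.eq_top_iff' K).2 fun t =>
    hmem t (e ▸ Subgroup.mem_top _))
  have hoddq : Odd (Nat.card (T ⧸ Q)) := Odd.of_dvd_nat hodd (Subgroup.card_quotient_dvd_card Q)
  have hF : H28.Frob.IsFrobKer H := by
    rintro _ ⟨k, hk, rfl⟩ h1 y hy
    obtain ⟨x, rfl⟩ := QuotientGroup.mk'_surjective Q y
    refine Subgroup.mem_map_of_mem _ (hfrob k hk (fun hQ => h1 ((QuotientGroup.eq_one_iff k).2 hQ)) x ?_)
    rw [← QuotientGroup.eq_one_iff]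
    have e := Subgroup.mem_centralizer_singleton_iff.1 hy
    simp only [QuotientGroup.mk'_apply] at e
    rw [QuotientGroup.mk_mul, QuotientGroup.mk_mul, QuotientGroup.mk_mul, QuotientGroup.mk_inv,
      QuotientGroup.mk_inv, e, mul_inv_cancel_right, mul_inv_cancel]
  have hab : ∀ a ∈ H, ∀ b ∈ H, a * b = b * a := by
    rintro _ ⟨a, ha, rfl⟩ _ ⟨b, hb, rfl⟩
    have := (QuotientGroup.eq_one_iff _).2 (hcomm a ha b hb)
    rw [QuotientGroup.mk_mul, QuotientGroup.mk_mul, QuotientGroup.mk_mul, QuotientGroup.mk_inv,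
      QuotientGroup.mk_inv, mul_inv_eq_one, mul_inv_eq_iff_eq_mul] at this
    exact this
  have hnil : Group.IsNilpotent H := by
    haveI : IsMulCommutative H := ⟨⟨fun a b => Subtype.ext (hab a a.2 b b.2)⟩⟩
    open scoped IsMulCommutative in exact inferInstance
  have hgen : ∀ α, Cfsg.IsGeneralizedCharacter (T ⧸ Q) α → (∀ l, l ∉ H ∨ l = 1 → α l = 0) →
      Cfsg.IsGeneralizedCharacter G (quotTau T Q K α) := fun α hα h1 => by
    rw [quotTau, cut_eq hQK h1]
    exact CharInduce.IsGen.ind T (CharInduce.IsGen.comp hα _)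
  have hinner : ∀ α β, Cfsg.IsClassFunction (T ⧸ Q) α → Cfsg.IsClassFunction (T ⧸ Q) β →
      (∀ l, l ∉ H ∨ l = 1 → α l = 0) → (∀ l, l ∉ H ∨ l = 1 → β l = 0) →
      Cfsg.classInner (quotTau T Q K α) (quotTau T Q K β) = Cfsg.classInner α β := by
    intro α β _ hβ h1 h2
    simp only [quotTau]
    rw [CharInduce.classInner_indFun_left T _ _ (CharInduce.isClassFunction_indFun T _)]
    rw [← CharInduce.classInner_comp_surjective (QuotientGroup.mk' Q)
      (QuotientGroup.mk'_surjective Q) α β, ← cut_eq hQK h1, ← cut_eq hQK h2]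
    rw [classInner_def, classInner_def]
    congr 1
    refine sum_congr rfl fun t _ => ?_
    by_cases ht : t ∈ K ∧ t ∉ Q
    · rw [indFun_apply_of_ti hTI (cut_class hβ) (fun t h => by
        classical
        simp only [quotCut, if_neg h]) t ht]
    · classical
      simp only [quotCut, if_neg ht, zero_mul]
  have hadd : ∀ α β, quotTau T Q K (α + β) = quotTau T Q K α + quotTau T Q K β := fun α β => by
    classical
    rw [quotTau, quotTau, quotTau, ← CharInduce.indFun_add]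
    congr 1
    funext t
    simp only [quotCut, Pi.add_apply]
    split_ifs <;> simp
  have hsmul : ∀ (c : ℂ) α, quotTau T Q K (c • α) = c • quotTau T Q K α := fun c α => by
    classical
    rw [quotTau, quotTau, ← CharInduce.indFun_smul]
    congr 1
    funext t
    simp only [quotCut, Pi.smul_apply]
    split_ifs <;> simp
  have hone : (1 : G) ∉ quotΩ T Q K := fun ⟨x, t, _, htQ, e⟩ => htQ (by
    rw [mul_one, mul_inv_cancel] at e
    rw [show t = 1 from Subtype.ext e.symm]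
    exact Q.one_mem)
  have hsupp : ∀ α, ∀ g ∉ quotΩ T Q K, quotTau T Q K α g = 0 := fun α g hg => by
    classical
    rw [quotTau, CharInduce.indFun_apply, sum_eq_zero, mul_zero]
    intro x _
    by_cases hy : x⁻¹ * g * x ∈ T
    · rw [← show ((⟨_, hy⟩ : T) : G) = x⁻¹ * g * x from rfl, CharInduce.extendByZero_coe]
      simp only [quotCut]
      rw [if_neg]
      exact fun h => hg ⟨x⁻¹, ⟨_, hy⟩, h.1, h.2, by rw [inv_inv]⟩
    · rw [CharInduce.extendByZero_of_not_mem _ hy]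
  { L := T ⧸ Q
    H := H
    normal := hHn
    ne_bot := hbot
    ne_top := htop'
    frob := hF
    odd := hoddq
    nilpotent := hnil
    Ω := quotΩ T Q K
    conj_mem := fun g ⟨y, t, h1, h2, e⟩ x => ⟨y * x⁻¹, t, h1, h2, by rw [← e]; group⟩
    one_notMem := hone
    τ := quotTau T Q K
    τ_add := hadd
    τ_smul := hsmul
    τ_supp := hsupp
    τ_class := fun α _ => CharInduce.isClassFunction_indFun T _
    τ_inner := hinner
    τ_one := fun α _ h1 => by
      rw [quotTau, CharInduce.classInner_indFun_left T _ _ (fun _ _ => rfl), cut_eq hQK h1,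
        ← CharInduce.classInner_comp_surjective (QuotientGroup.mk' Q)
          (QuotientGroup.mk'_surjective Q) α (fun _ => 1)]
    τ_gen := hgen
    τ_aut := fun σ α => by
      classical
      funext g
      rw [quotTau, quotTau, ← PF6.indFun_aut]
      congr 1
      funext t
      simp only [quotCut]
      split_ifs <;> simp
    coherent := by
      have hlt : H < ⊤ := lt_top_iff_ne_top.2 htop'
      have hsolv : Group.IsSolvable H := by
        haveI := hnil
        infer_instance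
      have hz : ∀ α ∈ Cfsg.zspanOn (↑(PF6.seqInd H ⊥) : Set (T ⧸ Q → ℂ)) ({1}ᶜ : Set (T ⧸ Q)),
          Cfsg.IsGeneralizedCharacter _ α ∧ ∀ l, l ∉ H ∨ l = 1 → α l = 0 := by
        intro α hα
        obtain ⟨h1, h2⟩ := H43.zspanOn_compl_one.1 hα
        refine ⟨PF6.gen_of_mem_zspan (fun χ h =>
          CharBasic.IsIrr.isCharacter (PF6.seqInd_irr hF h)) h1, fun l hl => ?_⟩
        rcases hl with hl | rfl
        · exact Submodule.span_induction (p := fun f _ => f l = 0)
            (fun f hf => PF6.seqInd_vanish hf hl) rfl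
            (fun f g _ _ h1 h2 => by simp [h1, h2]) (fun n f _ h1 => by simp [h1]) h1
        · exact h2
      have hτ : Cfsg.IsLinearIsometryOn
          (Cfsg.zspanOn (↑(PF6.seqInd H ⊥) : Set (T ⧸ Q → ℂ)) {1}ᶜ) (quotTau T Q K) :=
        ⟨fun a _ b _ => hadd a b, fun a _ n => by
            rw [← Int.cast_smul_eq_zsmul ℂ, hsmul, Int.cast_smul_eq_zsmul],
          fun a ha b hb => hinner a b (H43.gen_isClassFunction (hz a ha).1)
            (H43.gen_isClassFunction (hz b hb).1) (hz a ha).2 (hz b hb).2,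
          fun a ha => hgen a (hz a ha).1 (hz a ha).2⟩
      have hneS := PF6.seqInd_nonempty (K := H) hsolv (A := ⊥) (bot_lt_iff_ne_bot.2 hbot)
      obtain ⟨R, hR⟩ := PF6.exists_system hF hoddq hlt hneS hτ fun α _ => hsupp α 1 hone
      rw [← PF6.coe_seqInd]
      exact PF6.coherent_const_degree hR (PF6.seqInd_subset_inducedIrr _) (by simpa using hneS)
        (fun φ h => PF6.seqInd_conj H h) fun φ hφ ψ hψ => by
          have hC : ⁅H, H⁆ ≤ (⊥ : Subgroup (T ⧸ Q)) :=
            Subgroup.commutator_le.2 fun a ha b hb => Subgroup.mem_bot.2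
              (commutatorElement_eq_one_iff_commute.2 (hab a ha b hb))
          rw [PF6.seqInd_derived_degree hC hφ, PF6.seqInd_derived_degree hC hψ] }

/-- The Frobenius condition for `T = K W`, `K = Q V`, from a fixed-point-free action on an
abelian `V`. -/
theorem frob_of_complement [K.Normal] (V W : Subgroup T) (hKV : Q ⊔ V = K)
    (hTW : K ⊔ W = ⊤) (hQV : Q ⊓ V = ⊥) (hWV : ∀ w ∈ W, ∀ v ∈ V, w * v * w⁻¹ ∈ V)
    (hV : ∀ a ∈ V, ∀ b ∈ V, a * b = b * a)
    (hfpf : ∀ w ∈ W, w ≠ 1 → ∀ v ∈ V, w * v = v * w → v = 1) :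
    (∀ a ∈ K, ∀ b ∈ K, a * b * a⁻¹ * b⁻¹ ∈ Q) ∧
      ∀ k ∈ K, k ∉ Q → ∀ x : T, x * k * x⁻¹ * k⁻¹ ∈ Q → x ∈ K := by
  have hdec : ∀ k ∈ K, ∃ v ∈ V, (k : T ⧸ Q) = (v : T ⧸ Q) := by
    intro k hk
    rw [← hKV] at hk
    obtain ⟨a, ha, v, hv, rfl⟩ := Subgroup.mem_sup_of_normal_left.1 hk
    exact ⟨v, hv, by rw [QuotientGroup.mk_mul, (QuotientGroup.eq_one_iff a).2 ha, one_mul]⟩
  refine ⟨fun a ha b hb => ?_, fun k hk hkQ x hx => ?_⟩
  · obtain ⟨v, hv, e1⟩ := hdec a ha
    obtain ⟨v', hv', e2⟩ := hdec b hb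
    rw [← QuotientGroup.eq_one_iff, QuotientGroup.mk_mul, QuotientGroup.mk_mul,
      QuotientGroup.mk_mul, QuotientGroup.mk_inv, QuotientGroup.mk_inv, e1, e2,
      ← QuotientGroup.mk_mul, hV v hv v' hv', QuotientGroup.mk_mul]
    group
  · obtain ⟨c, hc, w, hw, rfl⟩ := Subgroup.mem_sup_of_normal_left.1
      (show x ∈ K ⊔ W by rw [hTW]; exact Subgroup.mem_top _)
    rcases eq_or_ne w 1 with rfl | hw1
    · simpa using hc
    exfalso
    obtain ⟨v, hv, e1⟩ := hdec k hk
    obtain ⟨v', hv', e2⟩ := hdec c hc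
    have hy := hWV w hw v hv
    rw [← QuotientGroup.eq_one_iff] at hx
    have e3 : ((v' * (w * v * w⁻¹) * v'⁻¹ * v⁻¹ : T) : T ⧸ Q) = 1 := by
      rw [← hx]
      simp only [QuotientGroup.mk_mul, QuotientGroup.mk_inv, ← e1, ← e2]
      group
    rw [hV v' hv' _ hy, mul_inv_cancel_right, QuotientGroup.eq_one_iff] at e3
    have e4 : w * v * w⁻¹ * v⁻¹ ∈ Q ⊓ V := ⟨e3, V.mul_mem hy (V.inv_mem hv)⟩
    rw [hQV, Subgroup.mem_bot, mul_inv_eq_one, mul_inv_eq_iff_eq_mul] at e4
    refine hkQ ((QuotientGroup.eq_one_iff k).1 ?_)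
    rw [e1, hfpf w hw hw1 v hv e4, QuotientGroup.mk_one]

end Quotient

end Cfsg.Agent.OddOrder.PF14
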