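import Cfsg.Agent.OddOrder.PF14.Setting
import Cfsg.Agent.OddOrder.PF14.BlockInst
import Cfsg.Agent.OddOrder.PF14.BlockGrid

/-!
# Peterfalvi section 14: the block `T' / Q` of a subgroup `T` of Type III

`T' = Q V`, `Q = T_F`, `W₂` the complement of `T'`: `T / Q` is a Frobenius group with kernel `T' / Q`
of order `|V|` and complement of order `|W₂|`; the elements of `T' ∖ Q` lie in `A(T)`.
-/

set_option autoImplicit false
set_option linter.unusedSectionVars false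

namespace Cfsg.Agent.OddOrder.PF14

open Subgroup
open Cfsg.Agent Cfsg.Agent.OddOrder

universe u

variable {G : Type u} [Group G] {T V W₁ W₂ : Subgroup G}

/-- If some power of `k = x c` with `x` of order `p` survives, `p` divides the order of `k`. -/
theorem dvd_orderOf_of_mem_sup {P C : Subgroup G} {p : ℕ} (hp : p.Prime)
    (hpow : ∀ x ∈ P, x ^ p = 1) (hC : C ≤ centralizer (P : Set G)) (hd : P ⊓ C = ⊥)
    {k : G} (hk : k ∈ P ⊔ C) (hkC : k ∉ C) : p ∣ orderOf k := by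
  have h' : k ∈ ((P ⊔ C : Subgroup G) : Set G) := hk
  rw [sup_comm, Subgroup.coe_mul_of_left_le_normalizer_right C P
    (hC.trans (centralizer_le_normalizer _)), Set.mem_mul] at h'
  obtain ⟨c, hc, x, hx, rfl⟩ := h'
  have hcom : Commute c x := (mem_centralizer_iff.1 (hC hc) x hx).symm
  have h1 := pow_orderOf_eq_one (c * x)
  rw [hcom.mul_pow] at h1
  have h2 : x ^ orderOf (c * x) = 1 := by
    have : x ^ orderOf (c * x) ∈ P ⊓ C :=
      ⟨P.pow_mem hx _, by rw [eq_inv_of_mul_eq_one_right h1]; exact C.inv_mem (C.pow_mem hc _)⟩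
    rwa [hd, mem_bot] at this
  have hx1 : x ≠ 1 := fun e => hkC (by rw [e, mul_one]; exact hc)
  have hox : orderOf x = p :=
    ((hp.eq_one_or_self_of_dvd _ (orderOf_dvd_of_pow_eq_one (hpow x hx))).resolve_left
      fun e => hx1 (orderOf_eq_one_iff.1 e))
  exact hox ▸ orderOf_dvd_of_pow_eq_one h2

variable [Finite G]

theorem typeIII_facts (hTP : Cfsg.IsTypePWith T W₂ V W₁) (hIII : Cfsg.IsOfTypeIII T) :
    V ≠ ⊥ ∧ IsMulCommutative V ∧ (Nat.card W₂).Prime ∧ Cfsg.typeCore T = ⁅T, T⁆ := by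
  refine ⟨?_, ?_, ?_, by rw [Cfsg.typeCore, if_pos (Or.inl hIII)]⟩
  all_goals obtain ⟨A, B, C, hP, hB, hA, -, hcomm, -⟩ := id hIII
  all_goals obtain ⟨m, -, hW, hU, -⟩ := TypeP.conj_data hP hTP
  · rw [hU]
    exact fun e => hB ((map_eq_bot_iff_of_injective _ (MulAut.conj m).injective).1 e)
  · rw [hU]
    exact Subgroup.map_isMulCommutative _ _
  · rwa [hW, Coprime.card_map_conj]

/-- The elements of `G` conjugate into `T' ∖ Q`. -/
def omegaT (T : Subgroup G) : Set G :=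
  {g | ∃ x : G, ∃ t ∈ ⁅T, T⁆, t ∉ Cfsg.fittingHallOf T ∧ x * g * x⁻¹ = t}

/-- `T' ∖ Q` lies in `A₀(T)`. -/
theorem mem_setA0_of_derived (hG : Cfsg.IsMinSimpleOddOrder G) (F : BG16.SectionFacts G)
    (hT : IsCoatom T) (hTP : Cfsg.IsTypePWith T W₂ V W₁) (hIII : Cfsg.IsOfTypeIII T)
    {t : G} (ht : t ∈ ⁅T, T⁆) (ht1 : t ≠ 1) : t ∈ setA0 T := by
  refine Or.inl ?_
  rw [setA, if_neg (not_typeI hG F hT hTP)]
  exact ⟨ht, ht1, t, (typeIII_facts hTP hIII).2.2.2.symm ▸ ht, ht1, rfl⟩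

theorem coprime_derived_p (hTP : Cfsg.IsTypePWith T W₂ V W₁) {t : G} (ht : t ∈ ⁅T, T⁆) :
    (orderOf t).Coprime (Nat.card W₂) :=
  (TypeP.coprime_derived_W₁ hTP).coprime_dvd_left (orderOf_dvd_natCard _ ht)

theorem notMem_omegaT_of_dvd (hTP : Cfsg.IsTypePWith T W₂ V W₁) (hp : (Nat.card W₂).Prime) {k : G}
    (hk : Nat.card W₂ ∣ orderOf k) : k ∉ omegaT T := by
  rintro ⟨x, t, ht, -, he⟩
  have h : orderOf k = orderOf t := by
    rw [← he]
    exact ((MulAut.conj x).orderOf_eq k).symm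
  exact hp.ne_one (Nat.Coprime.eq_one_of_dvd
    ((coprime_derived_p hTP ht).symm) (h ▸ hk))

variable (hG : Cfsg.IsMinSimpleOddOrder G) (F : BG16.SectionFacts G)
  (hfrob : ∀ L : Subgroup G, IsCoatom L → IsTypeI L → ∀ x ∈ Cfsg.fittingHallOf L, x ≠ 1 →
    L ⊓ centralizer ({x} : Set G) ≤ Cfsg.fittingHallOf L)
  (hT : IsCoatom T) (hTP : Cfsg.IsTypePWith T W₂ V W₁) (hIII : Cfsg.IsOfTypeIII T)

include hG F hfrob hT hTP hIII

/-- Conjugating `T' ∖ 1` into `A₀(T)` happens only inside `T`. -/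
theorem mem_of_conj_derived {g a : G} (ha : a ∈ setA0 T) (hg : g * a * g⁻¹ ∈ setA0 T) : g ∈ T := by
  obtain ⟨hTI, hN⟩ := setA0_ti hG F hfrob hT (kappa_nonempty hG F hT hTP)
  by_contra h
  exact PF8.one_not_mem_typeA0 T (hTI g (hN.symm ▸ h) a ha hg ▸ ha)

/-- The elements of `W₂ W₁` outside `W₂ ∪ W₁` are not conjugate into `T' ∖ Q`. -/
theorem notMem_omegaT_of_W {w : G} (hw : w ∈ W₂ ⊔ W₁) (h2 : w ∉ W₂) (h1 : w ∉ W₁) :
    w ∉ omegaT T := by
  rintro ⟨x, t, ht, htQ, he⟩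
  have hwA : w ∈ setA0 T :=
    Or.inr ⟨not_typeI hG F hT hTP, W₂, V, W₁, hTP, 1, one_mem _, w, hw, h2, h1, by simp⟩
  have hx : x ∈ T := mem_of_conj_derived hG F hfrob hT hTP hIII hwA
    (he.symm ▸ mem_setA0_of_derived hG F hT hTP hIII ht fun e => htQ (e ▸ one_mem _))
  have hwT : w ∈ ⁅T, T⁆ := by
    have := Coprime.conj_mem' (TypeP.le_normalizer_derived T hx) ht
    rwa [← he, show x⁻¹ * (x * w * x⁻¹) * x = w by group] at this
  obtain ⟨a, b, ha, hb, e⟩ := H43.exists_mul_decomp hTP.selfNormalizing ⟨w, hw⟩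
  have e' : w = (a : G) * b := congrArg Subtype.val e
  have haT : (a : G) ∈ ⁅T, T⁆ := by
    rw [show (a : G) = w * (b : G)⁻¹ by rw [e', mul_inv_cancel_right]]
    exact mul_mem hwT (inv_mem (TypeP.core_le_derived hTP (TypeP.W₂_le_core hTP hb)))
  have : (a : G) ∈ (⊥ : Subgroup G) := hTP.W₁_compl.2.2.1 ▸ ⟨haT, ha⟩
  refine h1 ?_
  rw [e', mem_bot.1 this, one_mul]
  exact hb

/-- `Q ∖ 1` is not conjugate into `T' ∖ Q`. -/
theorem notMem_omegaT_of_core {k : G} (hk : k ∈ Cfsg.fittingHallOf T) (hk1 : k ≠ 1) :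
    k ∉ omegaT T := by
  rintro ⟨x, t, ht, htQ, he⟩
  have hx : x ∈ T := mem_of_conj_derived hG F hfrob hT hTP hIII
    (mem_setA0_of_derived hG F hT hTP hIII (TypeP.core_le_derived hTP hk) hk1)
    (he.symm ▸ mem_setA0_of_derived hG F hT hTP hIII ht fun e => htQ (e ▸ one_mem _))
  exact htQ (he ▸ Coprime.conj_mem (TypeP.le_normalizer_core T hx) hk)

end Cfsg.Agent.OddOrder.PF14

namespace Cfsg.Agent.OddOrder.PF14

open Subgroup
open Cfsg.Agent Cfsg.Agent.OddOrder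

universe u

variable {G : Type u} [Group G] [Fintype G] {T V W₁ W₂ : Subgroup G}
  (hG : Cfsg.IsMinSimpleOddOrder G) (F : BG16.SectionFacts G)
  (hfrob : ∀ L : Subgroup G, IsCoatom L → IsTypeI L → ∀ x ∈ Cfsg.fittingHallOf L, x ≠ 1 →
    L ⊓ centralizer ({x} : Set G) ≤ Cfsg.fittingHallOf L)
  (hT : IsCoatom T) (hTP : Cfsg.IsTypePWith T W₂ V W₁) (hIII : Cfsg.IsOfTypeIII T)

instance derived_subgroupOf_normal (T : Subgroup G) : (⁅T, T⁆.subgroupOf T).Normal :=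
  (normal_subgroupOf_iff_le_normalizer (TypeP.derived_le T)).2 (TypeP.le_normalizer_derived T)

instance core_subgroupOf_normal (T : Subgroup G) : ((Cfsg.fittingHallOf T).subgroupOf T).Normal :=
  (normal_subgroupOf_iff_le_normalizer (TypeP.core_le T)).2 (TypeP.le_normalizer_core T)

include hTP hIII in
theorem blockT_frob :
    (∀ a ∈ ⁅T, T⁆.subgroupOf T, ∀ b ∈ ⁅T, T⁆.subgroupOf T,
        a * b * a⁻¹ * b⁻¹ ∈ (Cfsg.fittingHallOf T).subgroupOf T) ∧
      ∀ k ∈ ⁅T, T⁆.subgroupOf T, k ∉ (Cfsg.fittingHallOf T).subgroupOf T →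
        ∀ x : T, x * k * x⁻¹ * k⁻¹ ∈ (Cfsg.fittingHallOf T).subgroupOf T → x ∈ ⁅T, T⁆.subgroupOf T := by
  obtain ⟨-, hV, -, -⟩ := typeIII_facts hTP hIII
  have hV' : V ≤ T := TypeP.U_le hTP
  have hW : W₂ ≤ T := TypeP.W₁_le hTP
  refine frob_of_complement (V.subgroupOf T) (W₂.subgroupOf T) ?_ ?_ ?_ (fun w hw v hv => ?_)
    (fun a ha b hb => ?_) fun w hw hw1 v hv e => ?_
  · rw [← subgroupOf_sup (TypeP.core_le T) hV']
    congr 1
    refine le_antisymm (sup_le (TypeP.core_le_derived hTP) (TypeP.U_le_derived hTP)) fun m hm => ?_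
    obtain ⟨a, ha, b, hb, rfl⟩ := hTP.U_compl.2.2.2 m hm
    exact mul_mem_sup ha hb
  · rw [← subgroupOf_sup (TypeP.derived_le T) hW, subgroupOf_eq_top]
    intro m hm
    obtain ⟨a, ha, b, hb, rfl⟩ := hTP.W₁_compl.2.2.2 m hm
    exact mul_mem_sup ha hb
  · refine le_bot_iff.1 fun x hx => mem_bot.2 (Subtype.ext ?_)
    have : (x : G) ∈ Cfsg.fittingHallOf T ⊓ V := ⟨hx.1, hx.2⟩
    rw [hTP.U_compl.2.2.1, mem_bot] at this
    exact this
  · show ((w * v * w⁻¹ : T) : G) ∈ V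
    exact Coprime.conj_mem (hTP.U_normal (show (w : G) ∈ W₂ from hw)) (show (v : G) ∈ V from hv)
  · exact Subtype.ext (congrArg (fun x : V => (x : G))
      (hV.is_comm.comm (⟨(a : G), ha⟩ : V) ⟨(b : G), hb⟩) :)
  · exact Subtype.ext (TypeP.fpf_U hTP hw (fun h => hw1 (Subtype.ext h)) hv (congrArg Subtype.val e))

include hG F hfrob hT hTP hIII in
omit [Fintype G] in
theorem blockT_ti [Finite G] : ∀ g : G, ∀ t : T, t ∈ ⁅T, T⁆.subgroupOf T →
    t ∉ (Cfsg.fittingHallOf T).subgroupOf T →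
    (∃ t' : T, t' ∈ ⁅T, T⁆.subgroupOf T ∧ t' ∉ (Cfsg.fittingHallOf T).subgroupOf T ∧
      g * t * g⁻¹ = (t' : G)) → g ∈ T := fun g t ht htQ ⟨t', ht', htQ', e⟩ =>
  mem_of_conj_derived hG F hfrob hT hTP hIII
    (mem_setA0_of_derived hG F hT hTP hIII ht fun h =>
      htQ (by show (t : G) ∈ Cfsg.fittingHallOf T; rw [show (t : G) = 1 from h]; exact one_mem _))
    (e ▸ mem_setA0_of_derived hG F hT hTP hIII ht' fun h =>
      htQ' (by show (t' : G) ∈ Cfsg.fittingHallOf T; rw [show (t' : G) = 1 from h]; exact one_mem _))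

/-- The block `T' / Q`. -/
@[reducible] noncomputable def blockT : Block G :=
  Block.ofQuotient (T := T) (Q := (Cfsg.fittingHallOf T).subgroupOf T) (K := ⁅T, T⁆.subgroupOf T)
    (fun t ht => TypeP.core_le_derived hTP ht)
    (fun h => (typeIII_facts hTP hIII).1 (le_bot_iff.1 fun v hv => by
      have : v ∈ Cfsg.fittingHallOf T ⊓ V :=
        ⟨h (show (⟨v, TypeP.U_le hTP hv⟩ : T) ∈ ⁅T, T⁆.subgroupOf T from TypeP.U_le_derived hTP hv), hv⟩
      rwa [hTP.U_compl.2.2.1] at this))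
    (fun h => hTP.W₁_ne (le_bot_iff.1 fun w hw => by
      rw [← hTP.W₁_compl.2.2.1]
      exact ⟨(subgroupOf_eq_top.1 h) (TypeP.W₁_le hTP hw), hw⟩))
    (hG.1.of_dvd_nat (card_subgroup_dvd_card T))
    (blockT_frob hTP hIII).1 (blockT_frob hTP hIII).2
    (blockT_ti hG F hfrob hT hTP hIII)

theorem blockT_Ω : (blockT hG F hfrob hT hTP hIII).Ω = omegaT T := by
  ext g
  constructor
  · rintro ⟨x, t, h1, h2, e⟩
    exact ⟨x, t, h1, h2, e⟩
  · rintro ⟨x, t, h1, h2, e⟩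
    exact ⟨x, ⟨t, TypeP.derived_le T h1⟩, h1, h2, e⟩

theorem blockT_e : (blockT hG F hfrob hT hTP hIII).e = Nat.card W₂ := by
  show ((⁅T, T⁆.subgroupOf T).map (QuotientGroup.mk' _)).index = _
  rw [index_map, MonoidHom.range_eq_top_of_surjective _ (QuotientGroup.mk'_surjective _), index_top, mul_one,
    QuotientGroup.ker_mk',
    sup_eq_left.2 (fun t ht => TypeP.core_le_derived hTP ht :
      (Cfsg.fittingHallOf T).subgroupOf T ≤ ⁅T, T⁆.subgroupOf T)]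
  have h1 := card_mul_index (⁅T, T⁆.subgroupOf T)
  rw [Nat.card_congr (subgroupOfEquivOfLe (TypeP.derived_le T)).toEquiv, TypeP.card_eq hTP] at h1
  exact Nat.eq_of_mul_eq_mul_left Nat.card_pos h1

theorem blockT_card_H : Nat.card (blockT hG F hfrob hT hTP hIII).H = Nat.card V := by
  show Nat.card ↥((⁅T, T⁆.subgroupOf T).map (QuotientGroup.mk' _)) = _
  have h1 := card_mul_index ((⁅T, T⁆.subgroupOf T).map
    (QuotientGroup.mk' ((Cfsg.fittingHallOf T).subgroupOf T)))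
  rw [show ((⁅T, T⁆.subgroupOf T).map (QuotientGroup.mk' _)).index = Nat.card W₂ from
    blockT_e hG F hfrob hT hTP hIII] at h1
  have h2 := card_eq_card_quotient_mul_card_subgroup ((Cfsg.fittingHallOf T).subgroupOf T)
  rw [Nat.card_congr (subgroupOfEquivOfLe (TypeP.core_le T)).toEquiv, ← h1, TypeP.card_eq hTP,
    TypeP.card_derived hTP] at h2
  have h3 : Nat.card (Cfsg.fittingHallOf T) * Nat.card W₂ ≠ 0 :=
    Nat.mul_ne_zero Nat.card_pos.ne' Nat.card_pos.ne'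
  exact mul_left_cancel₀ h3 (by linarith)

theorem blockT_card : (blockT hG F hfrob hT hTP hIII).F * Nat.card W₂ + 1 = Nat.card V := by
  rw [← blockT_e hG F hfrob hT hTP hIII, (blockT hG F hfrob hT hTP hIII).card_H,
    blockT_card_H hG F hfrob hT hTP hIII]

/-- The block avoids the grid, in either order of `W₁, W₂`. -/
theorem blockT_avoid : (blockT hG F hfrob hT hTP hIII).Avoid W₂ W₁ ∧
    (blockT hG F hfrob hT hTP hIII).Avoid W₁ W₂ := by
  refine ⟨fun w h2 h1 h => ?_, fun w h1 h2 h => ?_⟩ <;> rw [blockT_Ω] at h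
  · exact notMem_omegaT_of_W hG F hfrob hT hTP hIII w.2 h2 h1 h
  · exact notMem_omegaT_of_W hG F hfrob hT hTP hIII (sup_comm W₁ W₂ ▸ w.2) h2 h1 h

/-- The block avoids `Q ∖ 1`. -/
theorem blockT_notMem_core {k : G} (hk : k ∈ Cfsg.fittingHallOf T) (hk1 : k ≠ 1) :
    k ∉ (blockT hG F hfrob hT hTP hIII).Ω := by
  rw [blockT_Ω]
  exact notMem_omegaT_of_core hG F hfrob hT hTP hIII hk hk1

/-- The block avoids `P C ∖ C` when `P` has exponent `|W₂|`. -/
theorem blockT_notMem_sup {P C : Subgroup G} (hpow : ∀ x ∈ P, x ^ Nat.card W₂ = 1)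
    (hC : C ≤ centralizer (P : Set G)) (hd : P ⊓ C = ⊥) {k : G} (hk : k ∈ P ⊔ C) (hkC : k ∉ C) :
    k ∉ (blockT hG F hfrob hT hTP hIII).Ω := by
  rw [blockT_Ω]
  have hp := (typeIII_facts hTP hIII).2.2.1
  exact notMem_omegaT_of_dvd hTP hp (dvd_orderOf_of_mem_sup hp hpow hC hd hk hkC)

end Cfsg.Agent.OddOrder.PF14
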