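import Cfsg.Agent.OddOrder.PF14.Partition
import Cfsg.Agent.OddOrder.PF14.TypeIIIBlock
import Cfsg.Agent.OddOrder.PF14.NumAssembly

/-!
# Peterfalvi section 14: the blocks and their disjointness

`blocksI` is the family of the blocks of the classes of maximal subgroups of Type I, indexed by `Fin n`;
`blocksIII` adds the block `T' / Q`.  Their sets, orders and weights, the hypotheses `Clear` and
`disjST` of `Setup`, and the identity `hcover` of `Setup.main`.
-/

set_option autoImplicit false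
set_option linter.unusedSectionVars false
set_option linter.style.haveILetI false

namespace Cfsg.Agent.OddOrder.PF14

open Subgroup
open Cfsg.Agent Cfsg.Agent.OddOrder

universe u

variable {G : Type u} [Group G]

theorem wPart_comm (W₁ W₂ : Subgroup G) : wPart W₂ W₁ = wPart W₁ W₂ := by
  simp only [wPart, sup_comm W₁ W₂, Set.union_comm (W₁ : Set G) ↑W₂]

/-- The part of a side as a set of conjugates. -/
theorem Side.part_eq_partConj (D : Side G) :
    D.part = partConj ((D.K : Set G) \ ↑D.N₀) := by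
  ext a
  exact ⟨fun ⟨x, k, hk, hn, e⟩ => ⟨k, ⟨hk, hn⟩, x, e⟩, fun ⟨k, hk, x, e⟩ => ⟨x, k, hk.1, hk.2, e⟩⟩

/-- The `W''`-part of a side. -/
theorem Side.partW_eq_wPart (D : Side G) : D.partW = wPart D.W₁ D.W₂ := by
  ext a
  constructor
  · rintro ⟨x, w, hw, h1, h2, e⟩
    exact ⟨w, ⟨hw, fun h => h.elim h1 h2⟩, x, e⟩
  · rintro ⟨w, ⟨hw, hn⟩, x, e⟩
    exact ⟨x, w, hw, fun h => hn (Or.inl h), fun h => hn (Or.inr h), e⟩

/-- A side and a block with disjoint sets. -/
theorem Side.clear_of_disjoint [Fintype G] {D : Side G} {B : Block G}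
    (hW : Disjoint (wPart D.W₁ D.W₂) B.Ω)
    (hK : Disjoint (partConj ((D.K : Set G) \ ↑D.N₀)) B.Ω) : D.Clear B :=
  ⟨avoid_of_disjoint hW, fun _ hk hn => Set.disjoint_left.1 hK (mem_partConj ⟨hk, hn⟩)⟩

/-- The set of the block `T' / Q` as a set of conjugates. -/
theorem omegaT_eq (T : Subgroup G) :
    omegaT T = partConj ((↑⁅T, T⁆ : Set G) \ ↑(Cfsg.fittingHallOf T)) := by
  ext g
  constructor
  · rintro ⟨x, t, ht, hn, e⟩
    exact ⟨t, ⟨ht, hn⟩, x⁻¹, by rw [← e]; group⟩
  · rintro ⟨t, ⟨ht, hn⟩, y, rfl⟩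
    exact ⟨y⁻¹, t, ht, hn, by group⟩

variable [Finite G] (hG : Cfsg.IsMinSimpleOddOrder G) (F : BG16.SectionFacts G)
include hG F

/-- Conjugate maximal subgroups of Type I have kernels of the same order and index. -/
theorem typeI_conj_invariants {L : Subgroup G} (hL : IsCoatom L) (hI : IsTypeI L) (g : G)
    (hI' : IsTypeI (L.map (MulAut.conj g).toMonoidHom)) :
    Nat.card (Cfsg.fittingHallOf (L.map (MulAut.conj g).toMonoidHom)) =
        Nat.card (Cfsg.fittingHallOf L) ∧
      (Cfsg.fittingHall ↥(L.map (MulAut.conj g).toMonoidHom)).index =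
        (Cfsg.fittingHall L).index := by
  have h1 : Nat.card (Cfsg.fittingHallOf (L.map (MulAut.conj g).toMonoidHom)) =
      Nat.card (Cfsg.fittingHallOf L) := by
    rw [← sigmaCore_typeI hG F (OddOrder.isCoatom_map _ hL) hI', ← sigmaCore_typeI hG F hL hI,
      ← OddOrder.sigmaCore_map, Coprime.card_map_conj]
  refine ⟨h1, Nat.eq_of_mul_eq_mul_left (Nat.card_pos : 0 < Nat.card (Cfsg.fittingHallOf L)) ?_⟩
  have e1 := (Cfsg.fittingHall L).card_mul_index
  have e2 := (Cfsg.fittingHall ↥(L.map (MulAut.conj g).toMonoidHom)).card_mul_index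
  rw [← show Nat.card (Cfsg.fittingHallOf L) = Nat.card (Cfsg.fittingHall L) from
    Cores.card_map_eq _ L.subtype_injective] at e1
  rw [← show Nat.card (Cfsg.fittingHallOf (L.map (MulAut.conj g).toMonoidHom)) =
      Nat.card (Cfsg.fittingHall ↥(L.map (MulAut.conj g).toMonoidHom)) from
    Cores.card_map_eq _ (L.map (MulAut.conj g).toMonoidHom).subtype_injective, h1,
    Coprime.card_map_conj] at e2
  rw [e2, e1]

end Cfsg.Agent.OddOrder.PF14

namespace Cfsg.Agent.OddOrder.PF14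

open Subgroup
open Cfsg.Agent Cfsg.Agent.OddOrder

universe u

variable {G : Type u} [Group G] [Fintype G] (hG : Cfsg.IsMinSimpleOddOrder G) (F : BG16.SectionFacts G)
  (hfrob : ∀ L : Subgroup G, IsCoatom L → IsTypeI L → ∀ x ∈ Cfsg.fittingHallOf L, x ≠ 1 →
    L ⊓ centralizer ({x} : Set G) ≤ Cfsg.fittingHallOf L)
  (hcoh : ∀ L : Subgroup G, IsCoatom L → IsTypeI L →
    letI := Fintype.ofFinite L
    Cfsg.IsCoherent (Cfsg.inducedIrrAbove (Cfsg.fittingHall L) ⊥) {1}ᶜ
      (Cfsg.dadeIsometry (setA L) L (Cfsg.supportR L)))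

/-- The block of a maximal subgroup of Type I. -/
@[reducible] noncomputable def blockI (L : Subgroup G) (hL : IsCoatom L) (hI : IsTypeI L) : Block G :=
  Block.ofTypeI L ((setA_typeI hfrob hL hI).2.2 ▸ PF10.dade_of_facts hG F hL) hI
    (by obtain ⟨⟨-, -, h, -, -⟩, -⟩ := id hI; exact h)
    (by obtain ⟨⟨-, -, -, h, -⟩, -⟩ := id hI; exact h)
    (H41.fittingHall_spec L).2.1 (hG.1.of_dvd_nat L.card_subgroup_dvd_card) (hfrob L hL hI)
    (hcoh L hL hI)

section BlockI

variable {L : Subgroup G} (hL : IsCoatom L) (hI : IsTypeI L)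

theorem blockI_Ω : (blockI hG F hfrob hcoh L hL hI).Ω = omega L :=
  dadeSupp_eq_omega hfrob hL hI

theorem blockI_e : (blockI hG F hfrob hcoh L hL hI).e = (Cfsg.fittingHall L).index := rfl

theorem blockI_card_H :
    Nat.card (blockI hG F hfrob hcoh L hL hI).H = Nat.card (Cfsg.fittingHallOf L) :=
  (Cores.card_map_eq (Cfsg.fittingHall L) L.subtype_injective).symm

theorem blockI_w : ((blockI hG F hfrob hcoh L hL hI).w : ℚ) =
    ((omega L).ncard : ℚ) / Nat.card G := by
  rw [omega_weight hG F hL hI, Block.w_eq_card]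
  rfl

end BlockI

omit [Fintype G] in
/-- The number of classes of maximal subgroups of Type I. -/
noncomputable def numI (G : Type u) [Group G] [Finite G] : ℕ := Fintype.card (TypeIClass G)

/-- The numbering of the classes. -/
noncomputable def classOf (G : Type u) [Group G] [Finite G] : Fin (numI G) ≃ TypeIClass G :=
  (Fintype.equivFin (TypeIClass G)).symm

/-- The blocks of the classes of Type I. -/
noncomputable def blocksI : Fin (numI G) → Block G := fun X =>
  blockI hG F hfrob hcoh (classOf G X).rep (classOf G X).rep_coatom (classOf G X).rep_typeI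

theorem blocksI_Ω (X : Fin (numI G)) :
    (blocksI hG F hfrob hcoh X).Ω = omega (classOf G X).rep :=
  blockI_Ω hG F hfrob hcoh (classOf G X).rep_coatom (classOf G X).rep_typeI

theorem blocksI_disjoint {X Y : Fin (numI G)} (h : X ≠ Y) :
    Disjoint (blocksI hG F hfrob hcoh X).Ω (blocksI hG F hfrob hcoh Y).Ω := by
  rw [blocksI_Ω, blocksI_Ω]
  exact omega_disjoint hG F fun e => h ((classOf G).injective e)

/-- The block of the class of a given maximal subgroup of Type I. -/
theorem exists_blocksI {L : Subgroup G} (hL : IsCoatom L) (hI : IsTypeI L) :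
    ∃ X : Fin (numI G), (blocksI hG F hfrob hcoh X).Ω = omega L ∧
      (blocksI hG F hfrob hcoh X).e = (Cfsg.fittingHall L).index ∧
      Nat.card (blocksI hG F hfrob hcoh X).H = Nat.card (Cfsg.fittingHallOf L) ∧
      (blocksI hG F hfrob hcoh X).F * (blocksI hG F hfrob hcoh X).e + 1 =
        Nat.card (Cfsg.fittingHallOf L) := by
  obtain ⟨i, g, rfl⟩ := TypeIClass.exists_rep hL hI
  obtain ⟨h1, h2⟩ := typeI_conj_invariants hG F i.rep_coatom i.rep_typeI g hI
  obtain ⟨X, rfl⟩ := (classOf G).surjective i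
  refine ⟨X, ?_, h2.symm, (blockI_card_H hG F hfrob hcoh (classOf G X).rep_coatom (classOf G X).rep_typeI).trans h1.symm, ?_⟩
  · rw [blocksI_Ω, omega_map hG F (classOf G X).rep_coatom (classOf G X).rep_typeI g hI]
  · rw [Block.card_H]
    exact (blockI_card_H hG F hfrob hcoh (classOf G X).rep_coatom (classOf G X).rep_typeI).trans h1.symm

/-- The weights of the blocks of Type I. -/
theorem sum_blocksI :
    ∑ X, ((blocksI hG F hfrob hcoh X).F : ℚ) /
        ((blocksI hG F hfrob hcoh X).F * (blocksI hG F hfrob hcoh X).e + 1) =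
      ∑ i : TypeIClass G, ((Nat.card (Cfsg.fittingHall i.rep) : ℚ) - 1) /
          ((Nat.card (Cfsg.fittingHall i.rep) : ℚ) * (Cfsg.fittingHall i.rep).index) := by
  rw [← Equiv.sum_comp (classOf G) fun i : TypeIClass G =>
    ((Nat.card (Cfsg.fittingHall i.rep) : ℚ) - 1) /
      ((Nat.card (Cfsg.fittingHall i.rep) : ℚ) * (Cfsg.fittingHall i.rep).index)]
  exact Finset.sum_congr rfl fun X _ => Block.w_eq_card (blocksI hG F hfrob hcoh X)

/-- The blocks of Type I are clear of a side inside `M_σ`. -/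
theorem blocksI_clear {M U W₁ W₂ : Subgroup G} (hM : IsCoatom M)
    (hP : Cfsg.IsTypePWith M W₁ U W₂) (D : Side G) (h1 : D.W₁ = W₁) (h2 : D.W₂ = W₂)
    (hK : (D.K : Set G) \ ↑D.N₀ ⊆ (Cfsg.sigmaCore M : Set G) \ {1}) (X : Fin (numI G)) :
    D.Clear (blocksI hG F hfrob hcoh X) := by
  refine Side.clear_of_disjoint ?_ ?_ <;> rw [blocksI_Ω]
  · rw [h1, h2]
    exact wPart_disjoint_omega hG F hM hP (classOf G X).rep_coatom (classOf G X).rep_typeI
  · exact ((omega_disjoint_sigma hG F hM hP hfrob (classOf G X).rep_coatom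
      (classOf G X).rep_typeI).symm).mono_left (partConj_mono hK)

variable {S T U V W₁ W₂ : Subgroup G} (hS : IsCoatom S) (hT : IsCoatom T)
  (hSP : Cfsg.IsTypePWith S W₁ U W₂) (hTP : Cfsg.IsTypePWith T W₂ V W₁)

include hG F hfrob hS hT hSP hTP in
/-- The parts of the two sides are disjoint. -/
theorem sides_disjoint (D D' : Side G)
    (hK : (D.K : Set G) \ ↑D.N₀ ⊆ (Cfsg.sigmaCore S : Set G) \ {1})
    (hK' : (D'.K : Set G) \ ↑D'.N₀ ⊆ (Cfsg.sigmaCore T : Set G) \ {1}) :
    Disjoint D.part D'.part := by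
  rw [Side.part_eq_partConj, Side.part_eq_partConj]
  exact (sigma_disjoint hG F hfrob hS hT hSP hTP).mono (partConj_mono hK) (partConj_mono hK')

section TypeII

variable (hII : Cfsg.IsOfTypeII S) (hcS : Nat.card (Cfsg.fittingHallOf S) = Nat.card W₂ ^ Nat.card W₁)
  (hcT : Nat.card (Cfsg.fittingHallOf T) = Nat.card W₁ ^ Nat.card W₂)
include hG F hfrob hcoh hS hT hSP hTP hII hcS hcT

/-- `hcover` of `Setup.main` for `T` of Type II. -/
theorem cover_blocksI (hTII : Cfsg.IsOfTypeII T) :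
    (1 : ℚ) / (Nat.card W₂ : ℕ) + 1 / (Nat.card W₁ : ℕ)
        - 1 / ((Nat.card W₂ : ℕ) * (Nat.card W₁ : ℕ)) =
      ∑ X, ((blocksI hG F hfrob hcoh X).F : ℚ) /
          ((blocksI hG F hfrob hcoh X).F * (blocksI hG F hfrob hcoh X).e + 1) +
        (1 - 1 / ((Nat.card W₂ : ℕ) : ℚ) ^ Nat.card W₁) /
          ((Nat.card U : ℕ) * (Nat.card W₁ : ℕ)) +
        (1 - 1 / ((Nat.card W₁ : ℕ) : ℚ) ^ Nat.card W₂) /
          ((Nat.card V : ℕ) * (Nat.card W₂ : ℕ)) + 1 / (Nat.card G : ℕ) := by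
  have h := cover_identity_II hG F hfrob hS hT hSP hTP hII hTII
  rw [hcS, hcT, Nat.cast_pow, Nat.cast_pow] at h
  rw [sum_blocksI hG F hfrob hcoh]
  exact h

end TypeII

section TypeIII

variable (hIII : Cfsg.IsOfTypeIII T)

/-- The blocks when `T` has Type III: the classes of Type I and `T' / Q`. -/
noncomputable def blocksIII : Fin (numI G) ⊕ Unit → Block G :=
  Sum.elim (blocksI hG F hfrob hcoh) fun _ => blockT hG F hfrob hT hTP hIII

/-- `T` of Type III is not of Type II. -/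
theorem not_typeII_of_typeIII (hIII : Cfsg.IsOfTypeIII T) : ¬ Cfsg.IsOfTypeII T := fun h =>
  PF8.not_typeIII_IV_of_typeII h (Or.inl hIII)

include hG F hT hTP hIII in
theorem omegaT_subset_sigma :
    omegaT T ⊆ partConj ((Cfsg.sigmaCore T : Set G) \ {1}) := by
  rw [omegaT_eq]
  refine partConj_mono fun a ha => ⟨(PF10.nonII_facts hG F hT hTP
    (not_typeII_of_typeIII hIII)).1 ▸ ha.1, fun e => ha.2 ?_⟩
  rw [Set.mem_singleton_iff.1 e]
  exact one_mem _

theorem blocksIII_disjoint {X Y : Fin (numI G) ⊕ Unit} (h : X ≠ Y) :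
    Disjoint (blocksIII hG F hfrob hcoh hT hTP hIII X).Ω
      (blocksIII hG F hfrob hcoh hT hTP hIII Y).Ω := by
  have key : ∀ X, Disjoint (blocksI hG F hfrob hcoh X).Ω (blockT hG F hfrob hT hTP hIII).Ω := by
    intro X
    rw [blocksI_Ω, blockT_Ω]
    exact (omega_disjoint_sigma hG F hT hTP hfrob (classOf G X).rep_coatom
      (classOf G X).rep_typeI).mono_right (omegaT_subset_sigma hG F hT hTP hIII)
  rcases X with X | X <;> rcases Y with Y | Y
  · exact blocksI_disjoint hG F hfrob hcoh fun e => h (congrArg Sum.inl e)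
  · exact key X
  · exact (key Y).symm
  · exact absurd rfl h

/-- A side inside `S_σ` is clear of all the blocks. -/
theorem blocksIII_clearS (hS : IsCoatom S) (hSP : Cfsg.IsTypePWith S W₁ U W₂) (D : Side G)
    (h1 : D.W₁ = W₁) (h2 : D.W₂ = W₂)
    (hK : (D.K : Set G) \ ↑D.N₀ ⊆ (Cfsg.sigmaCore S : Set G) \ {1}) (X : Fin (numI G) ⊕ Unit) :
    D.Clear (blocksIII hG F hfrob hcoh hT hTP hIII X) := by
  rcases X with X | X
  · exact blocksI_clear hG F hfrob hcoh hS hSP D h1 h2 hK X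
  show D.Clear (blockT hG F hfrob hT hTP hIII)
  refine Side.clear_of_disjoint ?_ ?_ <;> rw [blockT_Ω]
  · rw [h1, h2]
    exact (wPart_disjoint_sigma hG F hfrob hS hSP hT (kappa_nonempty hG F hT hTP)).mono_right
      (omegaT_subset_sigma hG F hT hTP hIII)
  · exact (sigma_disjoint hG F hfrob hS hT hSP hTP).mono (partConj_mono hK)
      (omegaT_subset_sigma hG F hT hTP hIII)

/-- A side inside `T_F` is clear of all the blocks. -/
theorem blocksIII_clearT (D : Side G) (h1 : D.W₁ = W₂) (h2 : D.W₂ = W₁)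
    (hK : (D.K : Set G) \ ↑D.N₀ ⊆ (Cfsg.fittingHallOf T : Set G) \ {1})
    (X : Fin (numI G) ⊕ Unit) : D.Clear (blocksIII hG F hfrob hcoh hT hTP hIII X) := by
  rcases X with X | X
  · exact blocksI_clear hG F hfrob hcoh hT hTP D h1 h2
      (hK.trans (core_subset_sigma hG F hT)) X
  show D.Clear (blockT hG F hfrob hT hTP hIII)
  refine Side.clear_of_disjoint (Set.disjoint_left.2 ?_) ?_ <;> rw [blockT_Ω]
  · rw [h1, h2]
    rintro _ ⟨w, hw, y, rfl⟩ h
    obtain ⟨x, t, ht, hn, e⟩ := h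
    exact notMem_omegaT_of_W hG F hfrob hT hTP hIII hw.1 (fun h' => hw.2 (Or.inl h'))
      (fun h' => hw.2 (Or.inr h')) ⟨x * y, t, ht, hn, by rw [← e]; group⟩
  · rw [omegaT_eq]
    exact (partConj_sigma_split hG F hT hTP hfrob (not_typeII_of_typeIII hIII)).2.mono_left
      (partConj_mono hK)

include hS hSP in
/-- `hcover` of `Setup.main` for `T` of Type III. -/
theorem cover_blocksIII (hII : Cfsg.IsOfTypeII S)
    (hcS : Nat.card (Cfsg.fittingHallOf S) = Nat.card W₂ ^ Nat.card W₁)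
    (hcT : Nat.card (Cfsg.fittingHallOf T) = Nat.card W₁ ^ Nat.card W₂) :
    (1 : ℚ) / (Nat.card W₂ : ℕ) + 1 / (Nat.card W₁ : ℕ)
        - 1 / ((Nat.card W₂ : ℕ) * (Nat.card W₁ : ℕ)) =
      ∑ X, ((blocksIII hG F hfrob hcoh hT hTP hIII X).F : ℚ) /
          ((blocksIII hG F hfrob hcoh hT hTP hIII X).F *
            (blocksIII hG F hfrob hcoh hT hTP hIII X).e + 1) +
        (1 - 1 / ((Nat.card W₂ : ℕ) : ℚ) ^ Nat.card W₁) /
          ((Nat.card U : ℕ) * (Nat.card W₁ : ℕ)) +
        (1 - 1 / ((Nat.card W₁ : ℕ) : ℚ) ^ Nat.card W₂) /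
          ((Nat.card V : ℕ) * (Nat.card W₂ : ℕ)) + 1 / (Nat.card G : ℕ) := by
  have h := cover_identity_nonII hG F hfrob hS hT hSP hTP hII (not_typeII_of_typeIII hIII)
  rw [hcS, hcT, Nat.cast_pow, Nat.cast_pow] at h
  rw [Fintype.sum_sum_type]
  simp only [blocksIII, Sum.elim_inl, Sum.elim_inr, Finset.univ_unique, Finset.sum_singleton]
  rw [sum_blocksI hG F hfrob hcoh,
    show ((blockT hG F hfrob hT hTP hIII).F : ℚ) / ((blockT hG F hfrob hT hTP hIII).F *
        (blockT hG F hfrob hT hTP hIII).e + 1) =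
      ((Nat.card V : ℚ) - 1) / ((Nat.card V : ℚ) * Nat.card W₂) by
      rw [← blockT_card_H hG F hfrob hT hTP hIII, ← blockT_e hG F hfrob hT hTP hIII]
      exact Block.w_eq_card _]
  exact h

end TypeIII

end Cfsg.Agent.OddOrder.PF14
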