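import Cfsg.Agent.OddOrder.PF14.SideBounds
import Cfsg.Agent.OddOrder.PF14.BlockGrid

/-!
# Peterfalvi section 14: the pairings of one side with the grid, the blocks and the free characters
-/

set_option autoImplicit false

namespace Cfsg.Agent.OddOrder.PF14

open Cfsg.Agent Cfsg.Agent.CharBasic Cfsg.Agent.CharInduce Finset
open scoped ComplexConjugate

universe u

namespace Side

variable {G : Type u} [Group G] (D : Side G) [Fintype G]
  {χ : (↥(D.W₁ ⊔ D.W₂) →* ℂˣ) → (G → ℂ)} {θ θ' χ₀ : ↥D.K →* ℂˣ}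

/-- The block avoids what the side uses. -/
structure Clear (B : Block G) : Prop where
  avoid : B.Avoid D.W₁ D.W₂
  notMem : ∀ k ∈ D.K, k ∉ D.N₀ → k ∉ B.Ω

variable {D} {B : Block G}

theorem gam_orth_tau (hB : D.Clear B) (hg : D.Good θ) (α : B.L → ℂ) :
    Cfsg.classInner (D.gam θ) (B.τ α) = 0 := by
  refine inner_eq_zero_of_disjoint (A := {a | D.gam θ a ≠ 0}) (fun g hg' => not_not.1 hg')
    (B.τ_supp α) (Set.disjoint_left.2 fun a ha haΩ => ?_)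
  rcases D.gam_supp hg ha with ⟨x, k, hk, hkN, rfl⟩ | ⟨x, w, hw, h1, h2, rfl⟩
  · exact hB.notMem k hk hkN (by simpa [mul_assoc] using B.conj_mem _ haΩ x⁻¹)
  · exact hB.avoid ⟨w, hw⟩ h1 h2 (by simpa [mul_assoc] using B.conj_mem _ haΩ x⁻¹)

theorem bigam_supp (h : D.Triv θ) {a : G} (ha : D.bigam θ a ≠ 0) :
    ∃ x : G, ∃ k ∈ D.K, k ∉ D.N₀ ∧ a = x * k * x⁻¹ := by
  obtain ⟨x, k, hk, rfl⟩ := Side.exists_of_indFun_ne _ ha
  refine ⟨x, k, k.2, fun hn => hk ?_, rfl⟩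
  rw [h k hn, Units.val_one, sub_self]

theorem bigam_orth_tau (hB : D.Clear B) (h : D.Triv θ) (α : B.L → ℂ) :
    Cfsg.classInner (D.bigam θ) (B.τ α) = 0 := by
  refine inner_eq_zero_of_disjoint (A := {a | D.bigam θ a ≠ 0}) (fun g hg' => not_not.1 hg')
    (B.τ_supp α) (Set.disjoint_left.2 fun a ha haΩ => ?_)
  obtain ⟨x, k, hk, hkN, rfl⟩ := bigam_supp h ha
  exact hB.notMem k hk hkN (by simpa [mul_assoc] using B.conj_mem _ haΩ x⁻¹)

theorem diff_orth_tau (hB : D.Clear B) (hg : D.Good χ₀) (h : D.Triv θ) (α : B.L → ℂ) :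
    Cfsg.classInner (D.diff χ₀ θ) (B.τ α) = 0 := by
  rw [diff, classInner_sub_left, bigam_orth_tau hB h, bigam_orth_tau hB hg.triv, sub_self]

variable (χ) in
/-- `⟨Gam, φ₀⟩`. -/
noncomputable def coefB (B : Block G) (hχ : Cfsg.IsCyclicTIFamily D.W₁ D.W₂ χ) (hg : D.Good θ) : ℤ :=
  (H43.gen_inner_int (D.Gam_gen hχ hg) (B.phi_gen B.xi0_mem)).choose

theorem Gam_phi0 (hχ : Cfsg.IsCyclicTIFamily D.W₁ D.W₂ χ) (hg : D.Good θ) :
    Cfsg.classInner (D.Gam χ θ) B.phi0 = (coefB χ B hχ hg : ℂ) :=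
  (H43.gen_inner_int (D.Gam_gen hχ hg) (B.phi_gen B.xi0_mem)).choose_spec

omit [Fintype G] in
theorem hodd (D : Side G) : Odd (Nat.card ↥(D.W₁ ⊔ D.W₂)) :=
  D.odd.of_dvd_nat (Subgroup.card_subgroup_dvd_card _)

theorem gam_phi (hχ : Cfsg.IsCyclicTIFamily D.W₁ D.W₂ χ) (hB : D.Clear B) {ξ : B.L → ℂ}
    (hξ : ξ ∈ B.S) :
    Cfsg.classInner (D.gam θ) (B.phi ξ) = Cfsg.classInner (D.Gam χ θ) (B.phi ξ) := by
  rw [Gam, classInner_add_left, classInner_sub_left, B.one_orth_phi hξ,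
    Block.eta_orth_phi D.hW (hodd D) hχ hB.avoid hξ, sub_zero, add_zero]

theorem Gam_phi (hχ : Cfsg.IsCyclicTIFamily D.W₁ D.W₂ χ) (hB : D.Clear B) (hg : D.Good θ)
    {ξ : B.L → ℂ} (hξ : ξ ∈ B.S) :
    Cfsg.classInner (D.Gam χ θ) (B.phi ξ) = (B.deg ξ : ℂ) * (coefB χ B hχ hg : ℂ) := by
  have h := gam_orth_tau hB hg (ξ - (B.deg ξ : ℤ) • B.xi0)
  rw [B.tau_deg hξ, classInner_sub_right, classInner_smul_right, Complex.conj_natCast, Block.phi0,
    gam_phi hχ hB hξ, gam_phi hχ hB B.xi0_mem, ← Block.phi0, Gam_phi0 hχ hg, sub_eq_zero] at h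
  exact h

/-- The coefficients of a side on pairwise disjoint blocks share `(ū − 1) / q`. -/
theorem budget_blocks {ι : Type*} [Fintype ι] [DecidableEq ι] (B : ι → Block G)
    (hd : ∀ X Y, X ≠ Y → Disjoint (B X).Ω (B Y).Ω) (hD : D.Regular)
    (hχ : Cfsg.IsCyclicTIFamily D.W₁ D.W₂ χ) (hg : D.Good θ) (hB : ∀ X, D.Clear (B X)) :
    (∑ X, coefB χ (B X) hχ hg ^ 2 * ((B X).F : ℤ)) * (Nat.card D.W₁ : ℤ) ≤
      (D.H.relIndex D.S : ℤ) - 1 := by
  classical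
  let s := (Finset.univ : Finset ι).sigma fun X => (B X).S
  have h := D.budget hD hχ hg s (fun p => (B p.1).phi p.2)
    (fun p => coefB χ (B p.1) hχ hg * (B p.1).deg p.2) ?_ ?_ ?_ ?_
  · refine le_trans (le_of_eq ?_) h
    rw [mul_comm, sum_sigma]
    congr 1
    refine sum_congr rfl fun X _ => ?_
    rw [(B X).F_eq, Nat.cast_sum, mul_sum]
    exact sum_congr rfl fun η _ => by push_cast; ring
  · intro p hp
    exact ((B p.1).phi_signed (mem_sigma.1 hp).2).inner_self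
  · intro p hp p' hp' hne
    obtain ⟨X, ξ⟩ := p
    obtain ⟨Y, η⟩ := p'
    by_cases e : X = Y
    · subst e
      show Cfsg.classInner ((B X).phi ξ) ((B X).phi η) = 0
      rw [(B X).phi_orth (mem_sigma.1 hp).2 (mem_sigma.1 hp').2, if_neg fun e : ξ = η => hne (by subst e; rfl)]
    · exact Block.phi_orth_phi (hd X Y e) (mem_sigma.1 hp).2 (mem_sigma.1 hp').2
  · intro p hp ω
    exact Block.phi_orth_eta D.hW (hodd D) hχ (hB p.1).avoid (mem_sigma.1 hp).2 ω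
  · intro p hp
    rw [Gam_phi hχ (hB p.1) hg (mem_sigma.1 hp).2]
    push_cast
    ring

/-- `⟨Γ_S, φ₀⟩ + c` is odd. -/
theorem parity (hD : D.Regular) (hχ : Cfsg.IsCyclicTIFamily D.W₁ D.W₂ χ) (hB : D.Clear B)
    (hg : D.Good θ) {c : ℤ} (hc : Cfsg.classInner B.Gamma (χ (D.psi θ)) = c) :
    Odd (coefB χ B hχ hg + c) := by
  obtain ⟨k, hk, hk'⟩ := PF12.even_inner D.odd (D.Gam_gen hχ hg) B.Gamma_gen (D.Gam_real hD hχ hg)
    B.Gamma_real (D.Gam_one hχ hg)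
  have e := gam_orth_tau hB hg B.beta
  rw [show D.gam θ = D.Gam χ θ + (fun _ => 1) - χ (D.psi θ) by funext g; simp [Gam]; ring,
    ← Block.gamma, Block.gamma_eq] at e
  simp only [classInner_add_left, classInner_add_right, classInner_sub_left, classInner_sub_right,
    hk', D.Gam_one hχ hg, Gam_phi0 hχ hg, B.one_orth_Gamma,
    classInner_irr_self (isIrrCharacter_one (G := G)),
    show Cfsg.classInner (fun _ => (1 : ℂ)) B.phi0 = 0 from B.one_orth_phi B.xi0_mem,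
    D.eta_one hχ hg.psi_ne_one,
    show Cfsg.classInner (χ (D.psi θ)) B.phi0 = 0 from
      Block.eta_orth_phi D.hW (hodd D) hχ hB.avoid B.xi0_mem _,
    show Cfsg.classInner (χ (D.psi θ)) B.Gamma = (c : ℂ) by
      rw [← classInner_conj_symm, hc, map_intCast]] at e
  have e' : coefB χ B hχ hg + c = k + 1 := by
    have : ((coefB χ B hχ hg + c : ℤ) : ℂ) = ((k + 1 : ℤ) : ℂ) := by
      push_cast
      linear_combination -e
    exact_mod_cast this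
  rw [e']
  exact hk.add_one

theorem bigam_gen_real (hχ : Cfsg.IsCyclicTIFamily D.W₁ D.W₂ χ) (hg : D.Good θ)
    {φ ψ : ↥(D.W₁ ⊔ D.W₂) →* ℂˣ} (hφ : H43.TrivR φ) (hψ : H43.TrivL ψ) {n : ℤ}
    (hn : Cfsg.classInner (D.Gam χ θ) (χ (φ * ψ)) = n) [Decidable (ψ = 1)]
    [Decidable (ψ = D.psi θ)] :
    Cfsg.classInner (D.bigam θ) (χ (φ * ψ)) = (((Nat.card D.W₁ : ℤ) * n
      + (if ψ = 1 then 1 else 0) - (if ψ = D.psi θ then 1 else 0) : ℤ) : ℂ) := by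
  rw [D.bigam_eq hχ hg, classInner_sub_left, classInner_add_left, classInner_smul_left, hn,
    D.inner_col hχ hφ hψ H43.trivL_one, D.inner_col hχ hφ hψ (D.psi_trivL θ)]
  split_ifs <;> push_cast <;> rfl

/-- The value of `⟨η_φ, Ind_K^G (1 − θ)⟩`, `φ ≠ 1` trivial on `W₂`. -/
theorem eta_row (hD : D.Regular) (hχ : Cfsg.IsCyclicTIFamily D.W₁ D.W₂ χ) (hg : D.Good χ₀)
    {φ : ↥(D.W₁ ⊔ D.W₂) →* ℂˣ} (hφ : H43.TrivR φ) (hφ1 : φ ≠ 1) :
    ∃ a : ℤ, (∀ θ, D.Good θ → Cfsg.classInner (χ φ) (D.bigam θ)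
        = (((Nat.card D.W₁ : ℤ) * a + 1 : ℤ) : ℂ)) ∧
      ∀ θ, D.Free θ → Cfsg.classInner (χ φ) (D.bigam θ)
        = (((Nat.card D.W₁ : ℤ) * a + 1 : ℤ) : ℂ) := by
  classical
  obtain ⟨a, c, ha, -, -⟩ := D.exists_ac hD hχ hg
  have hgood : ∀ θ, D.Good θ → Cfsg.classInner (D.bigam θ) (χ φ)
      = (((Nat.card D.W₁ : ℤ) * a + 1 : ℤ) : ℂ) := by
    intro θ hθ
    have h := bigam_gen_real hχ hθ hφ H43.trivL_one (n := a) (by
      rw [mul_one φ, D.Gam_eq hD hχ hg hθ]; exact ha φ hφ hφ1)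
    rw [mul_one φ, if_pos rfl, if_neg (Ne.symm hθ.psi_ne_one), sub_zero] at h
    exact h
  refine ⟨a, fun θ hθ => by rw [← classInner_conj_symm, hgood θ hθ, map_intCast], fun θ hθ => ?_⟩
  obtain ⟨σ, ψ₁, hc, hall⟩ := D.exists_free hD hχ hg hθ
  have h := (hall θ hθ).1 φ 1 hφ H43.trivL_one
  rw [mul_one φ, if_neg (Ne.symm hc.ne_one), diff, classInner_sub_left, hgood χ₀ hg, sub_eq_zero] at h
  rw [← classInner_conj_symm, h, map_intCast]

/-- The values of `⟨η_{φψ}, Ind_K^G (1 − θ)⟩`, `ψ ≠ 1` trivial on `W₁`: a constant, changed by `1`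
on the conjugates of one fixed character. -/
theorem eta_col (hD : D.Regular) (hχ : Cfsg.IsCyclicTIFamily D.W₁ D.W₂ χ) (hg : D.Good χ₀)
    {φ ψ : ↥(D.W₁ ⊔ D.W₂) →* ℂˣ} (hφ : H43.TrivR φ) (hψ : H43.TrivL ψ) (hψ1 : ψ ≠ 1) :
    ∃ K ε : ℤ, ∃ θe : ↥D.K →* ℂˣ, D.Good θe ∧ ε * ε = 1 ∧
      (∀ θ, D.Good θ → ∀ [Decidable (θ = θe)], Cfsg.classInner (χ (φ * ψ)) (D.bigam θ)
        = ((K + if θ = θe then ε else 0 : ℤ) : ℂ)) ∧
      ∀ θ, D.Free θ → Cfsg.classInner (χ (φ * ψ)) (D.bigam θ) = (K : ℂ) := by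
  classical
  obtain ⟨n, hn⟩ := H43.gen_inner_int (D.Gam_gen hχ hg) (H43.Signed.gen (hχ.irr_or_neg (φ * ψ)))
  obtain ⟨θψ, hgψ, hpsi⟩ := D.exists_good_of_psi hg hψ hψ1
  set q : ℤ := (Nat.card D.W₁ : ℤ) with hq
  have hgood : ∀ θ, D.Good θ → Cfsg.classInner (χ (φ * ψ)) (D.bigam θ)
      = ((q * n - if θ = θψ then 1 else 0 : ℤ) : ℂ) := by
    intro θ hθ
    rw [← classInner_conj_symm, bigam_gen_real hχ hθ hφ hψ (n := n)
      (by rw [D.Gam_eq hD hχ hg hθ]; exact hn), if_neg hψ1, add_zero, map_intCast]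
    refine congrArg (fun z : ℤ => (z : ℂ)) (congrArg (q * n - ·) (if_congr ?_ rfl rfl))
    exact ⟨fun e => hθ.psi_inj hgψ (e.symm.trans hpsi.symm), fun e => by rw [e, hpsi]⟩
  by_cases hf : ∃ θ, D.Free θ
  swap
  · refine ⟨q * n, -1, θψ, hgψ, rfl, fun θ hθ _ => ?_, fun θ hθ => absurd ⟨θ, hθ⟩ hf⟩
    rw [hgood θ hθ]
    split_ifs <;> simp [sub_eq_add_neg]
  obtain ⟨θ₀, hθ₀⟩ := hf
  obtain ⟨σ, ψ₁, hc, hall⟩ := D.exists_free hD hχ hg hθ₀
  have hfree : ∀ θ, D.Free θ → Cfsg.classInner (χ (φ * ψ)) (D.bigam θ) =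
      ((q * n - (if χ₀ = θψ then 1 else 0) + if ψ = ψ₁ then σ else 0 : ℤ) : ℂ) := by
    intro θ hθ
    have h := (hall θ hθ).1 φ ψ hφ hψ
    rw [show D.bigam θ = D.diff χ₀ θ + D.bigam χ₀ by rw [diff, sub_add_cancel], classInner_add_right,
      hgood χ₀ hg, ← classInner_conj_symm (D.diff χ₀ θ), h]
    split_ifs <;> push_cast <;> simp [map_intCast] <;> ring
  have hpsi0 : χ₀ = θψ ↔ ψ = D.psi χ₀ :=
    ⟨fun e => by rw [e, hpsi], fun e => hg.psi_inj hgψ (e.symm.trans hpsi.symm)⟩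
  rcases hc.cases with ⟨rfl, hj⟩ | ⟨rfl, hne, honly⟩
  · refine ⟨q * n, -1, θψ, hgψ, rfl, fun θ hθ _ => ?_, fun θ hθ => ?_⟩
    · rw [hgood θ hθ]
      split_ifs <;> simp [sub_eq_add_neg]
    · rw [hfree θ hθ, hj]
      by_cases e : χ₀ = θψ
      · rw [if_pos e, if_pos (hpsi0.1 e), sub_add_cancel]
      · rw [if_neg e, if_neg fun h => e (hpsi0.2 h), sub_zero, add_zero]
  · -- `p = 3`: the constant drops by one
    obtain ⟨θe, hge, hpe, hne'⟩ : ∃ θe, D.Good θe ∧ θe ≠ θψ ∧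
        ∀ θ, D.Good θ → θ ≠ θψ → θ = θe := by
      obtain ⟨θ1, hg1, hp1⟩ := D.exists_good_of_psi hg hc.trivL hc.ne_one
      have hone : ∀ θ, D.Good θ → θ = θ1 ∨ θ = χ₀ := by
        intro θ hθ
        by_cases e : D.psi θ = ψ₁
        · exact Or.inl (hθ.psi_inj hg1 (e.trans hp1.symm))
        · exact Or.inr (hθ.psi_inj hg (honly _ (D.psi_trivL θ) hθ.psi_ne_one e))
      have h01 : χ₀ ≠ θ1 := fun e => hne (by rw [← hp1, e])
      rcases hone θψ hgψ with e | e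
      · exact ⟨χ₀, hg, by rw [e]; exact h01, fun θ hθ hn =>
          (hone θ hθ).resolve_left (by rw [← e]; exact hn)⟩
      · exact ⟨θ1, hg1, by rw [e]; exact h01.symm, fun θ hθ hn =>
          (hone θ hθ).resolve_right (by rw [← e]; exact hn)⟩
    refine ⟨q * n - 1, 1, θe, hge, rfl, fun θ hθ _ => ?_, fun θ hθ => ?_⟩
    · rw [hgood θ hθ]
      by_cases e : θ = θψ
      · rw [if_pos e, if_neg (by rw [e]; exact hpe.symm), add_zero]
      · rw [if_neg e, if_pos (hne' θ hθ e), sub_add_cancel, sub_zero]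
    · rw [hfree θ hθ]
      by_cases e : χ₀ = θψ
      · rw [if_pos e, if_neg (by rw [hpsi0.1 e]; exact hne.symm), add_zero]
      · have : ψ = ψ₁ := by
          by_contra h
          exact e (hpsi0.2 (honly ψ hψ hψ1 h))
        rw [if_neg e, if_pos this, sub_zero]
        rfl

/-- The free characters are orthogonal to the blocks. -/
theorem freeChar_phi (hχ : Cfsg.IsCyclicTIFamily D.W₁ D.W₂ χ) (hB : D.Clear B) (hg : D.Good χ₀)
    (hf : D.Free θ) {σ : ℤ} {ψ₁ : ↥(D.W₁ ⊔ D.W₂) →* ℂˣ}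
    (hX : H43.Signed (D.freeChar χ χ₀ σ ψ₁ θ)) {ξ : B.L → ℂ} (hξ : ξ ∈ B.S) :
    Cfsg.classInner (D.freeChar χ χ₀ σ ψ₁ θ) (B.phi ξ) = 0 := by
  set X := D.freeChar χ χ₀ σ ψ₁ θ with hXdef
  have key : ∀ η ∈ B.S, Cfsg.classInner X (B.phi η) =
      (B.deg η : ℂ) * Cfsg.classInner X B.phi0 := by
    intro η hη
    have h : Cfsg.classInner X (B.τ (η - (B.deg η : ℤ) • B.xi0)) = 0 := by
      rw [hXdef, freeChar, classInner_sub_left, classInner_smul_left, diff_orth_tau hB hg hf.triv,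
        col, classInner_sum_left, sum_eq_zero, mul_zero, sub_zero]
      intro φ _
      rw [B.tau_deg hη, classInner_sub_right, classInner_smul_right,
        Block.eta_orth_phi D.hW (hodd D) hχ hB.avoid hη, Block.phi0,
        Block.eta_orth_phi D.hW (hodd D) hχ hB.avoid B.xi0_mem, mul_zero, sub_zero]
    rw [B.tau_deg hη, classInner_sub_right, classInner_smul_right, Complex.conj_natCast,
      sub_eq_zero] at h
    exact h
  suffices h0 : Cfsg.classInner X B.phi0 = 0 by rw [key ξ hξ, h0, mul_zero]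
  rcases H43.Signed.inner_eq hX (B.phi_signed B.xi0_mem) with h | ⟨s, hs, he, -, -⟩
  · exact h
  · have h := key _ (B.S_conj B.xi0_mem)
    rw [he, classInner_smul_left, B.phi_orth B.xi0_mem (B.S_conj B.xi0_mem),
      if_neg (B.S_conj_ne B.xi0_mem).symm, mul_zero, B.deg_conj B.xi0_mem, B.deg_xi0, Nat.cast_one,
      one_mul] at h
    rw [he]
    exact h.symm

/-- The value of `⟨φ₀, Ind_K^G (1 − θ)⟩` for a block. -/
theorem phi0_bigam (hD : D.Regular) (hχ : Cfsg.IsCyclicTIFamily D.W₁ D.W₂ χ) (hB : D.Clear B)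
    (hg : D.Good χ₀) (θ : ↥D.K →* ℂˣ) (hθ : D.Good θ ∨ D.Free θ) :
    Cfsg.classInner B.phi0 (D.bigam θ) = (((Nat.card D.W₁ : ℤ) * coefB χ B hχ hg : ℤ) : ℂ) := by
  have hcolφ : ∀ ψ, Cfsg.classInner (D.col χ ψ) B.phi0 = 0 := by
    intro ψ
    rw [col, classInner_sum_left, sum_eq_zero]
    exact fun φ _ => Block.eta_orth_phi D.hW (hodd D) hχ hB.avoid B.xi0_mem _
  have hgood : ∀ θ, D.Good θ → Cfsg.classInner (D.bigam θ) B.phi0
      = (((Nat.card D.W₁ : ℤ) * coefB χ B hχ hg : ℤ) : ℂ) := by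
    intro θ hθ
    rw [D.bigam_eq hχ hθ, classInner_sub_left, classInner_add_left, classInner_smul_left,
      D.Gam_eq hD hχ hg hθ, Gam_phi0 hχ hg, hcolφ, hcolφ, add_zero, sub_zero]
    push_cast
    rfl
  rw [← classInner_conj_symm]
  rcases hθ with hθ | hθ
  · rw [hgood θ hθ, map_intCast]
  · obtain ⟨σ, ψ₁, -, hall⟩ := D.exists_free hD hχ hg hθ
    have hfc : Cfsg.classInner (D.freeChar χ χ₀ σ ψ₁ θ) B.phi0 = 0 :=
      freeChar_phi hχ hB hg hθ (hall θ hθ).2.1 B.xi0_mem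
    rw [freeChar, classInner_sub_left, classInner_smul_left, hcolφ, mul_zero, zero_sub, neg_eq_zero]
      at hfc
    rw [show D.bigam θ = D.diff χ₀ θ + D.bigam χ₀ by rw [diff, sub_add_cancel], classInner_add_left,
      hfc, zero_add, hgood χ₀ hg, map_intCast]

theorem freeChar_bigam_good (hD : D.Regular) (hχ : Cfsg.IsCyclicTIFamily D.W₁ D.W₂ χ)
    (hg : D.Good χ₀) {X : G → ℂ} (hX : ∀ ω, Cfsg.classInner X (χ ω) = 0) {θ : ↥D.K →* ℂˣ}
    (hθ : D.Good θ) :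
    Cfsg.classInner X (D.bigam θ) =
      (Nat.card D.W₁ : ℂ) * Cfsg.classInner X (D.Gam χ χ₀) := by
  have hcol : ∀ ψ, Cfsg.classInner X (D.col χ ψ) = 0 := fun ψ => by
    rw [col, classInner_sum_right]; exact sum_eq_zero fun φ _ => hX _
  rw [D.bigam_eq hχ hθ, classInner_sub_right, classInner_add_right, classInner_smul_right, hcol, hcol,
    D.Gam_eq hD hχ hg hθ, Complex.conj_natCast, add_zero, sub_zero]

open scoped Classical in
/-- The values of `⟨χ'_θ₀, Ind_K^G (1 − θ)⟩`: a constant, lowered on the conjugates of `θ₀`. -/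
theorem freeChar_bigam (hD : D.Regular) (hχ : Cfsg.IsCyclicTIFamily D.W₁ D.W₂ χ) (hg : D.Good χ₀)
    {σ : ℤ} {ψ₁ : ↥(D.W₁ ⊔ D.W₂) →* ℂˣ}
    (hall : ∀ θ, D.Free θ → H43.Signed (D.freeChar χ χ₀ σ ψ₁ θ) ∧
      (∀ ω, Cfsg.classInner (D.freeChar χ χ₀ σ ψ₁ θ) (χ ω) = 0) ∧
      ∀ θ', D.Free θ' → D.NConj θ θ' →
        Cfsg.classInner (D.freeChar χ χ₀ σ ψ₁ θ) (D.freeChar χ χ₀ σ ψ₁ θ') = 0)
    {θ₀ : ↥D.K →* ℂˣ} (hf : D.Free θ₀) :
    ∃ z : ℤ, (∀ θ, D.Good θ → Cfsg.classInner (D.freeChar χ χ₀ σ ψ₁ θ₀) (D.bigam θ) = (z : ℂ)) ∧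
      ∀ θ, D.Free θ → Cfsg.classInner (D.freeChar χ χ₀ σ ψ₁ θ₀) (D.bigam θ) =
        ((z + if ∃ x, D.tw x θ₀ = θ then -1 else 0 : ℤ) : ℂ) := by
  obtain ⟨hs, horth, -⟩ := hall θ₀ hf
  set X := D.freeChar χ χ₀ σ ψ₁ θ₀ with hX
  obtain ⟨m, hm⟩ := H43.gen_inner_int hs.gen (D.Gam_gen hχ hg)
  have hgood : ∀ θ, D.Good θ → Cfsg.classInner X (D.bigam θ) =
      (((Nat.card D.W₁ : ℤ) * m : ℤ) : ℂ) := fun θ hθ => by
    rw [freeChar_bigam_good hD hχ hg horth hθ, hm]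
    push_cast
    rfl
  refine ⟨(Nat.card D.W₁ : ℤ) * m, hgood, fun θ hθ => ?_⟩
  have hcol : Cfsg.classInner X (D.col χ ψ₁) = 0 := by
    rw [col, classInner_sum_right]; exact sum_eq_zero fun φ _ => horth _
  have hd : D.diff χ₀ θ = (σ : ℂ) • D.col χ ψ₁ - D.freeChar χ χ₀ σ ψ₁ θ := by
    rw [freeChar, sub_sub_cancel]
  have hin : Cfsg.classInner X (D.freeChar χ χ₀ σ ψ₁ θ) = if ∃ x, D.tw x θ₀ = θ then 1 else 0 := by
    split_ifs with h
    · obtain ⟨x, rfl⟩ := h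
      rw [show D.freeChar χ χ₀ σ ψ₁ (D.tw x θ₀) = X by rw [hX, freeChar, freeChar, diff, diff, D.bigam_tw]]
      exact hs.inner_self
    · push Not at h
      exact (hall θ₀ hf).2.2 θ hθ h
  rw [show D.bigam θ = D.diff χ₀ θ + D.bigam χ₀ by rw [diff, sub_add_cancel], classInner_add_right,
    hgood χ₀ hg, hd, classInner_sub_right, classInner_smul_right, hcol, hin, mul_zero, zero_sub]
  split_ifs <;> push_cast <;> ring

end Side

end Cfsg.Agent.OddOrder.PF14
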