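import Cfsg.Agent.OddOrder.PF14.Setting
import Cfsg.Agent.OddOrder.PF12.Plane
import Cfsg.Agent.OddOrder.BG13.Action
import Mathlib.GroupTheory.SpecificGroups.ZGroup

/-!
# Peterfalvi section 14: the group facts when `C = C_U(P) ≠ 1`

`S` of Type II with `P = S_F`, `C = C_U(P)`, and `L ⊇ N(U)` of Type I with kernel `H` and complement
`E ⊇ W₁`.  Then `S ∩ L = U W₁`, `C` is a TI-subset of `L` with normaliser `U W₁`, `|C| ≤ |U : C|` and
`2 [E : W₁] ≤ |C| + 1`.
-/

set_option autoImplicit false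
set_option linter.unusedSectionVars false
set_option linter.style.haveILetI false

namespace Cfsg.Agent.OddOrder.PF14

open Subgroup
open Cfsg.Agent Cfsg.Agent.OddOrder

universe u

variable {G : Type u} [Group G] [Finite G]

/-- The facts used about `S` and `L ⊇ N(U)`. -/
structure Supp (S U W₁ W₂ L E : Subgroup G) : Prop where
  odd : Odd (Nat.card G)
  simple : IsSimpleGroup G
  hP : Cfsg.IsTypePWith S W₁ U W₂
  typeII : Cfsg.IsOfTypeII S
  U_comm : IsMulCommutative U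
  U_ne : U ≠ ⊥
  not_norm : ¬ normalizer (U : Set G) ≤ S
  q_prime : (Nat.card W₁).Prime
  not_typeI : ¬ IsTypeI S
  centralizer_le : ∀ x ∈ setA0 S, centralizer ({x} : Set G) ≤ S
  fusion : ∀ x ∈ setA0 S, ∀ g : G, g * x * g⁻¹ ∈ setA0 S → ∃ m ∈ S, m * x * m⁻¹ = g * x * g⁻¹
  coatom_S : IsCoatom S
  coatom_L : IsCoatom L
  typeI : IsTypeI L
  setA_L : setA L = (Cfsg.fittingHallOf L : Set G) \ {1}
  support_L : PF8.Support L
  overN : OverNormalizer S U L (Cfsg.fittingHallOf L)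
  q_not_dvd : ¬ Nat.card W₁ ∣ Nat.card (Cfsg.fittingHallOf L)
  W₁_le : W₁ ≤ E
  E_le : E ≤ L
  E_norm : E ≤ normalizer (W₁ : Set G)
  inf_eq : Cfsg.fittingHallOf L ⊓ E = ⊥
  sup_eq : Cfsg.fittingHallOf L ⊔ E = L
  coprime : (Nat.card E).Coprime (Nat.card (Cfsg.fittingHallOf L))
  index_eq : (Cfsg.fittingHall L).index = Nat.card E
  fpf : ∀ e ∈ E, e ≠ 1 → Cfsg.fittingHallOf L ⊓ centralizer ({e} : Set G) = ⊥

/-- Existence of the facts. -/
theorem exists_supp (hG : Cfsg.IsMinSimpleOddOrder G) (F : BG16.SectionFacts G)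
    (hfrob : ∀ L : Subgroup G, IsCoatom L → IsTypeI L → ∀ x ∈ Cfsg.fittingHallOf L, x ≠ 1 →
      L ⊓ centralizer ({x} : Set G) ≤ Cfsg.fittingHallOf L)
    {S T U V W₁ W₂ : Subgroup G} (hS : IsCoatom S) (hT : IsCoatom T)
    (hSP : Cfsg.IsTypePWith S W₁ U W₂) (hTP : Cfsg.IsTypePWith T W₂ V W₁) (hII : Cfsg.IsOfTypeII S) :
    ∃ L E : Subgroup G, Supp S U W₁ W₂ L E := by
  obtain ⟨hU, hq, hnN⟩ := PF13.typeII_facts hSP hII
  obtain ⟨⟨L, hL, hNU⟩, hall⟩ := exists_over_normalizer hG F hfrob hS hT hSP hTP hII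
  obtain ⟨hI, -, hqH, hover, -, E, h1, h2, h3, h4, h5, h6, h7, h8⟩ := hall L hL hNU
  have hκ := kappa_nonempty hG F hS hSP
  have hS' := PF10.support_of_facts hG F hS
  have hUc : IsMulCommutative U := by
    obtain ⟨W₁', U', W₂', hP', -, -, -, hc, -⟩ := id hII
    obtain ⟨m, -, -, hU', -⟩ := TypeP.conj_data hSP hP'
    refine ⟨⟨fun a b => Subtype.ext ((MulAut.conj m).injective ?_)⟩⟩
    rw [hU'] at hc
    have := congrArg Subtype.val (hc.is_comm.comm
      (⟨_, mem_map_of_mem (MulAut.conj m).toMonoidHom a.2⟩ : U.map (MulAut.conj m).toMonoidHom)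
      ⟨_, mem_map_of_mem (MulAut.conj m).toMonoidHom b.2⟩)
    simp only [coe_mul, ← map_mul] at this
    exact this
  exact ⟨L, E, hG.1, hG.2.1, hSP, hII, hUc, hU, hnN, hq, not_typeI hG F hS hSP,
    fun x hx => centralizer_le_of_typeP hG F hfrob hS hκ hx, hS'.fusion, hS, hL, hI,
    (setA_typeI hfrob hL hI).1, PF10.support_of_facts hG F hL, hover, hqH, h1, h2, h3, h4, h5, h6, h7, h8⟩

namespace Supp

variable {S U W₁ W₂ L E : Subgroup G} (D : Supp S U W₁ W₂ L E)
include D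


theorem U_le_L : U ≤ L := le_normalizer.trans D.overN.norm_le

theorem W₁_le_L : W₁ ≤ L := D.W₁_le.trans D.E_le

theorem compl_le_inf : U ⊔ W₁ ≤ S ⊓ L :=
  le_inf (TypeP.compl_le D.hP) (sup_le D.U_le_L D.W₁_le_L)

/-- `S ∩ H = U`. -/
theorem inf_H : S ⊓ (Cfsg.fittingHallOf L) = U := by
  symm
  refine eq_of_le_of_card_ge (le_inf (TypeP.U_le D.hP) D.overN.U_le) ?_
  have hd : Nat.card ↥(S ⊓ (Cfsg.fittingHallOf L)) ∣ Nat.card S := card_dvd_of_le inf_le_left
  rw [TypeP.card_eq D.hP, TypeP.card_derived D.hP] at hd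
  have h1 : (Nat.card ↥(S ⊓ (Cfsg.fittingHallOf L))).Coprime (Nat.card (Cfsg.fittingHallOf S)) :=
    D.overN.coprime.coprime_dvd_left (card_dvd_of_le inf_le_right)
  have h2 : (Nat.card ↥(S ⊓ (Cfsg.fittingHallOf L))).Coprime (Nat.card W₁) :=
    ((D.q_prime.coprime_iff_not_dvd.2 D.q_not_dvd).symm).coprime_dvd_left (card_dvd_of_le inf_le_right)
  exact Nat.le_of_dvd Nat.card_pos (h1.dvd_of_dvd_mul_left (h2.dvd_of_dvd_mul_right hd))

variable {c : G}

theorem C_subset_setA0 (hc : c ∈ (U ⊓ centralizer (Cfsg.fittingHallOf S : Set G))) (hc1 : c ≠ 1) : c ∈ setA0 S := by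
  refine Or.inl ?_
  rw [setA, if_neg D.not_typeI]
  obtain ⟨⟨w, hw⟩, hw1⟩ := (Subgroup.ne_bot_iff_exists_ne_one).1 D.hP.selfNormalizing.2.1
  refine ⟨TypeP.U_le_derived D.hP hc.1, hc1, w, ?_, fun e => hw1 (Subtype.ext e), ?_⟩
  · rw [PF8.typeCore_eq_core (Or.inr D.typeII)]
    exact TypeP.W₂_le_core D.hP hw
  · exact (mem_centralizer_iff.1 hc.2 w (TypeP.W₂_le_core D.hP hw)).symm

theorem centralizer_C_le (hc : c ∈ (U ⊓ centralizer (Cfsg.fittingHallOf S : Set G))) (hc1 : c ≠ 1) : centralizer ({c} : Set G) ≤ S :=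
  D.centralizer_le c (D.C_subset_setA0 hc hc1)

theorem L_inf_centralizer (hc : c ∈ (U ⊓ centralizer (Cfsg.fittingHallOf S : Set G))) (hc1 : c ≠ 1) : L ⊓ centralizer ({c} : Set G) = U := by
  refine le_antisymm (fun x hx => ?_) (fun u hu => ⟨D.U_le_L hu, ?_⟩)
  · rw [← D.inf_H]
    exact ⟨D.centralizer_C_le hc hc1 hx.2, D.overN.frob c (D.overN.U_le hc.1) hc1 hx⟩
  · exact mem_centralizer_singleton_iff.2
      (congrArg Subtype.val (D.U_comm.is_comm.comm (⟨u, hu⟩ : U) ⟨c, hc.1⟩))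

theorem H_inf_centralizer (hc : c ∈ (U ⊓ centralizer (Cfsg.fittingHallOf S : Set G))) (hc1 : c ≠ 1) : (Cfsg.fittingHallOf L) ⊓ centralizer ({c} : Set G) = U := by
  refine le_antisymm ((inf_le_inf_right _ (TypeP.core_le L)).trans_eq (D.L_inf_centralizer hc hc1))
    (le_inf D.overN.U_le ?_)
  exact (D.L_inf_centralizer hc hc1).ge.trans inf_le_right

theorem core_le_centralizer (hc : c ∈ (U ⊓ centralizer (Cfsg.fittingHallOf S : Set G))) : (Cfsg.fittingHallOf S) ≤ centralizer ({c} : Set G) := fun x hx =>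
  mem_centralizer_singleton_iff.2 (mem_centralizer_iff.1 hc.2 x hx)

variable (hC : (U ⊓ centralizer (Cfsg.fittingHallOf S : Set G)) ≠ ⊥)
include hC

theorem exists_C : ∃ c ∈ (U ⊓ centralizer (Cfsg.fittingHallOf S : Set G)), c ≠ 1 := by
  obtain ⟨⟨c, hc⟩, h1⟩ := (Subgroup.ne_bot_iff_exists_ne_one).1 hC
  exact ⟨c, hc, fun e => h1 (Subtype.ext e)⟩

theorem core_inf_L : (Cfsg.fittingHallOf S) ⊓ L = ⊥ := by
  obtain ⟨c, hc, hc1⟩ := D.exists_C hC
  refine le_bot_iff.1 fun x hx => ?_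
  have hxU : x ∈ U := (D.L_inf_centralizer hc hc1).le ⟨hx.2, D.core_le_centralizer hc hx.1⟩
  exact D.hP.U_compl.2.2.1.le ⟨hx.1, hxU⟩

/-- `S ∩ L = U W₁`. -/
theorem inf_L : S ⊓ L = U ⊔ W₁ := by
  refine le_antisymm (fun s hs => ?_) D.compl_le_inf
  obtain ⟨h, hh, k, hk, rfl⟩ :=
    (Coprime.mem_sup_iff ((TypeP.compl_le D.hP).trans (TypeP.le_normalizer_core S))).1
      ((TypeP.core_sup_compl D.hP).ge hs.1)
  have hhL : h ∈ L := by
    have := L.mul_mem hs.2 (L.inv_mem (D.compl_le_inf hk).2)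
    rwa [mul_inv_cancel_right] at this
  have : h ∈ (Cfsg.fittingHallOf S) ⊓ L := ⟨hh, hhL⟩
  rw [D.core_inf_L hC, mem_bot] at this
  rw [this, one_mul]
  exact hk

theorem compl_ne_L : U ⊔ W₁ ≠ L := by
  intro e
  refine D.not_norm (D.overN.norm_le.trans ?_)
  rw [← e]
  exact TypeP.compl_le D.hP

/-- `C` is a TI-subset of `L`: conjugates by elements outside `U W₁` meet it trivially. -/
theorem mem_compl_of_conj {x : G} (hx : x ∈ L) (hc : c ∈ (U ⊓ centralizer (Cfsg.fittingHallOf S : Set G))) (hc1 : c ≠ 1) (hxc : x * c * x⁻¹ ∈ (U ⊓ centralizer (Cfsg.fittingHallOf S : Set G))) :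
    x ∈ U ⊔ W₁ := by
  obtain ⟨m, hm, e⟩ := D.fusion c (D.C_subset_setA0 hc hc1) x
    (D.C_subset_setA0 hxc (fun h => hc1 (conj_eq_one_iff.1 h)))
  rw [← D.inf_L hC]
  refine ⟨?_, hx⟩
  have hmem : m⁻¹ * x ∈ centralizer ({c} : Set G) := by
    refine mem_centralizer_singleton_iff.2 ?_
    calc m⁻¹ * x * c = m⁻¹ * (x * c * x⁻¹) * x := by group
      _ = m⁻¹ * (m * c * m⁻¹) * x := by rw [e]
      _ = c * (m⁻¹ * x) := by group
  simpa using mul_mem hm (D.centralizer_C_le hc hc1 hmem)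

omit hC in
theorem compl_normalizes_C : U ⊔ W₁ ≤ normalizer (((U ⊓ centralizer (Cfsg.fittingHallOf S : Set G)) : Subgroup G) : Set G) := by
  intro x hx
  have hxU : x ∈ normalizer (U : Set G) :=
    (sup_le le_normalizer D.hP.U_normal : U ⊔ W₁ ≤ normalizer (U : Set G)) hx
  have hxP : x ∈ normalizer ((Cfsg.fittingHallOf S) : Set G) := TypeP.le_normalizer_core S (TypeP.compl_le D.hP hx)
  refine Coprime.mem_normalizer_of_map_conj ?_
  rw [Subgroup.map_inf _ _ _ (MulAut.conj x).injective, Coprime.map_conj_eq hxU,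
    TypeP.centralizer_map_conj, Coprime.map_conj_eq hxP]

theorem centralizer_eq (hc : c ∈ (U ⊓ centralizer (Cfsg.fittingHallOf S : Set G))) (hc1 : c ≠ 1) : centralizer ({c} : Set G) = (Cfsg.fittingHallOf S) ⊔ U := by
  refine le_antisymm (fun s hs => ?_)
    (sup_le (D.core_le_centralizer hc) ((D.L_inf_centralizer hc hc1).ge.trans inf_le_right))
  obtain ⟨h, hh, k, hk, rfl⟩ :=
    (Coprime.mem_sup_iff ((TypeP.compl_le D.hP).trans (TypeP.le_normalizer_core S))).1
      ((TypeP.core_sup_compl D.hP).ge (D.centralizer_C_le hc hc1 hs))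
  have hkc : k ∈ centralizer ({c} : Set G) := by
    have := mul_mem (inv_mem (D.core_le_centralizer hc hh)) hs
    rwa [inv_mul_cancel_left] at this
  exact mul_mem_sup hh ((D.L_inf_centralizer hc hc1).le ⟨(D.compl_le_inf hk).2, hkc⟩)

theorem not_centralizer_le (hc : c ∈ (U ⊓ centralizer (Cfsg.fittingHallOf S : Set G))) : ¬ centralizer ({c} : Set G) ≤ L := by
  intro h
  have := D.core_inf_L hC
  rw [inf_eq_left.2 ((D.core_le_centralizer hc).trans h)] at this
  refine D.hP.selfNormalizing.2.1 (le_bot_iff.1 ?_)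
  exact (TypeP.W₂_le_core D.hP).trans this.le

/-- `S` supports `L`, and `R(c) = P` for `c ∈ C ∖ 1`. -/
theorem supports (hc : c ∈ (U ⊓ centralizer (Cfsg.fittingHallOf S : Set G))) (hc1 : c ≠ 1) :
    c ∈ setA0 L ∧ ¬ centralizer ({c} : Set G) ≤ L ∧ centralizer ({c} : Set G) ≤ S ∧
      Cfsg.supportR L c = (Cfsg.fittingHallOf S) := by
  have hA : c ∈ setA0 L := Or.inl (D.setA_L ▸ ⟨D.overN.U_le hc.1, hc1⟩)
  have hn := D.not_centralizer_le hC hc
  have hS := D.centralizer_C_le hc hc1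
  refine ⟨hA, hn, hS, ?_⟩
  rw [PF8.supportR_eq hn D.coatom_S hS (D.support_L.unique c hA hn).2,
    inf_eq_left.2 (D.core_le_centralizer hc)]

theorem W₁_dvd_card_C_sub_one : Nat.card W₁ ∣ Nat.card ↥(U ⊓ centralizer (Cfsg.fittingHallOf S : Set G)) - 1 :=
  PF10.card_dvd_card_sub_one (le_sup_right.trans D.compl_normalizes_C) fun x hx hx1 =>
    eq_bot_iff.2 fun u hu => mem_bot.2 (TypeP.fpf_U D.hP hx hx1 hu.1.1
      (mem_centralizer_singleton_iff.1 hu.2).symm)

/-- `|C| ^ 2 ≤ |U|`, so `|C| ≤ |U : C|`. -/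
theorem card_C_sq_le : Nat.card ↥(U ⊓ centralizer (Cfsg.fittingHallOf S : Set G)) * Nat.card ↥(U ⊓ centralizer (Cfsg.fittingHallOf S : Set G)) ≤ Nat.card U ∧
    Nat.card ↥(U ⊓ centralizer (Cfsg.fittingHallOf S : Set G)) ≤ ((U ⊓ centralizer (Cfsg.fittingHallOf S : Set G))).relIndex U := by
  obtain ⟨x, hx, hxS⟩ : ∃ x ∈ normalizer (U : Set G), x ∉ S := by
    by_contra h
    push Not at h
    exact D.not_norm h
  set C' := ((U ⊓ centralizer (Cfsg.fittingHallOf S : Set G))).map (MulAut.conj x).toMonoidHom with hC'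
  have hC'U : C' ≤ U := by
    rintro _ ⟨a, ha, rfl⟩
    exact Coprime.conj_mem hx ha.1
  have hd : (U ⊓ centralizer (Cfsg.fittingHallOf S : Set G)) ⊓ C' = ⊥ := by
    refine le_bot_iff.1 fun y hy => ?_
    obtain ⟨a, ha, rfl⟩ := hy.2
    by_contra hne
    have ha1 : a ≠ 1 := fun e => hne (by simp [e])
    exact hxS (TypeP.compl_le D.hP (D.mem_compl_of_conj hC (D.overN.norm_le hx) ha ha1 hy.1))
  have hn : C' ≤ normalizer (((U ⊓ centralizer (Cfsg.fittingHallOf S : Set G)) : Subgroup G) : Set G) :=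
    hC'U.trans (le_sup_left.trans D.compl_normalizes_C)
  have h1 : Nat.card ↥(U ⊓ centralizer (Cfsg.fittingHallOf S : Set G)) * Nat.card ↥(U ⊓ centralizer (Cfsg.fittingHallOf S : Set G)) ≤ Nat.card U := by
    have h := Coprime.card_sup hn hd
    rw [hC', Coprime.card_map_conj] at h
    rw [← h]
    exact Nat.le_of_dvd Nat.card_pos (card_dvd_of_le (sup_le inf_le_left hC'U))
  refine ⟨h1, ?_⟩
  have h := relIndex_mul_relIndex ⊥ (U ⊓ centralizer (Cfsg.fittingHallOf S : Set G)) U bot_le inf_le_left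
  rw [relIndex_bot_left, relIndex_bot_left] at h
  exact Nat.le_of_mul_le_mul_left (h.symm ▸ h1) Nat.card_pos

/-- `[E : W₁] ≥ 3` when `U = H`. -/
theorem W₁_ne_E_of_U_eq (hUH : U = (Cfsg.fittingHallOf L)) : W₁ ≠ E := by
  intro e
  refine D.compl_ne_L hC ?_
  rw [hUH, e]
  exact D.sup_eq

theorem not_ti : ¬ Cfsg.IsTISubset ((Cfsg.fittingHallOf L) : Set G) := by
  intro hTI
  haveI := D.simple
  obtain ⟨c, hc, hc1⟩ := D.exists_C hC
  have hN : normalizer ((Cfsg.fittingHallOf L) : Set G) = L :=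
    PF8.normalizer_eq_of_subset (A := ((Cfsg.fittingHallOf L) : Set G)) D.coatom_L (TypeP.core_le L)
      ⟨c, D.overN.U_le hc.1, hc1⟩ fun m hm a ha => Coprime.conj_mem (TypeP.le_normalizer_core L hm) ha
  refine D.not_centralizer_le hC hc fun y hy => ?_
  by_contra hyL
  refine hc1 (hTI y (hN.symm ▸ hyL) c (D.overN.U_le hc.1) ?_)
  rw [mem_centralizer_singleton_iff.1 hy, mul_inv_cancel_right]
  exact D.overN.U_le hc.1

omit hC in
theorem card_E : Nat.card W₁ * W₁.relIndex E = Nat.card E := by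
  rw [← relIndex_bot_left (H := W₁), ← relIndex_bot_left (H := E),
    relIndex_mul_relIndex _ _ _ bot_le D.W₁_le]

omit hC in
theorem odd_relIndex : Odd (W₁.relIndex E) :=
  (D.odd.of_dvd_nat E.card_subgroup_dvd_card).of_dvd_nat (Dvd.intro_left _ D.card_E)

omit hC in
theorem E_cyclicSylow : IsZGroup E := by
  refine ⟨fun r hr Q => ?_⟩
  haveI := Fact.mk hr
  have hH1 : Cfsg.fittingHallOf L ≠ ⊥ := fun h =>
    D.typeI.1.2.2.1 ((map_eq_bot_iff_of_injective _ L.subtype_injective).mp h)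
  have hc := PF13.isCyclic_of_fpf D.odd hH1 (D.E_le.trans (TypeP.le_normalizer_core L)) D.coprime
    D.fpf (map_subtype_le (Q : Subgroup E)) (Q.isPGroup'.map _)
  exact isCyclic_of_injective (((Q : Subgroup E).equivMapOfInjective _ E.subtype_injective).toMonoidHom)
    (MulEquiv.injective _)

/-- In the exponent alternative `|E|` divides `r - 1` for a prime `r` dividing `|C|`. -/
theorem two_mul_lt_of_exponent
    (hexp : ∀ r : ℕ, r.Prime → r ∣ Nat.card (Cfsg.fittingHallOf L) →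
      Monoid.exponent (L ⧸ Cfsg.fittingHall L) ∣ r - 1) :
    2 * Nat.card E < Nat.card ↥(U ⊓ centralizer (Cfsg.fittingHallOf S : Set G)) := by
  set C₀ := U ⊓ centralizer (Cfsg.fittingHallOf S : Set G)
  obtain ⟨r, hr, hrC⟩ := Nat.exists_prime_and_dvd (fun h => hC (card_eq_one.1 h) : Nat.card C₀ ≠ 1)
  have hrH : r ∣ Nat.card (Cfsg.fittingHallOf L) :=
    hrC.trans (card_dvd_of_le (inf_le_left.trans D.overN.U_le))
  haveI := D.E_cyclicSylow
  have hE : Nat.card E ∣ r - 1 := by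
    rw [← IsZGroup.exponent_eq_card]
    refine Monoid.exponent_dvd_of_forall_pow_eq_one fun e => ?_
    obtain ⟨k, hk⟩ := hexp r hr hrH
    set f : E →* L ⧸ Cfsg.fittingHall L :=
      (QuotientGroup.mk' _).comp (Subgroup.inclusion D.E_le)
    have hf : Function.Injective f := by
      refine (injective_iff_map_eq_one f).2 fun a ha => ?_
      have h1 : inclusion D.E_le a ∈ Cfsg.fittingHall L := (QuotientGroup.eq_one_iff _).1 ha
      have h2 : (a : G) ∈ Cfsg.fittingHallOf L ⊓ E := ⟨⟨_, h1, rfl⟩, a.2⟩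
      rw [D.inf_eq, mem_bot] at h2
      exact Subtype.ext h2
    apply hf
    rw [map_pow, map_one, hk, pow_mul, Monoid.pow_exponent_eq_one, one_pow]
  have hr0 : Odd r := (D.odd.of_dvd_nat C₀.card_subgroup_dvd_card).of_dvd_nat hrC
  have hEo : Odd (Nat.card E) := D.odd.of_dvd_nat E.card_subgroup_dvd_card
  have hle : r ≤ Nat.card C₀ := Nat.le_of_dvd Nat.card_pos hrC
  obtain ⟨k, hk⟩ := hE
  obtain ⟨a, ha⟩ := hr0
  obtain ⟨b, hb⟩ := hEo
  have h2 := hr.two_le
  match k, hk with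
  | 0, hk => omega
  | 1, hk => omega
  | k + 2, hk =>
    have : Nat.card E * 2 ≤ Nat.card E * (k + 2) := Nat.mul_le_mul le_rfl (by omega)
    omega

/-- In the rank 2 alternative `[E : W₁]` divides `r - 1` or `r + 1` for a prime `r` dividing `|C|`. -/
theorem two_mul_relIndex_le_of_rank
    (hab : IsMulCommutative (Cfsg.fittingHallOf L)) (hrank : Cfsg.RankLE 2 (Cfsg.fittingHallOf L)) :
    2 * W₁.relIndex E ≤ Nat.card ↥(U ⊓ centralizer (Cfsg.fittingHallOf S : Set G)) + 1 := by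
  set C₀ := U ⊓ centralizer (Cfsg.fittingHallOf S : Set G) with hC₀
  set K := Cfsg.fittingHallOf L with hK
  obtain ⟨c, hc, hc1⟩ := D.exists_C hC
  have hcomm : ∀ {a b : G}, a ∈ K → b ∈ K → a * b = b * a := fun ha hb =>
    congrArg Subtype.val (hab.is_comm.comm (⟨_, ha⟩ : K) ⟨_, hb⟩)
  have hUK : U = K := by
    refine le_antisymm D.overN.U_le fun x hx => ?_
    rw [← D.H_inf_centralizer hc hc1]
    exact ⟨hx, mem_centralizer_singleton_iff.2 (hcomm hx (D.overN.U_le hc.1))⟩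
  obtain ⟨r, hr, hrC⟩ := Nat.exists_prime_and_dvd (fun h => hC (card_eq_one.1 h) : Nat.card C₀ ≠ 1)
  haveI := Fact.mk hr
  obtain ⟨z, hz⟩ := exists_prime_orderOf_dvd_card' r hrC
  have hz1 : (z : G) ≠ 1 := fun e => hr.ne_one (by rw [← hz, ← orderOf_coe, e, orderOf_one])
  have hzr : (z : G) ^ r = 1 := by rw [← hz, ← orderOf_coe, pow_orderOf_eq_one]
  have hzK : (z : G) ∈ K := D.overN.U_le z.2.1
  let R : Subgroup G :=
    { carrier := {h | h ∈ K ∧ h ^ r = 1}
      one_mem' := ⟨one_mem _, one_pow _⟩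
      mul_mem' := fun {a b} ha hb => ⟨mul_mem ha.1 hb.1, by
        rw [Commute.mul_pow (hcomm ha.1 hb.1), ha.2, hb.2, one_mul]⟩
      inv_mem' := fun {a} ha => ⟨inv_mem ha.1, by rw [inv_pow, ha.2, inv_one]⟩ }
  have hRK : R ≤ K := fun x hx => hx.1
  have hRc : IsMulCommutative R := ⟨⟨fun a b => Subtype.ext (hcomm (hRK a.2) (hRK b.2))⟩⟩
  have hR : Cfsg.IsElementaryAbelian r R := ⟨hRc, fun a ha => ha.2⟩
  have hle : Nat.card R ≤ r ^ 2 := by
    have h := hrank r hr (R.subgroupOf K)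
      ⟨⟨fun a b => Subtype.ext (Subtype.ext (hcomm a.1.2 b.1.2))⟩⟩
      (fun a ha => Subtype.ext (by rw [coe_pow]; exact ha.2))
    rwa [Nat.card_congr (subgroupOfEquivOfLe hRK).toEquiv] at h
  have hER : E ≤ normalizer (R : Set G) := le_normalizer_iff.mpr fun e he x hx =>
    ⟨Coprime.conj_mem (TypeP.le_normalizer_core L (D.E_le he)) hx.1, by
      rw [conj_pow, hx.2, mul_one, mul_inv_cancel]⟩
  -- the stabiliser of the line through `z` is `W₁`
  have hstab : ∀ e ∈ E, e * z * e⁻¹ ∈ zpowers (z : G) → e ∈ W₁ := by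
    intro e he hez
    have h1 : e * z * e⁻¹ ∈ C₀ := (zpowers_le.2 z.2) hez
    have h2 : e ∈ K ⊔ W₁ := hUK ▸ D.mem_compl_of_conj hC (D.E_le he) z.2 hz1 h1
    obtain ⟨a, ha, w, hw, rfl⟩ := (Coprime.mem_sup_iff
      ((D.W₁_le_L).trans (TypeP.le_normalizer_core L))).1 h2
    have : a ∈ K ⊓ E := ⟨ha, by
      have := mul_mem he (inv_mem (D.W₁_le hw))
      rwa [mul_inv_cancel_right] at this⟩
    rw [D.inf_eq, mem_bot] at this
    rw [this, one_mul]
    exact hw
  by_cases hline : R ≤ zpowers (z : G)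
  · exfalso
    refine D.W₁_ne_E_of_U_eq hC hUK (le_antisymm D.W₁_le fun e he => hstab e he (hline ?_))
    exact Coprime.conj_mem (hER he) ⟨hzK, hzr⟩
  have hR2 : Nat.card R = r ^ 2 := by
    obtain ⟨k, hk⟩ := IsPGroup.iff_card.1 (H40.elemAb_isPGroup hR : IsPGroup r R)
    have hlt : zpowers (z : G) < R :=
      lt_of_le_of_ne (zpowers_le.2 ⟨hzK, hzr⟩) fun e => hline e.ge
    have h1 : Nat.card (zpowers (z : G)) < Nat.card R := Set.Finite.card_lt_card (Set.toFinite _) hlt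
    rw [Nat.card_zpowers, orderOf_coe, hz, hk] at h1
    rw [hk] at hle ⊢
    have h2 : 1 < k := (Nat.pow_lt_pow_iff_right hr.one_lt).1 (by rwa [pow_one])
    have h3 : k ≤ 2 := (Nat.pow_le_pow_iff_right hr.one_lt).1 hle
    rw [show k = 2 by omega]
  have hcopr : (Nat.card E).Coprime r :=
    D.coprime.coprime_dvd_right (hrC.trans (card_dvd_of_le (inf_le_left.trans D.overN.U_le)))
  have hr0 : Odd r := (D.odd.of_dvd_nat C₀.card_subgroup_dvd_card).of_dvd_nat hrC
  have hr2 : r ≠ 2 := by rintro rfl; exact absurd hr0 (by decide)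
  have hEo : Odd (Nat.card E) := D.odd.of_dvd_nat E.card_subgroup_dvd_card
  have hH1 : K ≠ ⊥ := fun h =>
    D.typeI.1.2.2.1 ((map_eq_bot_iff_of_injective _ L.subtype_injective).mp h)
  -- `E` is abelian, hence cyclic
  have hder : ⁅E, E⁆ = ⊥ := by
    have h1 := BG13.commutator_le_centralizer_of_sq hr2 hR hR2 hER
      (Coprime.isSolvable_of_le D.E_le D.typeI.1.1) hEo fun h => hr.not_dvd_one
        (hcopr ▸ Nat.dvd_gcd (h.trans (relIndex_dvd_card _ _)) dvd_rfl)
    refine eq_bot_iff.2 fun e he => mem_bot.2 ?_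
    by_contra he1
    have h2 : (z : G) ∈ K ⊓ centralizer ({e} : Set G) := ⟨hzK,
      mem_centralizer_singleton_iff.2 (mem_centralizer_iff.1 (h1 he) z ⟨hzK, hzr⟩)⟩
    rw [D.fpf e (commutator_le_self E he) he1, mem_bot] at h2
    exact hz1 h2
  haveI := D.E_cyclicSylow
  haveI : IsMulCommutative E :=
    le_centralizer_iff_isMulCommutative.1 (commutator_eq_bot_iff_le_centralizer.1 hder)
  haveI : Group.IsNilpotent E := by
    letI : CommGroup E := { (inferInstance : Group E) with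
      mul_comm := (inferInstance : IsMulCommutative E).is_comm.comm }
    infer_instance
  obtain ⟨x, hx⟩ := IsCyclic.exists_generator (α := E)
  letI : CommGroup R := { (inferInstance : Group R) with mul_comm := hRc.is_comm.comm }
  -- `x` acts on the plane `R`
  let φ : MulAut R := ((MulAut.conj (x : G)).subgroupMap R).trans
    (MulEquiv.subgroupCongr (Coprime.map_conj_eq (hER x.2)))
  have hφ : ∀ (n : ℕ) (y : R), (((φ ^ n) y : R) : G) = (x : G) ^ n * y * ((x : G) ^ n)⁻¹ := by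
    intro n
    induction n with
    | zero => intro y; simp
    | succ n ih =>
      intro y
      rw [pow_succ', MulAut.mul_apply, show ((φ ((φ ^ n) y) : R) : G) =
        (x : G) * (((φ ^ n) y : R) : G) * (x : G)⁻¹ from rfl, ih, pow_succ']
      group
  have hord : orderOf φ ∣ Nat.card E := orderOf_dvd_of_pow_eq_one (MulEquiv.ext fun y => Subtype.ext (by
    rw [hφ, ← SubmonoidClass.coe_pow, pow_card_eq_one']
    simp))
  have hexp : ∀ v : R, v ^ r = 1 := fun v => Subtype.ext (by rw [coe_pow]; exact v.2.2)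
  rcases PF12.plane_aut hexp hR2 φ (hcopr.coprime_dvd_left hord) with h | ⟨i, hi⟩
  · -- `|E| ∣ r - 1`
    have hx1 : x ^ (r - 1) = 1 := by
      by_contra hne
      have h1 := congrArg Subtype.val (congrFun (congrArg DFunLike.coe h) (⟨z, hzK, hzr⟩ : R))
      rw [hφ] at h1
      have h2 : (z : G) ∈ K ⊓ centralizer ({(x : G) ^ (r - 1)} : Set G) :=
        ⟨hzK, mem_centralizer_singleton_iff.2 (mul_inv_eq_iff_eq_mul.1 h1).symm⟩
      rw [D.fpf _ (pow_mem x.2 _) (fun e => hne (Subtype.ext (by rw [coe_pow, e]; rfl))), mem_bot] at h2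
      exact hz1 h2
    have hdvd : W₁.relIndex E ∣ r - 1 := by
      refine (Dvd.intro_left _ D.card_E).trans ?_
      rw [← orderOf_eq_card_of_forall_mem_zpowers hx]
      exact orderOf_dvd_of_pow_eq_one hx1
    have hle : r ≤ Nat.card C₀ := Nat.le_of_dvd Nat.card_pos hrC
    obtain ⟨k, hk⟩ := hdvd
    obtain ⟨b, hb⟩ := D.odd_relIndex
    obtain ⟨a, ha⟩ := hr0
    have h2 := hr.two_le
    match k, hk with
    | 0, hk => omega
    | 1, hk => omega
    | k + 2, hk =>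
      have : W₁.relIndex E * 2 ≤ W₁.relIndex E * (k + 2) := Nat.mul_le_mul le_rfl (by omega)
      omega
  · -- a scalar power fixes the line through `z`
    have hmem : (x : G) ^ (r + 1) ∈ W₁ := hstab _ (pow_mem x.2 _) (by
      have h1 := congrArg Subtype.val (hi (⟨z, hzK, hzr⟩ : R))
      rw [hφ] at h1
      rw [h1, coe_zpow]
      exact zpow_mem (mem_zpowers _) i)
    have hdvd : W₁.relIndex E ∣ r + 1 := by
      haveI : (W₁.subgroupOf E).Normal := normal_subgroupOf_of_le_normalizer D.E_norm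
      rw [relIndex, index_eq_card, ← orderOf_eq_card_of_forall_mem_zpowers
        (fun y => ?_ : ∀ y, y ∈ zpowers (QuotientGroup.mk' (W₁.subgroupOf E) x))]
      · refine orderOf_dvd_of_pow_eq_one ?_
        rw [← map_pow]
        exact (QuotientGroup.eq_one_iff _).2 (by
          show ((x ^ (r + 1) : E) : G) ∈ W₁
          rw [coe_pow]; exact hmem)
      · obtain ⟨e, rfl⟩ := QuotientGroup.mk'_surjective _ y
        obtain ⟨j, rfl⟩ := mem_zpowers_iff.1 (hx e)
        rw [map_zpow]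
        exact zpow_mem (mem_zpowers _) j
    have hle : r ≤ Nat.card C₀ := Nat.le_of_dvd Nat.card_pos hrC
    obtain ⟨k, hk⟩ := hdvd
    obtain ⟨b, hb⟩ := D.odd_relIndex
    obtain ⟨a, ha⟩ := hr0
    match k, hk with
    | 0, hk => omega
    | 1, hk => omega
    | k + 2, hk =>
      have : W₁.relIndex E * 2 ≤ W₁.relIndex E * (k + 2) := Nat.mul_le_mul le_rfl (by omega)
      omega

/-- `2 [E : W₁] ≤ |C| + 1`. -/
theorem two_mul_relIndex_le :
    2 * W₁.relIndex E ≤ Nat.card ↥(U ⊓ centralizer (Cfsg.fittingHallOf S : Set G)) + 1 := by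
  rcases D.typeI.2 with h | ⟨hab, hrank, -⟩ | ⟨hexp, -⟩
  · exact absurd h (D.not_ti hC)
  · exact D.two_mul_relIndex_le_of_rank hC hab hrank
  · have h1 := D.two_mul_lt_of_exponent hC hexp
    have h2 : W₁.relIndex E ≤ Nat.card E :=
      Nat.le_of_dvd Nat.card_pos (Dvd.intro_left _ D.card_E)
    omega


theorem three_le_relIndex_of_U_eq (hUH : U = (Cfsg.fittingHallOf L)) : 3 ≤ W₁.relIndex E := by
  obtain ⟨k, hk⟩ := D.odd_relIndex
  have h1 : W₁.relIndex E ≠ 1 := fun h =>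
    D.W₁_ne_E_of_U_eq hC hUH (le_antisymm D.W₁_le (relIndex_eq_one.1 h))
  omega

end Supp

end Cfsg.Agent.OddOrder.PF14
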