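import Cfsg.Agent.OddOrder.PF14.SideInst
import Cfsg.Agent.OddOrder.PF14.SideValues
import Cfsg.Agent.OddOrder.PF14.SuppGroup
import Cfsg.Agent.OddOrder.PF14.Blocks

/-!
# Peterfalvi section 14, `C ≠ 1`: the inner products of the side `K = P C` with the block of `L`

For a block whose map sends a class function `α` to the value `α(ι c)` on the cosets `c P`,
`c ∈ C ∖ 1`, and whose set avoids `P ∖ 1` and the elements of `W₁ W₂` outside `W₁ ∪ W₂`:
`⟨gam θ, τ α⟩ = (|C| q)⁻¹ ∑_{c ∈ C ∖ 1} conj (α (ι c))`.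
-/

set_option autoImplicit false
set_option linter.unusedSectionVars false
set_option linter.style.haveILetI false

namespace Cfsg.Agent.OddOrder.PF14

open Subgroup Finset
open Cfsg.Agent Cfsg.Agent.OddOrder Cfsg.Agent.CharBasic Cfsg.Agent.CharInduce
open scoped ComplexConjugate

universe u

variable {G : Type u} [Group G] [Fintype G] {S W₁ U W₂ : Subgroup G}

local notation "P[" S "]" => Cfsg.fittingHallOf S
local notation "C[" S ", " U "]" => (U ⊓ Subgroup.centralizer (Cfsg.fittingHallOf S : Set _))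

/-- What the inner products of the side `K = P C` with a block use of the block. -/
structure CBlock (S W₁ U W₂ : Subgroup G) (B : Block G) (ι : ↥C[S, U] →* B.L) : Prop where
  avoid : B.Avoid W₁ W₂
  off_P : ∀ x ∈ P[S], x ≠ 1 → x ∉ B.Ω
  value : ∀ α : B.L → ℂ, Cfsg.IsClassFunction B.L α → ∀ c : ↥C[S, U], c ≠ 1 →
    ∀ x ∈ P[S], B.τ α ((c : G) * x) = α (ι c)

namespace SideData

variable (d : SideData S W₁ U W₂) {B : Block G} {ι : ↥C[S, U] →* B.L}
  {θ : (d.sideK).K →* ℂˣ}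
include d

/-- `⟨gam θ, τ α⟩ = (|C| q)⁻¹ ∑_{c ∈ C ∖ 1} conj (α (ι c))`. -/
theorem gam_tau (hB : CBlock S W₁ U W₂ B ι) (hg : d.sideK.Good θ) {α : B.L → ℂ}
    (hα : Cfsg.IsClassFunction B.L α) [Fintype ↥C[S, U]] [DecidableEq ↥C[S, U]] :
    Cfsg.classInner (d.sideK.gam θ) (B.τ α) =
      ((Nat.card ↥C[S, U] : ℂ) * (Nat.card W₁ : ℂ))⁻¹ *
        ∑ c ∈ Finset.univ.erase (1 : ↥C[S, U]), conj (α (ι c)) := by
  classical
  have hNP : C[S, U] ≤ normalizer (P[S] : Set G) := d.N_le_normalizer d.pair_sup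
  rw [Side.gam, classInner_indFun_left _ _ _ (B.τ_class α hα), classInner_def]
  set f : ↥d.sideK.H → ℂ := fun h => d.sideK.oneSub θ h * conj (B.τ α (h : G)) with hf
  -- outside `K` the product vanishes
  have hout : ∀ h : ↥d.sideK.H, (h : G) ∉ d.sideK.K → f h = 0 := by
    intro h hK
    obtain ⟨k, hk, w, hw, hw2, e⟩ := d.sideK.exists_conj_W h.2 hK
    by_cases hw1 : w ∈ d.sideK.W₁
    · have e1 : h = (⟨k, d.sideK.K_le_H hk⟩ : ↥d.sideK.H) * ⟨w, d.sideK.W_le_H hw⟩ * (⟨k, d.sideK.K_le_H hk⟩ : ↥d.sideK.H)⁻¹ :=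
        Subtype.ext e
      simp only [hf]
      rw [e1, hg.oneSub_class, d.sideK.oneSub_W₁ θ _ hw1, zero_mul]
    · simp only [hf]
      rw [show B.τ α (h : G) = 0 by
        refine B.τ_supp α _ fun hΩ => hB.avoid ⟨w, hw⟩ hw1 hw2 ?_
        have := B.conj_mem _ hΩ k⁻¹
        rw [e] at this
        simpa [mul_assoc] using this, map_zero, mul_zero]
  -- `K = P C`
  have hmem : ∀ p : ↥P[S] × ↥C[S, U], (p.1 : G) * p.2 ∈ d.sideK.H := fun p =>
    d.sideK.K_le_H (mul_mem (d.core_le_K d.pair_sup p.1.2) (d.N_le_K d.pair_sup p.2.2))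
  have hsum : ∑ h : ↥d.sideK.H, f h = ∑ p : ↥P[S] × ↥C[S, U], f ⟨(p.1 : G) * p.2, hmem p⟩ := by
    symm
    refine Fintype.sum_of_injective (fun p : ↥P[S] × ↥C[S, U] => (⟨(p.1 : G) * p.2, hmem p⟩ : ↥d.sideK.H))
      ?_ _ _ ?_ fun _ => rfl
    · intro a b e
      have e' : (a.1 : G) * a.2 = b.1 * b.2 := congrArg Subtype.val e
      have e2 : (b.1 : G)⁻¹ * a.1 = b.2 * (a.2 : G)⁻¹ := by
        rw [eq_mul_inv_iff_mul_eq, mul_assoc, e', inv_mul_cancel_left]
      have h1 : (b.1 : G)⁻¹ * a.1 ∈ P[S] ⊓ C[S, U] :=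
        Subgroup.mem_inf.2 ⟨mul_mem (inv_mem b.1.2) a.1.2,
        (congrArg (· ∈ C[S, U]) e2).mpr (mul_mem b.2.2 (inv_mem a.2.2))⟩
      rw [d.core_inf_N d.pair_sup, Subgroup.mem_bot] at h1
      rw [h1] at e2
      exact Prod.ext (Subtype.ext (inv_mul_eq_one.1 h1).symm)
        (Subtype.ext (mul_inv_eq_one.1 e2.symm).symm)
    · intro h hh
      refine hout h fun hK => hh ?_
      obtain ⟨a, ha, c, hc, e⟩ := d.K_decomp d.pair_sup hK
      exact ⟨(⟨a, ha⟩, ⟨c, hc⟩), Subtype.ext e.symm⟩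
  -- the values on `K`
  have hθC : ∀ k : ↥d.sideK.K, (k : G) ∈ C[S, U] → (θ k : ℂ) = 1 := fun k hk => by
    rw [hg.triv k hk, Units.val_one]
  have hone : ∀ p : ↥P[S] × ↥C[S, U], d.sideK.oneSub θ ⟨(p.1 : G) * p.2, hmem p⟩ =
      1 - (θ ⟨p.1, d.core_le_K d.pair_sup p.1.2⟩ : ℂ) := by
    intro p
    show 1 - d.sideK.extFun θ _ = _
    rw [d.sideK.extFun_K θ _ (mul_mem (d.core_le_K d.pair_sup p.1.2) (d.N_le_K d.pair_sup p.2.2)),
      show (⟨(p.1 : G) * p.2, mul_mem (d.core_le_K d.pair_sup p.1.2)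
          (d.N_le_K d.pair_sup p.2.2)⟩ : ↥d.sideK.K) =
        ⟨p.1, d.core_le_K d.pair_sup p.1.2⟩ * ⟨p.2, d.N_le_K d.pair_sup p.2.2⟩ from rfl,
      map_mul, Units.val_mul, hθC ⟨p.2, d.N_le_K d.pair_sup p.2.2⟩ p.2.2, mul_one]
  let g : ↥P[S] →* ℂ := (Units.coeHom ℂ).comp (θ.comp (inclusion (d.core_le_K d.pair_sup)))
  have hg1 : g ≠ 1 := by
    intro e
    refine hg.ne_one (MonoidHom.ext fun k => Units.ext ?_)
    obtain ⟨a, ha, c, hc, e'⟩ := d.K_decomp d.pair_sup k.2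
    have hk : k = (⟨a, d.core_le_K d.pair_sup ha⟩ : ↥d.sideK.K) * ⟨c, d.N_le_K d.pair_sup hc⟩ :=
      Subtype.ext e'
    rw [hk, map_mul, Units.val_mul, hθC ⟨c, d.N_le_K d.pair_sup hc⟩ hc, mul_one, MonoidHom.one_apply, Units.val_one]
    exact DFunLike.congr_fun e ⟨a, ha⟩
  have hsumP : ∑ a : ↥P[S], (1 - (θ ⟨a, d.core_le_K d.pair_sup a.2⟩ : ℂ)) =
      (Nat.card ↥P[S] : ℂ) := by
    rw [sum_sub_distrib, show ∑ a : ↥P[S], (θ ⟨a, d.core_le_K d.pair_sup a.2⟩ : ℂ) = 0 from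
      sum_hom_units_eq_zero g hg1, sub_zero, sum_const, card_univ, nsmul_eq_mul, mul_one,
      Nat.card_eq_fintype_card]
  have hinner : ∀ c : ↥C[S, U], ∑ a : ↥P[S], f ⟨(a : G) * c, hmem (a, c)⟩ =
      if c = 1 then 0 else (Nat.card ↥P[S] : ℂ) * conj (α (ι c)) := by
    intro c
    split_ifs with hc
    · subst hc
      refine sum_eq_zero fun a _ => ?_
      simp only [hf]
      rw [hone (a, 1)]
      by_cases ha : (a : G) = 1
      · rw [show (⟨(a : G), d.core_le_K d.pair_sup a.2⟩ : ↥d.sideK.K) = 1 from Subtype.ext ha, map_one,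
          Units.val_one, sub_self, zero_mul]
      · rw [B.τ_supp α _ (by simpa using hB.off_P a a.2 ha), map_zero, mul_zero]
    · rw [← hsumP, sum_mul]
      refine sum_congr rfl fun a _ => ?_
      simp only [hf]
      rw [hone (a, c)]
      congr 2
      have e : (a : G) * c = c * ((c : G)⁻¹ * a * c) := by group
      rw [e]
      exact hB.value α hα c hc _ (Coprime.conj_mem' (hNP c.2) a.2)
  have hcard : Nat.card d.sideK.H = Nat.card ↥P[S] * Nat.card ↥C[S, U] * Nat.card W₁ := by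
    rw [d.sideK.card_H, show d.sideK.K = P[S] ⊔ C[S, U] from rfl,
      Coprime.card_sup hNP (d.core_inf_N d.pair_sup)]
    exact mul_comm _ _
  show (Nat.card d.sideK.H : ℂ)⁻¹ * ∑ h : ↥d.sideK.H, f h = _
  rw [hsum, Fintype.sum_prod_type_right, sum_congr rfl fun c _ => hinner c, hcard,
    ← Finset.sum_erase (a := (1 : ↥C[S, U])) _ (by simp),
    sum_congr rfl fun c hc => if_neg (ne_of_mem_erase hc), ← mul_sum]
  have h1 := CharInduce.card_ne_zero_complex (↥P[S])
  push_cast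
  field_simp

/-- The coefficients on the coherent images. -/
theorem Gam_phi_C (hB : CBlock S W₁ U W₂ B ι) (hg : d.sideK.Good θ)
    {χ : (↥(W₁ ⊔ W₂) →* ℂˣ) → (G → ℂ)} (hχ : Cfsg.IsCyclicTIFamily W₁ W₂ χ)
    [Fintype ↥C[S, U]] {ξ : B.L → ℂ} (hξ : ξ ∈ B.S) :
    Cfsg.classInner (d.sideK.Gam χ θ) (B.phi ξ) -
        (B.deg ξ : ℂ) * Cfsg.classInner (d.sideK.Gam χ θ) B.phi0 =
      (conj (∑ c : ↥C[S, U], ξ (ι c)) - (B.deg ξ : ℂ) * conj (∑ c : ↥C[S, U], B.xi0 (ι c))) /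
        ((Nat.card ↥C[S, U] : ℂ) * (Nat.card W₁ : ℂ)) := by
  classical
  have key : ∀ η ∈ B.S, Cfsg.classInner (d.sideK.Gam χ θ) (B.phi η) =
      Cfsg.classInner (d.sideK.gam θ) (B.phi η) := fun η hη => by
    rw [Side.Gam, classInner_add_left, classInner_sub_left, B.one_orth_phi hη,
      Block.eta_orth_phi d.sideK.hW (Side.hodd d.sideK) hχ hB.avoid hη, sub_zero, add_zero]
  set α := ξ - (B.deg ξ : ℤ) • B.xi0 with hαdef
  have hα : Cfsg.IsClassFunction B.L α := fun a b => by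
    simp only [hαdef, Pi.sub_apply, Pi.smul_apply, H43.gen_isClassFunction (H43.gen_of_irr (B.S_irr hξ)) a b,
      H43.gen_isClassFunction (H43.gen_of_irr (B.S_irr B.xi0_mem)) a b]
  have h := d.gam_tau hB hg hα
  rw [hαdef, B.tau_deg hξ, classInner_sub_right, classInner_smul_right, Complex.conj_natCast,
    ← key ξ hξ, Block.phi0, ← key _ B.xi0_mem, ← Block.phi0] at h
  rw [h, ← hαdef, Finset.sum_erase _ (by
    rw [map_one, hαdef]
    simp [(B.deg_spec hξ).2, B.xi0_one, mul_comm]), div_eq_inv_mul]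
  congr 1
  simp [hαdef, sum_sub_distrib, mul_sum]

/-- A block whose set avoids the grid, `P ∖ 1` and the set of `L` is clear of the side `K = P C`. -/
theorem clear_sideK {L E : Subgroup G} (D : Supp S U W₁ W₂ L E) (hC : C[S, U] ≠ ⊥) {Y : Block G}
    (hW : Disjoint (wPart W₁ W₂) Y.Ω) (hP : Disjoint (partConj ((P[S] : Set G) \ {1})) Y.Ω)
    (hL : Disjoint (omega L) Y.Ω) : d.sideK.Clear Y :=
  Side.clear_of_disjoint hW
    ((hP.union_left hL).mono_left (partConj_core_C_subset D hC))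

end SideData

section Instances

variable (hG : Cfsg.IsMinSimpleOddOrder G) (F : BG16.SectionFacts G)
  (hfrob : ∀ L : Subgroup G, IsCoatom L → IsTypeI L → ∀ x ∈ Cfsg.fittingHallOf L, x ≠ 1 →
    L ⊓ centralizer ({x} : Set G) ≤ Cfsg.fittingHallOf L)
  (hcoh : ∀ L : Subgroup G, IsCoatom L → IsTypeI L →
    letI := Fintype.ofFinite L
    Cfsg.IsCoherent (Cfsg.inducedIrrAbove (Cfsg.fittingHall L) ⊥) {1}ᶜ
      (Cfsg.dadeIsometry (setA L) L (Cfsg.supportR L)))
  {T V L E : Subgroup G} (hS : IsCoatom S) (hSP : Cfsg.IsTypePWith S W₁ U W₂)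
  (D : Supp S U W₁ W₂ L E)

include hG F hfrob hcoh hS hSP in
/-- The block of `L` itself, with the inclusion of `C`. -/
theorem cblock_blockI (hC : C[S, U] ≠ ⊥) :
    CBlock S W₁ U W₂ (blockI hG F hfrob hcoh L D.coatom_L D.typeI)
      (inclusion (inf_le_left.trans D.U_le_L : C[S, U] ≤ L)) where
  avoid := avoid_of_disjoint (by
    rw [blockI_Ω]
    exact wPart_disjoint_omega hG F hS hSP D.coatom_L D.typeI)
  off_P x hx hx1 h := by
    rw [blockI_Ω] at h
    exact Set.disjoint_left.1 (omega_disjoint_sigma hG F hS hSP hfrob D.coatom_L D.typeI) h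
      (mem_partConj (core_subset_sigma hG F hS ⟨hx, hx1⟩))
  value α hα c hc x hx := by
    have hc1 : (c : G) ≠ 1 := fun e => hc (Subtype.ext e)
    refine H43.dade_apply ((setA_typeI hfrob D.coatom_L D.typeI).2.2 ▸
      PF10.dade_of_facts hG F D.coatom_L) hα
      (a := inclusion (inf_le_left.trans D.U_le_L) c) ?_
      (u := x) ?_ (x := 1) (by simp)
    · show (c : G) ∈ setA L
      rw [D.setA_L]
      exact ⟨D.overN.U_le c.2.1, hc1⟩
    · show x ∈ Cfsg.supportR L (c : G)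
      rw [(D.supports hC c.2 hc1).2.2.2]
      exact hx

include hG F hfrob hcoh hS hSP D in
/-- The other blocks of Type I are clear of `K = P C`. -/
theorem blocksI_clear_sideK (d : SideData S W₁ U W₂) (hC : C[S, U] ≠ ⊥) (X : Fin (numI G))
    (hX : Disjoint (omega L) (blocksI hG F hfrob hcoh X).Ω) :
    d.sideK.Clear (blocksI hG F hfrob hcoh X) := by
  refine d.clear_sideK D hC ?_ ?_ hX
  · rw [blocksI_Ω]
    exact wPart_disjoint_omega hG F hS hSP (classOf G X).rep_coatom (classOf G X).rep_typeI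
  · rw [blocksI_Ω]
    exact (omega_disjoint_sigma hG F hS hSP hfrob (classOf G X).rep_coatom
      (classOf G X).rep_typeI).symm.mono_left (partConj_mono (core_subset_sigma hG F hS))

include hG F hfrob hcoh hS hSP D in
/-- The block of the class of `L` among `blocksI`, with the conjugation of `U` into it. -/
theorem exists_cblock_blocksI (hC : C[S, U] ≠ ⊥) :
    ∃ (X : Fin (numI G)) (g : G) (κ : ↥U →* (blocksI hG F hfrob hcoh X).L),
      Function.Injective κ ∧
      L = (classOf G X).rep.map (MulAut.conj g).toMonoidHom ∧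
      (∀ u : ↥U, Subtype.val (κ u) = g⁻¹ * u * g) ∧
      CBlock S W₁ U W₂ (blocksI hG F hfrob hcoh X)
        (κ.comp (inclusion (inf_le_left : C[S, U] ≤ U))) ∧
      (blocksI hG F hfrob hcoh X).Ω = omega L ∧
      (blocksI hG F hfrob hcoh X).e = (Cfsg.fittingHall L).index ∧
      Nat.card (blocksI hG F hfrob hcoh X).H = Nat.card (Cfsg.fittingHallOf L) ∧
      ∀ Y, Y ≠ X → Disjoint (omega L) (blocksI hG F hfrob hcoh Y).Ω := by
  obtain ⟨i, g, hgL⟩ := TypeIClass.exists_rep D.coatom_L D.typeI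
  obtain ⟨X, rfl⟩ := (classOf G).surjective i
  set L' := (classOf G X).rep with hL'def
  have hL' := (classOf G X).rep_coatom
  have hI' := (classOf G X).rep_typeI
  subst hgL
  obtain ⟨h1, h2⟩ := typeI_conj_invariants hG F hL' hI' g D.typeI
  have hΩ : (blocksI hG F hfrob hcoh X).Ω = omega (L'.map (MulAut.conj g).toMonoidHom) := by
    rw [blocksI_Ω, omega_map hG F hL' hI' g D.typeI]
  have hback : ∀ z ∈ L'.map (MulAut.conj g).toMonoidHom, g⁻¹ * z * g ∈ L' := by
    rintro _ ⟨z, hz, rfl⟩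
    simpa [mul_assoc] using hz
  let κ : ↥U →* ↥L' :=
    { toFun := fun u => ⟨g⁻¹ * u * g, hback _ (D.U_le_L u.2)⟩
      map_one' := Subtype.ext (by simp)
      map_mul' := fun a b => Subtype.ext (by simp [mul_assoc]) }
  refine ⟨X, g, κ, fun a b e => Subtype.ext ?_, rfl, fun _ => rfl, ⟨?_, ?_, ?_⟩, hΩ, h2.symm,
    (blockI_card_H hG F hfrob hcoh hL' hI').trans h1.symm, fun Y hY => ?_⟩
  · have e' : g⁻¹ * (a : G) * g = g⁻¹ * b * g := congrArg Subtype.val e
    exact mul_left_cancel (mul_right_cancel e')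
  · exact avoid_of_disjoint (by
      rw [hΩ]; exact wPart_disjoint_omega hG F hS hSP D.coatom_L D.typeI)
  · intro x hx hx1 h
    rw [hΩ] at h
    exact Set.disjoint_left.1 (omega_disjoint_sigma hG F hS hSP hfrob D.coatom_L D.typeI) h
      (mem_partConj (core_subset_sigma hG F hS ⟨hx, hx1⟩))
  · intro α hα c hc x hx
    have hc1 : (c : G) ≠ 1 := fun e => hc (Subtype.ext e)
    have ha1 : g⁻¹ * (c : G) * g ≠ 1 := fun e => hc1 (by
      simpa [mul_assoc] using congrArg (fun z => g * z * g⁻¹) e)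
    have ha : g⁻¹ * (c : G) * g ∈ Cfsg.fittingHallOf L' := by
      have hcL := D.overN.U_le c.2.1
      rw [← sigmaCore_typeI hG F D.coatom_L D.typeI, ← OddOrder.sigmaCore_map] at hcL
      obtain ⟨z, hz, e⟩ := hcL
      rw [← sigmaCore_typeI hG F hL' hI', ← e]
      simpa [mul_assoc] using hz
    have hR : x ∈ (Cfsg.supportR L' (g⁻¹ * c * g)).map (MulAut.conj g).toMonoidHom := by
      rw [← BG14.supportR_map (BG14.tildeFacts hG) hL' (by
          rw [sigmaCore_typeI hG F hL' hI']; exact ha) ha1 g,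
        show g * (g⁻¹ * (c : G) * g) * g⁻¹ = c by group, (D.supports hC c.2 hc1).2.2.2]
      exact hx
    obtain ⟨u, hu, rfl⟩ := hR
    refine H43.dade_apply ((setA_typeI hfrob hL' hI').2.2 ▸ PF10.dade_of_facts hG F hL') hα
      (a := κ ⟨c, c.2.1⟩) ?_ (u := u) hu (x := g⁻¹) ?_
    · rw [(setA_typeI hfrob hL' hI').1]
      exact ⟨ha, ha1⟩
    · show _ = g⁻¹ * (c : G) * g * u
      simp [mul_assoc]
  · rw [← hΩ]
    exact blocksI_disjoint hG F hfrob hcoh hY.symm

include hG F hfrob hS hSP D in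
/-- The block `T' / Q` of `T` of Type III is clear of `K = P C`. -/
theorem blockT_clear_sideK (d : SideData S W₁ U W₂) (hC : C[S, U] ≠ ⊥) (hT : IsCoatom T)
    (hTP : Cfsg.IsTypePWith T W₂ V W₁) (hIII : Cfsg.IsOfTypeIII T) :
    d.sideK.Clear (blockT hG F hfrob hT hTP hIII) := by
  have hsub := omegaT_subset_sigma hG F hT hTP hIII
  refine d.clear_sideK D hC ?_ ?_ ?_ <;> rw [blockT_Ω]
  · exact (wPart_disjoint_sigma hG F hfrob hS hSP hT (kappa_nonempty hG F hT hTP)).mono_right hsub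
  · exact (sigma_disjoint hG F hfrob hS hT hSP hTP).mono
      (partConj_mono (core_subset_sigma hG F hS)) hsub
  · exact (omega_disjoint_sigma hG F hT hTP hfrob D.coatom_L D.typeI).mono_right hsub

end Instances

end Cfsg.Agent.OddOrder.PF14
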