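import Cfsg.Agent.OddOrder.PF14.CTrivialInner

/-!
# Peterfalvi section 14, `C ≠ 1`: integrality of the sums over `C`

`n ξ = ∑_{c ∈ C} ξ (ι c)` is a multiple of `|C|`; for `ξ₀` it is a multiple of `|C| q` when an element
of order `q` outside the kernel normalises the image of `C`.
-/

set_option autoImplicit false
set_option linter.unusedSectionVars false
set_option linter.style.haveILetI false

namespace Cfsg.Agent.OddOrder.PF14

open Subgroup Finset
open Cfsg.Agent Cfsg.Agent.OddOrder Cfsg.Agent.CharBasic Cfsg.Agent.CharInduce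
open scoped ComplexConjugate

universe u

variable {G : Type u} [Group G] [Fintype G]

/-- A set stable under left multiplication by a subgroup has order divisible by its order. -/
theorem card_dvd_card_of_mul_mem {L : Type*} [Group L] [Finite L] (K : Subgroup L) (X : Set L)
    (h : ∀ k ∈ K, ∀ x ∈ X, k * x ∈ X) : Nat.card K ∣ Nat.card X := by
  let e : X ≃ ↥((QuotientGroup.mk : L → L ⧸ K) ⁻¹'
      ((QuotientGroup.mk : L → L ⧸ K) '' {x | x⁻¹ ∈ X})) :=
    { toFun := fun x => ⟨(x : L)⁻¹, (x : L)⁻¹, by simp, rfl⟩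
      invFun := fun y => ⟨(y : L)⁻¹, by
        obtain ⟨z, hz, e⟩ := y.2
        have hk := h _ (inv_mem (QuotientGroup.eq.1 e)) _ hz
        simpa [mul_assoc] using hk⟩
      left_inv := fun x => Subtype.ext (inv_inv _)
      right_inv := fun y => Subtype.ext (inv_inv _) }
  rw [Nat.card_congr (e.trans (QuotientGroup.preimageMkEquivSubgroupProdSet K _)), Nat.card_prod]
  exact dvd_mul_right _ _

/-- The sum of a character over the image of `C` is a multiple of `|C|`. -/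
theorem exists_sum_char_eq {L : Type*} [Group L] [Fintype L] {C : Type*} [Group C] [Fintype C]
    (ι : C →* L) {χ : L → ℂ} (hχ : Cfsg.IsCharacter L χ) :
    ∃ k : ℕ, ∑ a : C, χ (ι a) = (Nat.card C : ℂ) * k := by
  obtain ⟨k, hk⟩ := classInner_isChar_nat (IsChar.comp hχ ι) (IsChar.one (G := C))
  refine ⟨k, ?_⟩
  rw [← hk, classInner_def]
  simp [Nat.card_eq_fintype_card]

namespace Block

variable (B : Block G) {C : Type*} [Group C] [Fintype C] (ι : C →* B.L)

/-- `∑_c ξ (ι c)` is a multiple of `|C|`. -/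
theorem exists_sum_eq_mul {ξ : B.L → ℂ} (hξ : ξ ∈ B.S) :
    ∃ k : ℤ, ∑ a : C, ξ (ι a) = (Nat.card C : ℂ) * k := by
  obtain ⟨k, hk⟩ := exists_sum_char_eq ι (CharBasic.IsIrr.isCharacter (B.S_irr hξ))
  exact ⟨k, by rw [hk, Int.cast_natCast]⟩

/-- `∑_c ξ₀ (ι c)` is a multiple of `|C| q`. -/
theorem exists_sum_xi0_eq_mul {q : ℕ} (hq : q.Prime) (hH : ∀ a : C, ι a ∈ B.H) {w0 : B.L}
    (hord : orderOf w0 = q) (hw0 : w0 ∉ B.H) (hnorm : ∀ a : C, ∃ b : C, w0 * ι a * w0⁻¹ = ι b) :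
    ∃ k : ℤ, ∑ a : C, B.xi0 (ι a) = (Nat.card C : ℂ) * (q : ℂ) * k := by
  classical
  haveI := Fintype.ofFinite B.H
  obtain ⟨θ, -, m, -, hind, hθ1, hdeg⟩ := PF6.seqInd_degree B.H B.xi0_mem
  have hm1 : m = 1 := by
    rw [B.xi0_one, Block.e, Nat.cast_inj] at hdeg
    exact Nat.eq_of_mul_eq_mul_left B.e_pos (by rw [mul_one]; exact hdeg.symm)
  obtain ⟨l, hl⟩ := IsChar.exists_hom_of_degree_one (CharBasic.IsIrr.isCharacter θ.2)
    (hθ1.trans (by rw [hm1, Nat.cast_one]))
  set X : Set B.L := {x | ∀ a : C, extendByZero B.H (θ : B.H → ℂ) (x⁻¹ * ι a * x) = 1} with hX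
  have hmem : ∀ (x : B.L) (a : C), x⁻¹ * ι a * x ∈ B.H := fun x a => by
    simpa using B.normal.conj_mem _ (hH a) x⁻¹
  have hval : ∀ (x : B.L) (a : C),
      extendByZero B.H (θ : B.H → ℂ) (x⁻¹ * ι a * x) = (l ⟨_, hmem x a⟩ : ℂ) := fun x a => by
    rw [extendByZero_of_mem _ (hmem x a), hl]
  have hinner : ∀ x : B.L, ∑ a : C, extendByZero B.H (θ : B.H → ℂ) (x⁻¹ * ι a * x) =
      if x ∈ X then (Nat.card C : ℂ) else 0 := by
    intro x
    split_ifs with hx
    · rw [sum_congr rfl fun a _ => hx a]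
      simp [Nat.card_eq_fintype_card]
    · let f : C →* ℂ := (Units.coeHom ℂ).comp (l.comp
        { toFun := fun a => (⟨_, hmem x a⟩ : B.H)
          map_one' := Subtype.ext (by simp)
          map_mul' := fun a b => Subtype.ext (by simp [mul_assoc]) })
      rw [sum_congr rfl fun a _ => (hval x a : _ = f a)]
      refine sum_hom_units_eq_zero f fun e => hx fun a => ?_
      rw [hval x a]
      exact DFunLike.congr_fun e a
  -- `X` is stable under `⟨w0⟩ H`
  let K : Subgroup B.L := zpowers w0 ⊔ B.H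
  let M : Subgroup B.L :=
    { carrier := {k | ∀ x, k * x ∈ X ↔ x ∈ X}
      one_mem' := fun x => by rw [one_mul]
      mul_mem' := fun {a b} ha hb x => by rw [mul_assoc, ha, hb]
      inv_mem' := fun {a} ha x => by rw [← ha (a⁻¹ * x), mul_inv_cancel_left] }
  have hnat : ∀ k : B.L, (∀ x ∈ X, k * x ∈ X) → k ∈ M := by
    intro k hk x
    refine ⟨fun h => ?_, hk x⟩
    have hcl : ∀ (i : ℕ) (y : B.L), y ∈ X → k ^ i * y ∈ X := by
      intro i
      induction i with
      | zero => intro y hy; simpa using hy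
      | succ i ih => intro y hy; rw [pow_succ', mul_assoc]; exact hk _ (ih y hy)
    have := hcl (orderOf k - 1) (k * x) h
    rwa [← mul_assoc, ← pow_succ, Nat.sub_add_cancel (orderOf_pos k), pow_orderOf_eq_one,
      one_mul] at this
  have hHM : B.H ≤ M := fun h hh => hnat h fun x hx a => by
    have hh' : x⁻¹ * h * x ∈ B.H := by simpa using B.normal.conj_mem _ hh x⁻¹
    rw [hval]
    have e : (⟨_, hmem (h * x) a⟩ : B.H) =
        (⟨_, hh'⟩ : B.H)⁻¹ * ⟨_, hmem x a⟩ * ⟨_, hh'⟩ := Subtype.ext (by simp [mul_assoc])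
    rw [e, map_mul, map_mul, map_inv, inv_mul_cancel_comm, ← hval]
    exact hx a
  have hwM : w0⁻¹ ∈ M := hnat w0⁻¹ fun x hx a => by
    obtain ⟨b, hb⟩ := hnorm a
    rw [show (w0⁻¹ * x)⁻¹ * ι a * (w0⁻¹ * x) = x⁻¹ * ι b * x by rw [← hb]; group]
    exact hx b
  have hKM : K ≤ M := sup_le (zpowers_le.2 (inv_inv w0 ▸ inv_mem hwM)) hHM
  obtain ⟨n, hn⟩ := card_dvd_card_of_mul_mem K X fun k hk x hx => (hKM hk x).2 hx
  have hK : Nat.card K = q * Nat.card B.H := by
    have hinf : zpowers w0 ⊓ B.H = ⊥ := by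
      refine Subgroup.card_eq_one.1 (((Nat.dvd_prime hq).1 ?_).resolve_right fun h => hw0 ?_)
      · exact hord ▸ Nat.card_zpowers w0 ▸ card_dvd_of_le inf_le_left
      · exact (eq_of_le_of_card_ge (H := zpowers w0 ⊓ B.H) inf_le_left
          (by rw [Nat.card_zpowers, hord, h])).ge.trans inf_le_right (mem_zpowers w0)
    rw [show K = B.H ⊔ zpowers w0 from sup_comm _ _,
      Coprime.card_sup (by rw [normalizer_eq_top]; exact le_top) (inf_comm B.H _ ▸ hinf),
      Nat.card_zpowers, hord, mul_comm]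
  refine ⟨(n : ℤ), ?_⟩
  rw [← hind]
  simp only [indFun_apply]
  rw [← mul_sum, Finset.sum_comm, sum_congr rfl fun x _ => hinner x, ← sum_filter, sum_const,
    nsmul_eq_mul, ← Fintype.card_subtype, ← Nat.card_eq_fintype_card]
  rw [show Nat.card {x : B.L // x ∈ X} = q * Nat.card B.H * n from hn.trans (by rw [hK])]
  have := CharInduce.card_ne_zero_complex (↥B.H)
  push_cast
  field_simp

end Block

section Instances

variable (hG : Cfsg.IsMinSimpleOddOrder G) (F : BG16.SectionFacts G)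
  (hfrob : ∀ L : Subgroup G, IsCoatom L → IsTypeI L → ∀ x ∈ Cfsg.fittingHallOf L, x ≠ 1 →
    L ⊓ centralizer ({x} : Set G) ≤ Cfsg.fittingHallOf L)
  (hcoh : ∀ L : Subgroup G, IsCoatom L → IsTypeI L →
    letI := Fintype.ofFinite L
    Cfsg.IsCoherent (Cfsg.inducedIrrAbove (Cfsg.fittingHall L) ⊥) {1}ᶜ
      (Cfsg.dadeIsometry (setA L) L (Cfsg.supportR L)))
  {S U W₁ W₂ L E : Subgroup G} (D : Supp S U W₁ W₂ L E) {X : Fin (numI G)} {g : G}
  {κ : ↥U →* (blocksI hG F hfrob hcoh X).L}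
  (hL : L = (classOf G X).rep.map (MulAut.conj g).toMonoidHom)
  (hκ : ∀ u : ↥U, Subtype.val (κ u) = g⁻¹ * u * g)

include D hL hκ

/-- In the block of `L` the image of `U` lies in the kernel and a conjugate of a generator of `W₁`
normalises the image of `C`. -/
theorem exists_w0 :
    (∀ u : ↥U, κ u ∈ (blocksI hG F hfrob hcoh X).H) ∧
    ∃ w0 : (blocksI hG F hfrob hcoh X).L, orderOf w0 = Nat.card W₁ ∧
      w0 ∉ (blocksI hG F hfrob hcoh X).H ∧
      ∀ c : ↥(U ⊓ centralizer (Cfsg.fittingHallOf S : Set G)),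
        ∃ c' : ↥(U ⊓ centralizer (Cfsg.fittingHallOf S : Set G)),
          w0 * κ.comp (inclusion (inf_le_left : U ⊓ centralizer (Cfsg.fittingHallOf S : Set G) ≤ U)) c
            * w0⁻¹ =
          κ.comp (inclusion (inf_le_left : U ⊓ centralizer (Cfsg.fittingHallOf S : Set G) ≤ U)) c' := by
  classical
  set L' := (classOf G X).rep with hL'def
  have hL'c := (classOf G X).rep_coatom
  have hI' := (classOf G X).rep_typeI
  have hFF : Cfsg.fittingHallOf L = (Cfsg.fittingHallOf L').map (MulAut.conj g).toMonoidHom := by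
    rw [← sigmaCore_typeI hG F D.coatom_L D.typeI, ← sigmaCore_typeI hG F hL'c hI', hL,
      OddOrder.sigmaCore_map]
  have hH : ∀ z : ↥L', (z : G) ∈ Cfsg.fittingHallOf L' → z ∈ Cfsg.fittingHall L' := fun z hz => by
    obtain ⟨z', hz', e⟩ := hz
    exact (Subtype.ext e : z' = z) ▸ hz'
  refine ⟨fun u => hH _ ?_, ?_⟩
  · rw [hκ u]
    have := hFF.le (D.overN.U_le u.2)
    rwa [Coprime.mem_map_conj] at this
  haveI := Fact.mk D.q_prime
  obtain ⟨⟨w, hw⟩, hw1⟩ := (Subgroup.ne_bot_iff_exists_ne_one).1 D.hP.W₁_ne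
  have hw1' : w ≠ 1 := fun e => hw1 (Subtype.ext e)
  have how : orderOf w = Nat.card W₁ := by
    rw [← Nat.card_zpowers, line_zpowers D.q_prime rfl hw hw1']
  have hwL : g⁻¹ * w * g ∈ L' := by
    have := hL.le (D.W₁_le_L hw)
    rwa [Coprime.mem_map_conj] at this
  refine ⟨(⟨g⁻¹ * w * g, hwL⟩ : ↥L'), ?_, ?_, fun c => ?_⟩
  · show orderOf (⟨g⁻¹ * w * g, hwL⟩ : ↥L') = _
    rw [← Subgroup.orderOf_coe]
    show orderOf (g⁻¹ * w * g) = _
    rw [← how, ← (MulAut.conj g⁻¹).orderOf_eq w]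
    simp
  · intro hmem
    refine D.q_not_dvd ?_
    have h1 : g⁻¹ * w * g ∈ Cfsg.fittingHallOf L' := ⟨_, hmem, rfl⟩
    have h2 : w ∈ Cfsg.fittingHallOf L := by
      rw [hFF, Coprime.mem_map_conj]
      exact h1
    rw [← how]
    exact Subgroup.orderOf_dvd_natCard _ h2
  · refine ⟨⟨w * c * w⁻¹, Coprime.conj_mem
      (D.compl_normalizes_C (mem_sup_right hw)) c.2⟩, Subtype.ext ?_⟩
    show g⁻¹ * w * g * Subtype.val (κ _) * (g⁻¹ * w * g)⁻¹ = Subtype.val (κ _)
    rw [hκ, hκ]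
    simp [mul_assoc]

end Instances

end Cfsg.Agent.OddOrder.PF14
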