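import Cfsg.Agent.OddOrder.PF14.CTrivialInner

/-!
# Peterfalvi section 14, `C ≠ 1`: the sums of the block characters over `C`

`fCount ι x` is the number of `g` with `g x g⁻¹ ∈ ι C`.  It is supported on `H`, its inner product with
a member `ξ` of the family is `∑_a ξ (ι a)`, and it is a combination of the family and of the indicator
of `H`; this gives `∑_ξ |∑_a ξ (ι a)|² = e (h - c²) + (c - 1) q u`.
-/

set_option autoImplicit false
set_option linter.unusedSectionVars false
set_option linter.style.haveILetI false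

namespace Cfsg.Agent.OddOrder.PF14

open Subgroup Finset
open Cfsg.Agent Cfsg.Agent.CharBasic
open scoped ComplexConjugate

universe u v

namespace Block

variable {G : Type u} [Group G] [Fintype G] (B : Block G)

/-- A class function supported on `H` is a combination of the family and of the indicator of `H`. -/
theorem eq_sum_of_supp {f : B.L → ℂ} (hf : Cfsg.IsClassFunction B.L f)
    (hH : ∀ x, x ∉ B.H → f x = 0) :
    f = (∑ ξ ∈ B.S, Cfsg.classInner f ξ • ξ) +
      ((B.e : ℂ) * Cfsg.classInner f B.oneH) • B.oneH := by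
  classical
  haveI := Fintype.ofFinite B.H
  set P := (∑ ξ ∈ B.S, Cfsg.classInner f ξ • ξ) +
      ((B.e : ℂ) * Cfsg.classInner f B.oneH) • B.oneH with hP
  have hPc : Cfsg.IsClassFunction B.L P := fun g h => by
    simp only [hP, Pi.add_apply, Finset.sum_apply, Pi.smul_apply]
    congr 1
    · exact sum_congr rfl fun ξ hξ => by rw [IsIrr.isClassFunction (B.S_irr hξ) g h]
    · rw [B.oneH_class g h]
  set D := f - P with hD
  have hDc : Cfsg.IsClassFunction B.L D := fun g h => by
    simp only [hD, Pi.sub_apply, hf g h, hPc g h]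
  have hDH : ∀ x, x ∉ B.H → D x = 0 := fun x hx => by
    simp only [hD, hP, Pi.sub_apply, Pi.add_apply, Finset.sum_apply, Pi.smul_apply, hH x hx,
      B.oneH_of_not_mem hx, smul_zero, add_zero]
    rw [sum_eq_zero fun ξ hξ => by rw [B.S_vanish hξ hx, smul_zero], sub_zero]
  have hDS : ∀ ξ ∈ B.S, Cfsg.classInner D ξ = 0 := fun ξ hξ => by
    rw [hD, hP, classInner_sub_left, classInner_add_left, classInner_sum_left, classInner_smul_left,
      ← classInner_conj_symm ξ B.oneH, B.S_inner_oneH hξ, map_zero, mul_zero, add_zero,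
      sum_eq_single ξ (fun η hη hne => by rw [classInner_smul_left, B.S_orth hη hξ, if_neg hne,
        mul_zero]) (fun h => absurd hξ h), classInner_smul_left, B.S_orth hξ hξ, if_pos rfl, mul_one,
      sub_self]
  have hD1 : Cfsg.classInner D B.oneH = 0 := by
    rw [hD, hP, classInner_sub_left, classInner_add_left, classInner_sum_left,
      sum_eq_zero (fun ξ hξ => by rw [classInner_smul_left, B.S_inner_oneH hξ, mul_zero]),
      classInner_smul_left, zero_add, mul_right_comm, B.oneH_inner_self, one_mul, sub_self]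
  have hres : (fun h : B.H => D h) = 0 := by
    refine eq_zero_of_classInner_eq_zero (fun h k => hDc h k) fun θ => ?_
    rw [← classInner_conj_symm (θ : B.H → ℂ), ← CharInduce.classInner_indFun_left B.H _ D hDc]
    by_cases hθ : (θ : B.H → ℂ) = fun _ => 1
    · rw [hθ, B.indFun_one_eq, classInner_smul_left, ← classInner_conj_symm D B.oneH, hD1,
        map_zero, mul_zero, map_zero]
    · rw [← classInner_conj_symm D, hDS _ ((PF6.mem_seqInd B.H).2
        ⟨θ, PF6.mem_thetas_bot hθ, rfl⟩), map_zero, map_zero]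
  funext x
  refine sub_eq_zero.1 (show D x = 0 from ?_)
  by_cases hx : x ∈ B.H
  · exact congrFun hres ⟨x, hx⟩
  · exact hDH x hx

end Block

section Count

variable {G : Type u} [Group G] [Fintype G] {B : Block G} {C : Type v} [Group C] [Fintype C]

/-- The number of `g` with `g x g⁻¹ ∈ ι C`. -/
noncomputable def fCount (ι : C →* B.L) (x : B.L) : ℂ :=
  (Nat.card {g : B.L // g * x * g⁻¹ ∈ ι.range} : ℂ)

variable (ι : C →* B.L)

theorem fCount_class : Cfsg.IsClassFunction B.L (fCount ι) := fun x h => by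
  refine congrArg Nat.cast (Nat.card_congr (Equiv.subtypeEquiv (Equiv.mulRight h) fun g => ?_))
  show g * (h * x * h⁻¹) * g⁻¹ ∈ ι.range ↔ g * h * x * (g * h)⁻¹ ∈ ι.range
  rw [show g * (h * x * h⁻¹) * g⁻¹ = g * h * x * (g * h)⁻¹ by group]

theorem fCount_one : fCount ι (ι 1) = (Nat.card B.L : ℂ) := by
  refine congrArg Nat.cast (Nat.card_congr (Equiv.subtypeUnivEquiv fun g => ?_))
  simp

theorem conj_fCount (x : B.L) : conj (fCount ι x) = fCount ι x := Complex.conj_natCast _

theorem fCount_supp (hH : ∀ c, ι c ∈ B.H) {x : B.L} (hx : x ∉ B.H) : fCount ι x = 0 := by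
  have : IsEmpty {g : B.L // g * x * g⁻¹ ∈ ι.range} := ⟨fun ⟨g, a, ha⟩ => hx (by
    have := B.normal.conj_mem _ (hH a) g⁻¹
    rw [ha] at this
    simpa [mul_assoc] using this)⟩
  rw [fCount, Nat.card_of_isEmpty, Nat.cast_zero]

/-- The inner product with `fCount` is the sum over `C`. -/
theorem classInner_fCount (hinj : Function.Injective ι) {φ : B.L → ℂ}
    (hφ : Cfsg.IsClassFunction B.L φ) :
    Cfsg.classInner φ (fCount ι) = ∑ a : C, φ (ι a) := by
  classical
  have hpre : ∀ x g : B.L, (if g * x * g⁻¹ ∈ ι.range then (1 : ℂ) else 0) =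
      ∑ a : C, if g * x * g⁻¹ = ι a then (1 : ℂ) else 0 := by
    intro x g
    split_ifs with h
    · obtain ⟨a, ha⟩ := h
      rw [Fintype.sum_eq_single a fun b hb => if_neg fun e => hb (hinj (e.symm.trans ha.symm)),
        if_pos ha.symm]
    · exact (sum_eq_zero fun a _ => if_neg fun e => h ⟨a, e.symm⟩).symm
  have hf : ∀ x, fCount ι x = ∑ g : B.L, if g * x * g⁻¹ ∈ ι.range then (1 : ℂ) else 0 := by
    intro x
    rw [sum_boole, fCount, Nat.card_eq_fintype_card, Fintype.card_subtype]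
  rw [classInner_def]
  simp only [conj_fCount]
  simp only [hf, hpre, mul_sum, mul_ite, mul_one, mul_zero]
  rw [Finset.sum_comm, Finset.sum_congr rfl fun g _ => Finset.sum_comm]
  have key : ∀ g : B.L, ∀ a : C,
      (∑ x : B.L, if g * x * g⁻¹ = ι a then (Nat.card B.L : ℂ)⁻¹ * φ x else 0) =
        (Nat.card B.L : ℂ)⁻¹ * φ (ι a) := by
    intro g a
    rw [Fintype.sum_eq_single (g⁻¹ * ι a * g) fun x hx => if_neg fun e => hx (by rw [← e]; group),
      if_pos (by group)]
    have h := hφ (ι a) g⁻¹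
    rw [inv_inv] at h
    rw [h]
  simp only [key]
  rw [Finset.sum_comm]
  refine sum_congr rfl fun a _ => ?_
  rw [sum_const, card_univ, nsmul_eq_mul, ← Nat.card_eq_fintype_card, ← mul_assoc,
    mul_inv_cancel₀ (CharInduce.card_ne_zero_complex _), one_mul]

/-- `∑_ξ |∑_a ξ (ι a)|² = e (h - c²) + (c - 1) q u`. -/
theorem sum_normSq (hinj : Function.Injective ι) (hH : ∀ c, ι c ∈ B.H) {q u : ℕ}
    (hcount : ∀ a : C, a ≠ 1 → Nat.card {x : B.L // x * ι a * x⁻¹ ∈ ι.range} = q * u) :
    ∑ ξ ∈ B.S, Complex.normSq (∑ a : C, ξ (ι a)) =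
      (B.e : ℝ) * ((Nat.card B.H : ℝ) - (Nat.card C : ℝ) ^ 2) +
        ((Nat.card C : ℝ) - 1) * q * u := by
  classical
  set f := fCount ι with hf
  have hfc : Cfsg.IsClassFunction B.L f := fCount_class ι
  have h1 : Cfsg.classInner f B.oneH = (Nat.card C : ℂ) := by
    rw [← classInner_conj_symm B.oneH f, classInner_fCount ι hinj B.oneH_class,
      sum_congr rfl fun a _ => B.oneH_of_mem (hH a), sum_const, card_univ, nsmul_eq_mul, mul_one,
      Complex.conj_natCast, Nat.card_eq_fintype_card]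
  have hn : ∀ ξ ∈ B.S, Cfsg.classInner f ξ = conj (∑ a : C, ξ (ι a)) := fun ξ hξ => by
    rw [← classInner_conj_symm ξ f, classInner_fCount ι hinj (IsIrr.isClassFunction (B.S_irr hξ))]
  have hff : Cfsg.classInner f f =
      ((Nat.card B.H * B.e + (Nat.card C - 1) * (q * u) : ℕ) : ℂ) := by
    rw [classInner_fCount ι hinj hfc, ← add_sum_erase univ _ (mem_univ (1 : C)), hf, fCount_one,
      sum_congr rfl fun a ha => show fCount ι (ι a) = ((q * u : ℕ) : ℂ) from
        congrArg Nat.cast (hcount a (ne_of_mem_erase ha)),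
      sum_const, card_erase_of_mem (mem_univ _), card_univ, nsmul_eq_mul, Nat.card_eq_fintype_card]
    have hL : Nat.card B.L = Nat.card B.H * B.e := B.H.card_mul_index.symm
    rw [Nat.card_eq_fintype_card, Nat.card_eq_fintype_card] at hL
    rw [hL]
    simp only [Nat.card_eq_fintype_card]
    push_cast
    ring
  have hexp := B.eq_sum_of_supp hfc fun x hx => fCount_supp ι hH hx
  have hsq : Cfsg.classInner f f =
      ((∑ ξ ∈ B.S, Complex.normSq (∑ a : C, ξ (ι a))) + (B.e : ℝ) * (Nat.card C : ℝ) ^ 2 : ℝ) := by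
    conv_lhs => arg 1; rw [hexp]
    rw [classInner_add_left, classInner_sum_left, classInner_smul_left,
      ← classInner_conj_symm f B.oneH, h1, Complex.conj_natCast]
    push_cast
    congr 1
    · refine sum_congr rfl fun ξ hξ => ?_
      rw [classInner_smul_left, ← classInner_conj_symm f ξ, hn ξ hξ, Complex.conj_conj, mul_comm,
        Complex.mul_conj]
    · ring
  rw [hff] at hsq
  have hR := Complex.ofReal_injective ((Complex.ofReal_natCast _).trans hsq)
  push_cast [Nat.cast_sub (show 1 ≤ Nat.card C from Nat.card_pos)] at hR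
  linarith

/-- `∑_ξ deg ξ * ∑_a ξ (ι a) = h - c`. -/
theorem sum_deg_mul (hinj : Function.Injective ι) (hH : ∀ c, ι c ∈ B.H) :
    ∑ ξ ∈ B.S, (B.deg ξ : ℂ) * ∑ a : C, ξ (ι a) =
      (Nat.card B.H : ℂ) - (Nat.card C : ℂ) := by
  classical
  simp only [mul_sum]
  rw [Finset.sum_comm]
  have h : ∀ a : C, ∑ ξ ∈ B.S, (B.deg ξ : ℂ) * ξ (ι a) =
      (if a = 1 then (Nat.card B.H : ℂ) else 0) - 1 := by
    intro a
    have e := congrFun B.sum_deg_smul (ι a)
    simp only [Finset.sum_apply, Pi.smul_apply, Pi.sub_apply, smul_eq_mul, B.oneH_of_mem (hH a)] at e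
    rw [e]
    by_cases ha : a = 1
    · subst ha
      simp [Block.delta1]
    · have : ι a ≠ 1 := fun e' => ha (hinj (e'.trans (map_one ι).symm))
      simp [Block.delta1, ha, this]
  simp only [h, sum_sub_distrib, sum_ite_eq', mem_univ, if_true, sum_const, card_univ, nsmul_eq_mul,
    mul_one, Nat.card_eq_fintype_card]

end Count

section Supp

open Cfsg.Agent.OddOrder

variable {G : Type u} [Group G] [Fintype G] {S W₁ U W₂ L E : Subgroup G}
  (D : Supp S U W₁ W₂ L E)

local notation "C[" S ", " U "]" => (U ⊓ Subgroup.centralizer (Cfsg.fittingHallOf S : Set _))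

include D

/-- The elements of `L` carrying `c` into `C` form `U W₁`; transported to a conjugate `L'` of `L`. -/
theorem count_conj_C (hC : C[S, U] ≠ ⊥) {L' : Subgroup G} {g : G}
    (hgL : L = L'.map (MulAut.conj g).toMonoidHom) (κ : ↥U →* ↥L')
    (hκ : ∀ u : ↥U, (κ u : G) = g⁻¹ * u * g) (a : ↥C[S, U]) (ha : a ≠ 1) :
    Nat.card {x : ↥L' // x * (κ.comp (inclusion (inf_le_left : C[S, U] ≤ U))) a * x⁻¹ ∈
        (κ.comp (inclusion (inf_le_left : C[S, U] ≤ U))).range} =
      Nat.card W₁ * Nat.card U := by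
  rw [mul_comm, ← TypeP.card_compl D.hP]
  set ι := κ.comp (inclusion (inf_le_left : C[S, U] ≤ U)) with hι
  have hι' : ∀ b : ↥C[S, U], (ι b : G) = g⁻¹ * b * g := fun b => hκ _
  have hmem : ∀ x : ↥L', x * ι a * x⁻¹ ∈ ι.range ↔ g * x * g⁻¹ ∈ U ⊔ W₁ := by
    intro x
    have hxL : g * x * g⁻¹ ∈ L := hgL ▸ ⟨x, x.2, rfl⟩
    have ha1 : (a : G) ≠ 1 := fun e => ha (Subtype.ext e)
    constructor
    · rintro ⟨b, hb⟩
      refine D.mem_compl_of_conj hC hxL a.2 ha1 ?_
      have e : g⁻¹ * (b : G) * g = x * (g⁻¹ * a * g) * (x : G)⁻¹ := by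
        rw [← hι', ← hι', hb]; rfl
      rw [show g * x * g⁻¹ * a * (g * x * g⁻¹)⁻¹ = g * (x * (g⁻¹ * a * g) * (x : G)⁻¹) * g⁻¹ by group,
        ← e, show g * (g⁻¹ * (b : G) * g) * g⁻¹ = b by group]
      exact b.2
    · intro hx
      refine ⟨⟨_, Coprime.conj_mem (D.compl_normalizes_C hx) a.2⟩, Subtype.ext ?_⟩
      show _ = (x : G) * (ι a : G) * (x : G)⁻¹
      rw [hι', hι']
      group
  refine Nat.card_congr
    { toFun := fun x => ⟨g * x.1 * g⁻¹, (hmem x.1).1 x.2⟩
      invFun := fun y => ⟨⟨g⁻¹ * y * g, ?_⟩, ?_⟩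
      left_inv := fun x => Subtype.ext (Subtype.ext (show g⁻¹ * (g * x.1 * g⁻¹) * g = _ by group))
      right_inv := fun y => Subtype.ext (show g * (g⁻¹ * y * g) * g⁻¹ = _ by group) }
  · have hy : (y : G) ∈ L := (sup_le D.U_le_L D.W₁_le_L : U ⊔ W₁ ≤ L) y.2
    rw [hgL] at hy
    obtain ⟨z, hz, e⟩ := hy
    rw [← e]
    simpa [mul_assoc] using hz
  · refine (hmem _).2 ?_
    show g * (g⁻¹ * (y : G) * g) * g⁻¹ ∈ _
    rw [show g * (g⁻¹ * (y : G) * g) * g⁻¹ = y by group]
    exact y.2

/-- `κ` maps `C` into the kernel of `L'`. -/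
theorem conj_C_mem_core (hG : Cfsg.IsMinSimpleOddOrder G) (F : BG16.SectionFacts G)
    {L' : Subgroup G} (hL' : IsCoatom L') (hI' : IsTypeI L') {g : G}
    (hgL : L = L'.map (MulAut.conj g).toMonoidHom) (κ : ↥U →* ↥L')
    (hκ : ∀ u : ↥U, (κ u : G) = g⁻¹ * u * g) (u : ↥U) :
    κ u ∈ Cfsg.fittingHall L' := by
  have h := D.overN.U_le u.2
  rw [← sigmaCore_typeI hG F D.coatom_L D.typeI, hgL, ← OddOrder.sigmaCore_map] at h
  obtain ⟨z, hz, e⟩ := h
  have hz' : (κ u : G) ∈ Cfsg.fittingHallOf L' := by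
    rw [hκ, ← e, ← sigmaCore_typeI hG F hL' hI']
    simpa [mul_assoc] using hz
  exact (mem_map_iff_mem L'.subtype_injective).1 hz'

end Supp

end Cfsg.Agent.OddOrder.PF14
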