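import Cfsg.Agent.OddOrder.PF9.Chief
import Cfsg.Agent.S1545
import Mathlib.Analysis.Complex.Polynomial.Basic
import Mathlib.GroupTheory.FiniteAbelian.Duality
import Mathlib.RingTheory.RootsOfUnity.AlgebraicallyClosed

/-!
Group facts for one side `S` of Peterfalvi section 14: `P = S_F` is elementary abelian of order
`p ^ q`; the action of `U / C`, `C = C_U(P)`, is semiregular on the Galois side or diagonal on `q`
lines; `C_U(W₂) = C`; the count of the linear characters of `P` with stabiliser `C` in `U`.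
-/

set_option autoImplicit false
set_option linter.style.haveILetI false
set_option linter.unusedSectionVars false

namespace Cfsg.Agent.OddOrder.PF14

open Subgroup
open scoped IsMulCommutative

universe u

variable {G : Type u} [Group G] [Finite G] {S W₁ U W₂ : Subgroup G}

/-- The linear characters of `P` whose stabiliser in `U` is `U ⊓ C(P)`. -/
def coveredChars (P U : Subgroup G) : Set (P →* ℂˣ) :=
  {θ | θ ≠ 1 ∧ ∀ u ∈ U,
    (∀ h h' : P, (h' : G) = u * h * u⁻¹ → θ h' = θ h) → u ∈ centralizer (P : Set G)}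

/-- The hypothesis on a subgroup `L ≥ N(U)` of Type I. -/
structure OverNormalizer (S U L H : Subgroup G) : Prop where
  norm_le : normalizer (U : Set G) ≤ L
  U_le : U ≤ H
  frob : ∀ h ∈ H, h ≠ 1 → L ⊓ centralizer ({h} : Set G) ≤ H
  coprime : (Nat.card H).Coprime (Nat.card (Cfsg.fittingHallOf S))

theorem core_inf_centralizer_U_eq_bot (hU : U ≠ ⊥) {L H : Subgroup G}
    (hL : OverNormalizer S U L H) :
    Cfsg.fittingHallOf S ⊓ centralizer (U : Set G) = ⊥ := by
  obtain ⟨⟨u, hu⟩, hu1⟩ := Subgroup.ne_bot_iff_exists_ne_one.1 hU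
  refine le_bot_iff.1 fun x hx => ?_
  have hxH : x ∈ H := hL.frob u (hL.U_le hu) (fun e => hu1 (Subtype.ext e))
    ⟨hL.norm_le (TypeP.centralizer_le_normalizer' hx.2),
      mem_centralizer_singleton_iff.2 (mem_centralizer_iff.1 hx.2 u hu).symm⟩
  rw [← Coprime.inf_eq_bot hL.coprime]
  exact ⟨hxH, hx.1⟩

theorem coreKernel_eq_bot (hP : Cfsg.IsTypePWith S W₁ U W₂) (hU : U ≠ ⊥)
    (hq : (Nat.card W₁).Prime) (hp : (Nat.card W₂).Prime) {L H : Subgroup G}
    (hL : OverNormalizer S U L H) {H₀ : Subgroup G} (hk : CoreKernel S U H₀) : H₀ = ⊥ := by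
  set P := Cfsg.fittingHallOf S
  obtain ⟨p, hp', -, -, hW2, -⟩ := core_chief hP hq hk
  have h1 : H₀ ⊓ W₂ = ⊥ := by
    have h2 : H₀.relIndex W₂ = Nat.card W₂ := by
      have h3 : H₀.relIndex W₂ ∣ Nat.card W₂ := relIndex_dvd_card _ _
      rw [hW2] at h3 ⊢
      exact (Nat.prime_dvd_prime_iff_eq hp' hp).1 h3
    have h4 := card_mul_index (H₀.subgroupOf W₂)
    rw [show (H₀.subgroupOf W₂).index = H₀.relIndex W₂ from rfl, h2, mul_eq_right₀ Nat.card_pos.ne']
      at h4
    have h5 := Subgroup.card_eq_one.1 h4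
    rwa [subgroupOf_eq_bot, disjoint_iff] at h5
  haveI := TypeP.core_solvable S
  have h := S1545.result U W₁ H₀ hU hP.W₁_ne (TypeP.inf_U_W₁ hP)
    (fun e he u hu => Coprime.conj_mem (hP.U_normal he) hu)
    (fun e he he1 u hu h => TypeP.fpf_U hP he he1 hu h)
    (fun x hx h hh => Coprime.conj_mem (hk.normal (TypeP.compl_le hP hx)) hh)
    (le_bot_iff.1 ((inf_le_inf_right _ hk.le).trans_eq (TypeP.core_inf_compl hP)))
    (Group.isSolvable_of_isSolvable_injective (inclusion_injective hk.le))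
    ((TypeP.coprime_core_compl hP).coprime_dvd_left (card_dvd_of_le hk.le) |>.coprime_dvd_right
      (TypeP.card_compl hP).dvd)
  have hU0 : H₀ ⊓ centralizer (U : Set G) = ⊥ := le_bot_iff.1
    ((inf_le_inf_right _ hk.le).trans_eq (core_inf_centralizer_U_eq_bot hU hL))
  have hW0 : H₀ ⊓ centralizer (W₁ : Set G) = ⊥ := by
    rw [← h1, ← TypeP.core_inf_centralizer_W₁ hP, ← inf_assoc, inf_eq_left.2 hk.le]
  rw [hU0, hW0, card_bot, one_pow, one_mul] at h
  exact card_eq_one.1 (Nat.eq_one_of_mul_eq_one_left h)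

/-- The facts on `P = S_F` and `U` used for a side of section 14. -/
structure SideFacts (S W₁ U W₂ : Subgroup G) (p q : ℕ) : Prop where
  hP : Cfsg.IsTypePWith S W₁ U W₂
  q_eq : Nat.card W₁ = q
  p_eq : Nat.card W₂ = p
  q_prime : q.Prime
  p_prime : p.Prime
  card_P : Nat.card (Cfsg.fittingHallOf S) = p ^ q
  pow_P : ∀ h ∈ Cfsg.fittingHallOf S, h ^ p = 1
  comm_P : IsMulCommutative (Cfsg.fittingHallOf S)
  fix_U : Cfsg.fittingHallOf S ⊓ centralizer (U : Set G) = ⊥
  cases : (((U ⊓ centralizer (Cfsg.fittingHallOf S : Set G)).relIndex U ∣ (p ^ q - 1) / (p - 1) ∧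
      ((U ⊓ centralizer (Cfsg.fittingHallOf S : Set G)).relIndex U).Coprime (p - 1) ∧
      (∃ a ∈ U, ∀ b ∈ U, ∃ i : ℕ, (a ^ i)⁻¹ * b ∈ centralizer (Cfsg.fittingHallOf S : Set G)) ∧
      (∀ u ∈ U, ∀ h ∈ Cfsg.fittingHallOf S, h ≠ 1 → u * h = h * u →
        u ∈ centralizer (Cfsg.fittingHallOf S : Set G)) ∧
      Nat.card (coveredChars (Cfsg.fittingHallOf S) U) = p ^ q - 1) ∨
    ((∃ a : ℕ, a ∣ p - 1 ∧ 1 < a ∧
        (∀ b ∈ U, b ^ a ∈ centralizer (Cfsg.fittingHallOf S : Set G)) ∧
        (U ⊓ centralizer (Cfsg.fittingHallOf S : Set G)).relIndex U ∣ a ^ (q - 1)) ∧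
      (p - 1) ^ q ≤ Nat.card (coveredChars (Cfsg.fittingHallOf S) U)))
  fix_W₂ : ∀ u ∈ U, u ∈ centralizer (W₂ : Set G) →
    u ∈ centralizer (Cfsg.fittingHallOf S : Set G)
  le_normalizer_C : IsMulCommutative U →
    S ≤ normalizer ((U ⊓ centralizer (Cfsg.fittingHallOf S : Set G) : Subgroup G) : Set G)

theorem card_hom_units (A : Type*) [CommGroup A] [Finite A] :
    Nat.card (A →* ℂˣ) = Nat.card A := by
  haveI : NeZero (Monoid.exponent A : ℂ) :=
    ⟨Nat.cast_ne_zero.2 Monoid.exponent_ne_zero_of_finite⟩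
  exact CommGroup.card_monoidHom_of_hasEnoughRootsOfUnity A ℂ

section Galois

variable {P : Subgroup G} {F : Type u} [Field F] [Finite F]

theorem galois_covered (hPU : U ≤ normalizer (P : Set G)) [IsMulCommutative P]
    (f : P → F) (hfi : Function.Bijective f)
    (ψ : U →* Fˣ) (heq : ∀ (u : U) (h h' : P), (h' : G) = u * h * (u : G)⁻¹ → f h' = (ψ u : F) * f h)
    (hadd : ∀ a b, f (a * b) = f a + f b)
    (hker : ∀ u : U, ψ u = 1 → (u : G) ∈ centralizer (P : Set G)) :
    coveredChars P U = {θ | θ ≠ 1} ∧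
      ∀ u ∈ U, ∀ h ∈ P, h ≠ 1 → u * h = h * u → u ∈ centralizer (P : Set G) := by
  have hf1 : f 1 = 0 := by simpa using hadd 1 1
  refine ⟨Set.ext fun θ => ⟨fun h => h.1, fun hθ => ⟨hθ, fun u hu hfix => ?_⟩⟩,
    fun u hu h hh hh1 hc => hker ⟨u, hu⟩ ?_⟩
  · by_contra hno
    have hne : (ψ ⟨u, hu⟩ : F) - 1 ≠ 0 := fun e =>
      hno (hker ⟨u, hu⟩ (Units.ext (sub_eq_zero.1 e)))
    refine hθ (MonoidHom.ext fun x => ?_)
    obtain ⟨h, hh⟩ := hfi.2 (f x / ((ψ ⟨u, hu⟩ : F) - 1))
    set h' : P := ⟨u * h * u⁻¹, Coprime.conj_mem (hPU hu) h.2⟩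
    have hh' : f h' = (ψ ⟨u, hu⟩ : F) * f h := heq ⟨u, hu⟩ h h' rfl
    have hx : x * h = h' := hfi.1 (by rw [hadd, hh', hh]; field_simp; ring)
    have h2 := hfix h h' rfl
    rw [← hx, map_mul, mul_eq_right] at h2
    simpa using h2
  · have h1 := heq ⟨u, hu⟩ ⟨h, hh⟩ ⟨h, hh⟩ (by rw [hc, mul_inv_cancel_right])
    have hne : f ⟨h, hh⟩ ≠ 0 := fun e => hh1 (congrArg Subtype.val (hfi.1 (e.trans hf1.symm)))
    exact Units.ext ((mul_eq_right₀ hne).1 h1.symm)

end Galois

section Split

variable {P N : Subgroup G} {p : ℕ}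

theorem line_zpowers (hp : p.Prime) (hN : Nat.card N = p) {n : G} (hn : n ∈ N) (hn1 : n ≠ 1) :
    zpowers n = N := by
  haveI := Fact.mk hp
  refine eq_of_le_of_card_ge (zpowers_le.2 hn) ?_
  rw [Nat.card_zpowers, hN]
  have hd : orderOf n ∣ p := hN ▸ orderOf_dvd_natCard (⟨n, hn⟩ : N) |> fun h => by
    rwa [Subgroup.orderOf_mk] at h
  rcases hp.eq_one_or_self_of_dvd _ hd with h | h
  · exact absurd (orderOf_eq_one_iff.1 h) hn1
  · exact h.ge

variable {W : Subgroup G} [IsMulCommutative P]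

/-- The product of the lines. -/
noncomputable def lineProd [Fintype W] (hle : ∀ x : W, N.map (MulAut.conj (x : G)).toMonoidHom ≤ P) :
    ((x : W) → N.map (MulAut.conj (x : G)).toMonoidHom) →* P where
  toFun f := ∏ x, inclusion (hle x) (f x)
  map_one' := Finset.prod_eq_one fun x _ => map_one (inclusion (hle x))
  map_mul' f g := (Finset.prod_congr rfl fun x _ => map_mul (inclusion (hle x)) (f x) (g x)).trans
    Finset.prod_mul_distrib

theorem lineProd_single [Fintype W] [DecidableEq W]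
    (hle : ∀ x : W, N.map (MulAut.conj (x : G)).toMonoidHom ≤ P) (x : W)
    (n : N.map (MulAut.conj (x : G)).toMonoidHom) :
    lineProd hle (Pi.mulSingle x n) = inclusion (hle x) n := by
  show ∏ y, _ = _
  rw [Finset.prod_eq_single x (fun y _ hy => by rw [Pi.mulSingle_eq_of_ne hy, map_one])
    (fun h => absurd (Finset.mem_univ x) h), Pi.mulSingle_eq_same]

theorem lineProd_bijective [Fintype W] (hp : p.Prime) (hN : Nat.card N = p)
    (hgen : P = ⨆ x : W, N.map (MulAut.conj (x : G)).toMonoidHom)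
    (hcard : Nat.card P = p ^ Nat.card W)
    (hle : ∀ x : W, N.map (MulAut.conj (x : G)).toMonoidHom ≤ P) :
    Function.Bijective (lineProd hle) := by
  classical
  have hsurj : Function.Surjective (lineProd hle) := by
    rw [← MonoidHom.range_eq_top, eq_top_iff]
    intro x _
    have h1 : P ≤ (lineProd hle).range.map P.subtype := by
      nth_rewrite 1 [hgen]
      refine iSup_le fun y n hn => ?_
      exact ⟨_, ⟨Pi.mulSingle y ⟨n, hn⟩, rfl⟩, by rw [lineProd_single]; rfl⟩
    obtain ⟨z, hz, he⟩ := h1 x.2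
    rwa [Subtype.ext he] at hz
  refine (Nat.bijective_iff_surjective_and_card _).2 ⟨hsurj, ?_⟩
  rw [Nat.card_pi, Finset.prod_congr rfl fun y _ =>
    (Coprime.card_map_conj _ _).trans hN, Finset.prod_const, Finset.card_univ,
    ← Nat.card_eq_fintype_card, hcard]

theorem split_covered (hPU : U ≤ normalizer (P : Set G)) (hWU : W ≤ normalizer (U : Set G))
    (hUN : U ≤ normalizer (N : Set G)) (hp : p.Prime) (hN : Nat.card N = p)
    (hgen : P = ⨆ x : W, N.map (MulAut.conj (x : G)).toMonoidHom)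
    (hcard : Nat.card P = p ^ Nat.card W) :
    (p - 1) ^ Nat.card W ≤ Nat.card (coveredChars P U) ∧
      ∀ w ∈ P, w ≠ 1 → (∀ y ∈ W, y * w = w * y) → ∀ u ∈ U, u * w = w * u →
        u ∈ centralizer (P : Set G) := by
  classical
  haveI := Fintype.ofFinite W
  have hle : ∀ x : W, N.map (MulAut.conj (x : G)).toMonoidHom ≤ P := fun x => by
    conv_rhs => rw [hgen]
    exact le_iSup (fun x : W => N.map (MulAut.conj (x : G)).toMonoidHom) x
  have hbij := lineProd_bijective hp hN hgen hcard hle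
  have hline : ∀ x : W, Nat.card (N.map (MulAut.conj (x : G)).toMonoidHom) = p := fun x =>
    (Coprime.card_map_conj _ _).trans hN
  have hUline : ∀ x : W, ∀ u ∈ U, ∀ n ∈ N.map (MulAut.conj (x : G)).toMonoidHom,
      u * n * u⁻¹ ∈ N.map (MulAut.conj (x : G)).toMonoidHom := by
    rintro x u hu _ ⟨n, hn, rfl⟩
    refine ⟨((x : G)⁻¹ * u * x) * n * ((x : G)⁻¹ * u * x)⁻¹,
      Coprime.conj_mem (hUN (Coprime.conj_mem' (hWU x.2) hu)) hn, ?_⟩
    show (x : G) * _ * (x : G)⁻¹ = u * ((x : G) * n * (x : G)⁻¹) * u⁻¹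
    group
  have hcent : ∀ u : G, (∀ x : W, ∃ n ∈ N.map (MulAut.conj (x : G)).toMonoidHom,
      n ≠ 1 ∧ u * n = n * u) → u ∈ centralizer (P : Set G) := by
    intro u h
    have hle' : P ≤ centralizer ({u} : Set G) := by
      nth_rewrite 1 [hgen]
      refine iSup_le fun x => ?_
      obtain ⟨n, hn, hn1, hc⟩ := h x
      rw [← line_zpowers hp (hline x) hn hn1, zpowers_le, mem_centralizer_singleton_iff]
      exact hc.symm
    exact mem_centralizer_iff.2 fun y hy => mem_centralizer_singleton_iff.1 (hle' hy)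
  refine ⟨?_, fun w hw hw1 hWw u hu huw => hcent u fun x => ?_⟩
  · let r : (P →* ℂˣ) → ∀ x : W, (N.map (MulAut.conj (x : G)).toMonoidHom →* ℂˣ) :=
      fun θ x => θ.comp (inclusion (hle x))
    have hrinj : Function.Injective r := by
      intro θ θ' e
      refine MonoidHom.ext fun z => ?_
      obtain ⟨f, rfl⟩ := hbij.2 z
      show θ (∏ x, inclusion (hle x) (f x)) = θ' (∏ x, inclusion (hle x) (f x))
      rw [map_prod, map_prod]
      exact Finset.prod_congr rfl fun x _ => DFunLike.congr_fun (congrFun e x) (f x)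
    have hfin : ∀ x : W, Finite ((N.map (MulAut.conj (x : G)).toMonoidHom) →* ℂˣ) := fun x => by
      apply Nat.finite_of_card_ne_zero
      haveI : IsMulCommutative (N.map (MulAut.conj (x : G)).toMonoidHom) := ⟨⟨fun a b =>
        Subtype.ext (congrArg Subtype.val
          (mul_comm (inclusion (hle x) a) (inclusion (hle x) b)) :)⟩⟩
      rw [card_hom_units]
      exact Nat.card_pos.ne'
    have hcardhom : ∀ x : W, Nat.card ((N.map (MulAut.conj (x : G)).toMonoidHom) →* ℂˣ) = p := by
      intro x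
      haveI : IsMulCommutative (N.map (MulAut.conj (x : G)).toMonoidHom) := ⟨⟨fun a b =>
        Subtype.ext (congrArg Subtype.val
          (mul_comm (inclusion (hle x) a) (inclusion (hle x) b)) :)⟩⟩
      rw [card_hom_units, hline]
    haveI : Finite (P →* ℂˣ) := Finite.of_injective r hrinj
    have hrb : Function.Bijective r := by
      refine (Nat.bijective_iff_injective_and_card _).2 ⟨hrinj, ?_⟩
      rw [card_hom_units, hcard, Nat.card_pi, Finset.prod_congr rfl fun x _ => hcardhom x,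
        Finset.prod_const, Finset.card_univ, ← Nat.card_eq_fintype_card]
    let R := Equiv.ofBijective r hrb
    let g : ((x : W) → {φ : (N.map (MulAut.conj (x : G)).toMonoidHom) →* ℂˣ // φ ≠ 1}) →
        coveredChars P U := fun φ => ⟨R.symm fun x => (φ x).1, by
      have happ : ∀ x : W, r (R.symm fun x => (φ x).1) x = (φ x).1 := fun x =>
        congrFun (R.apply_symm_apply fun x => (φ x).1) x
      refine ⟨fun e => ?_, fun u hu hfix => hcent u fun x => ?_⟩
      · apply (φ 1).2
        rw [← happ 1, e]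
        rfl
      · set θ := R.symm fun x => (φ x).1
        obtain ⟨⟨n, hn⟩, hn1⟩ : ∃ n : (N.map (MulAut.conj (x : G)).toMonoidHom), (φ x).1 n ≠ 1 := by
          by_contra hall
          push Not at hall
          exact (φ x).2 (MonoidHom.ext hall)
        have hne : n ≠ 1 := fun e => hn1 (by subst e; exact map_one _)
        refine ⟨n, hn, hne, ?_⟩
        set n' : G := u * n * u⁻¹ with hn'
        have hn'm := hUline x u hu n hn
        have hk : n' ∈ zpowers n := by rw [line_zpowers hp (hline x) hn hne]; exact hn'm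
        obtain ⟨k, hk⟩ := mem_zpowers_iff.1 hk
        have h1 : θ ⟨n', hle x hn'm⟩ = θ ⟨n, hle x hn⟩ := hfix ⟨n, hle x hn⟩ ⟨n', hle x hn'm⟩ rfl
        have h2 : (φ x).1 ⟨n, hn⟩ ^ k = (φ x).1 ⟨n, hn⟩ := by
          rw [← happ x] at *
          rw [← map_zpow]
          refine Eq.trans (congrArg θ (Subtype.ext ?_)) h1
          show ((⟨n, hn⟩ : N.map (MulAut.conj (x : G)).toMonoidHom) ^ k : G) = n'
          simpa using hk
        have hord : orderOf ((φ x).1 ⟨n, hn⟩) = p := by
          refine (hp.eq_one_or_self_of_dvd _ ?_).resolve_left (fun e => hn1 (orderOf_eq_one_iff.1 e))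
          refine (orderOf_map_dvd _ _).trans ?_
          exact hline x ▸ orderOf_dvd_natCard _
        have h3 : (p : ℤ) ∣ k - 1 := by
          rw [← hord]
          apply orderOf_dvd_iff_zpow_eq_one.2
          rw [zpow_sub_one, h2, mul_inv_cancel]
        have h4 : n ^ (k - 1) = 1 := by
          apply orderOf_dvd_iff_zpow_eq_one.1
          refine dvd_trans (Int.natCast_dvd_natCast.2 ?_) h3
          rw [← Subgroup.orderOf_mk n hn, ← hline x]
          exact orderOf_dvd_natCard _
        rw [zpow_sub_one, hk, mul_inv_eq_one] at h4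
        exact mul_inv_eq_iff_eq_mul.1 h4⟩
    have hg : Function.Injective g := fun a b e => by
      have h : R.symm (fun x => (a x).1) = R.symm (fun x => (b x).1) := congrArg Subtype.val e
      exact funext fun x => Subtype.ext (congrFun (R.symm.injective h) x)
    refine le_trans (le_of_eq ?_) (Nat.card_le_card_of_injective g hg)
    rw [Nat.card_pi]
    refine (Finset.prod_congr rfl fun x _ => ?_).trans
      (by rw [Finset.prod_const, Finset.card_univ, ← Nat.card_eq_fintype_card]) |>.symm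
    haveI := hfin x
    haveI := Fintype.ofFinite ((N.map (MulAut.conj (x : G)).toMonoidHom) →* ℂˣ)
    rw [Nat.card_eq_fintype_card, Fintype.card_subtype_compl, Fintype.card_subtype_eq,
      ← Nat.card_eq_fintype_card, hcardhom]
  · obtain ⟨f, hf⟩ := hbij.2 ⟨w, hw⟩
    -- the components of `w` are conjugate under `W`
    have hfy : ∀ y : W, ∀ x : W, (f (y * x) : G) = y * f x * (y : G)⁻¹ := by
      intro y
      let f' : ∀ x : W, N.map (MulAut.conj (x : G)).toMonoidHom := fun x =>
        ⟨y * f (y⁻¹ * x) * (y : G)⁻¹, by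
          obtain ⟨n, hn, e⟩ := (f (y⁻¹ * x)).2
          refine ⟨n, hn, ?_⟩
          rw [← e]
          simp [mul_assoc]⟩
      have hPy : ∀ z : P, (y : G) * z * (y : G)⁻¹ ∈ P := by
        intro z
        obtain ⟨f₀, rfl⟩ := hbij.2 z
        have : ((lineProd hle f₀ : P) : G) ∈ (⨆ x : W, N.map (MulAut.conj (x : G)).toMonoidHom) :=
          hgen ▸ (lineProd hle f₀).2
        have h2 := mem_map_of_mem (MulAut.conj (y : G)).toMonoidHom this
        rw [Subgroup.map_iSup] at h2
        refine (iSup_le fun x => ?_ : _ ≤ P) h2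
        rw [Coprime.map_conj_map_conj]
        exact hle (y * x)
      let cy : P →* P := MonoidHom.mk' (fun z => ⟨_, hPy z⟩) fun a b => Subtype.ext (by
        show (y : G) * (a * b) * (y : G)⁻¹ = _
        simp [mul_assoc])
      have h' : lineProd hle f' = lineProd hle f := by
        have h1 : lineProd hle f' = cy (lineProd hle f) := by
          show ∏ x, inclusion (hle x) (f' x) = cy (∏ x, inclusion (hle x) (f x))
          rw [map_prod]
          refine Fintype.prod_equiv (Equiv.mulLeft y⁻¹) _ _ fun x => Subtype.ext ?_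
          rfl
        rw [h1, hf]
        exact Subtype.ext (mul_inv_eq_iff_eq_mul.2 (hWw y y.2))
      intro x
      conv_lhs => rw [← hbij.1 h']
      show (y : G) * f (y⁻¹ * (y * x)) * (y : G)⁻¹ = _
      rw [inv_mul_cancel_left]
    -- and they are fixed by `u`
    have hfu : ∀ x : W, u * (f x : G) = f x * u := by
      let f' : ∀ x : W, N.map (MulAut.conj (x : G)).toMonoidHom := fun x =>
        ⟨u * f x * u⁻¹, hUline x u hu _ (f x).2⟩
      let cu : P →* P := MonoidHom.mk' (fun z => ⟨u * z * u⁻¹, Coprime.conj_mem (hPU hu) z.2⟩)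
        fun a b => Subtype.ext (by
          show u * (a * b : G) * u⁻¹ = _
          simp [mul_assoc])
      have h' : lineProd hle f' = lineProd hle f := by
        have h1 : lineProd hle f' = cu (lineProd hle f) := by
          show ∏ x, inclusion (hle x) (f' x) = cu (∏ x, inclusion (hle x) (f x))
          rw [map_prod]
          rfl
        rw [h1, hf]
        exact Subtype.ext (mul_inv_eq_iff_eq_mul.2 huw)
      intro x
      have h := congrArg (fun f : ∀ x : W, N.map (MulAut.conj (x : G)).toMonoidHom => (f x : G))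
        (hbij.1 h')
      exact mul_inv_eq_iff_eq_mul.1 h
    refine ⟨f x, (f x).2, fun e => hw1 ?_, hfu x⟩
    have hall : f = 1 := funext fun y => Subtype.ext (by
      have := hfy (y * x⁻¹) x
      rw [inv_mul_cancel_right, e, mul_one, mul_inv_cancel] at this
      exact this)
    rw [hall, map_one] at hf
    exact congrArg Subtype.val hf.symm

end Split

/-- Peterfalvi (14), the group facts on a side, from `H₀ = 1`. -/
theorem sideFacts_of_bot (hP : Cfsg.IsTypePWith S W₁ U W₂)
    (hq : (Nat.card W₁).Prime) (hp : (Nat.card W₂).Prime) (hk₀ : CoreKernel S U ⊥) :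
    SideFacts S W₁ U W₂ (Nat.card W₂) (Nat.card W₁) := by
  classical
  set P := Cfsg.fittingHallOf S with hPdef
  obtain ⟨H₀, hk, hH₀⟩ : ∃ H₀, CoreKernel S U H₀ ∧ H₀ = ⊥ := ⟨⊥, hk₀, rfl⟩
  obtain ⟨p, hp', hpow, hcard, hW2, hcase⟩ := core_chief hP hq hk
  have hC : ∀ u ∈ U, (u ∈ sectionCent P H₀ ↔ u ∈ centralizer (P : Set G)) := by
    intro u hu
    rw [mem_sectionCent (TypeP.le_normalizer_core S (TypeP.U_le hP hu))
      (hk.normal (TypeP.U_le hP hu)), hH₀, mem_centralizer_iff]
    refine forall₂_congr fun h _ => ?_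
    rw [mem_bot, mul_inv_eq_one, mul_inv_eq_iff_eq_mul, eq_comm]
  have hrel : (sectionCent P H₀).relIndex U = (U ⊓ centralizer (P : Set G)).relIndex U := by
    rw [← inf_relIndex_right, inf_comm]
    congr 1
    ext u
    exact and_congr_right fun hu => hC u hu
  rw [hH₀, relIndex_bot_left] at hW2 hcard
  subst hW2
  have hPcomm : IsMulCommutative P := by
    have h := hk.comm
    rw [hH₀, le_bot_iff, commutator_eq_bot_iff_le_centralizer] at h
    exact ⟨⟨fun a b => Subtype.ext (mem_centralizer_iff.1 (h b.2) a a.2)⟩⟩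
  haveI := hPcomm
  have hPU : U ≤ normalizer (P : Set G) := (TypeP.U_le hP).trans (TypeP.le_normalizer_core S)
  refine ⟨hP, rfl, rfl, hq, hp, hcard, fun h hh => ?_, hPcomm,
    le_bot_iff.1 hk₀.centralizer_le, ?_, ?_, ?_⟩
  · simpa [hH₀] using hpow h hh
  · rcases hcase with hG | hS
    · obtain ⟨F, iF, iFin, f, ψ, σ, -, hsurj, hadd, hzero, heq, -, -, -, hker, -, -, hdvd, hcop, a,
        ha, hgen⟩ := hG
      letI := iF
      haveI := iFin
      have hfi : Function.Bijective f := ⟨fun x y e => by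
        have h1 : f (x * y⁻¹) = 0 := by
          have h2 := hadd (x * y⁻¹) y
          rw [inv_mul_cancel_right, e] at h2
          simpa using h2
        rw [hzero, hH₀, mem_bot] at h1
        exact Subtype.ext (mul_inv_eq_one.1 h1), hsurj⟩
      obtain ⟨hcov, hfree⟩ := galois_covered hPU f hfi ψ heq hadd
        fun u hu => (hC u u.2).1 ((hker u).1 hu)
      refine Or.inl ⟨hrel ▸ hdvd, hrel ▸ hcop, ⟨a, ha, fun b hb => ?_⟩, hfree, ?_⟩
      · obtain ⟨i, hi⟩ := hgen b hb
        exact ⟨i, (hC _ (mul_mem (inv_mem (pow_mem ha i)) hb)).1 hi⟩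
      · haveI : Finite (P →* ℂˣ) := Nat.finite_of_card_ne_zero
          (by rw [card_hom_units]; exact Nat.card_pos.ne')
        haveI := Fintype.ofFinite (P →* ℂˣ)
        rw [hcov, Set.coe_ofPred, Nat.card_eq_fintype_card, Fintype.card_subtype_compl,
          Fintype.card_subtype_eq, ← Nat.card_eq_fintype_card, card_hom_units, hcard]
    · obtain ⟨N, a, -, -, hUN, hNcard, hgen, ha1, ha2, hapow, haidx⟩ := hS
      rw [hH₀, relIndex_bot_left] at hNcard
      exact Or.inr ⟨⟨a, ha1, ha2, fun b hb => (hC _ (pow_mem hb a)).1 (hapow b hb), hrel ▸ haidx⟩,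
        (split_covered hPU hP.U_normal hUN hp hNcard hgen hcard).1⟩
  · intro u hu huW
    obtain ⟨⟨w, hw⟩, hw1⟩ := Subgroup.ne_bot_iff_exists_ne_one.1
      (fun e : W₂ = ⊥ => hp.ne_one (by rw [e, card_bot]))
    have hw1' : w ≠ 1 := fun e => hw1 (Subtype.ext e)
    have hc : u * w = w * u := (mem_centralizer_iff.1 huW w hw).symm
    rcases hcase with hG | hS
    · obtain ⟨F, iF, iFin, f, ψ, σ, -, hsurj, hadd, hzero, heq, -, -, -, hker, -, -, -, -, -⟩ := hG
      letI := iF
      haveI := iFin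
      have h1 := heq ⟨u, hu⟩ ⟨w, TypeP.W₂_le_core hP hw⟩ ⟨w, TypeP.W₂_le_core hP hw⟩
        (by rw [hc, mul_inv_cancel_right])
      have hne : f ⟨w, TypeP.W₂_le_core hP hw⟩ ≠ 0 := fun e => hw1' (by
        rw [hzero, hH₀, mem_bot] at e; exact e)
      exact (hC u hu).1 ((hker ⟨u, hu⟩).1 (Units.ext ((mul_eq_right₀ hne).1 h1.symm)))
    · obtain ⟨N, a, -, -, hUN, hNcard, hgen, -⟩ := hS
      rw [hH₀, relIndex_bot_left] at hNcard
      exact (split_covered hPU hP.U_normal hUN hp hNcard hgen hcard).2 w (TypeP.W₂_le_core hP hw)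
        hw1' (fun y hy => TypeP.W₂_commute hP hy hw) u hu hc
  · intro hUab
    refine (TypeP.core_sup_compl hP).ge.trans (sup_le ?_ (sup_le ?_ ?_))
    · exact fun h hh => TypeP.centralizer_le_normalizer'
        (mem_centralizer_iff.2 fun c hc => (mem_centralizer_iff.1 hc.2 h hh).symm)
    · exact fun v hv => TypeP.centralizer_le_normalizer'
        (mem_centralizer_iff.2 fun c hc => congrArg Subtype.val
          (hUab.is_comm.comm (⟨c, hc.1⟩ : U) ⟨v, hv⟩))
    · rw [le_normalizer_iff]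
      intro y hy c hc
      refine ⟨Coprime.conj_mem (hP.U_normal hy) hc.1, mem_centralizer_iff.2 fun h hh => ?_⟩
      have h1 := mem_centralizer_iff.1 hc.2 (y⁻¹ * h * y)
        (Coprime.conj_mem' (TypeP.le_normalizer_core S (TypeP.W₁_le hP hy)) hh)
      calc h * (y * c * y⁻¹) = y * ((y⁻¹ * h * y) * c) * y⁻¹ := by group
        _ = y * c * y⁻¹ * h := by rw [h1]; group

/-- Peterfalvi (14), the group facts on a side of Type II. -/
theorem sideFacts (hP : Cfsg.IsTypePWith S W₁ U W₂) (hU : U ≠ ⊥)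
    (hq : (Nat.card W₁).Prime) (hp : (Nat.card W₂).Prime) {L H : Subgroup G}
    (hL : OverNormalizer S U L H) :
    SideFacts S W₁ U W₂ (Nat.card W₂) (Nat.card W₁) := by
  obtain ⟨H₀, hk⟩ := exists_coreKernel hP hU
  exact sideFacts_of_bot hP hq hp (coreKernel_eq_bot hP hU hq hp hL hk ▸ hk)

/-- The group facts on a side whose core has the order `|W₂| ^ |W₁|`. -/
theorem sideFacts_of_card (hP : Cfsg.IsTypePWith S W₁ U W₂) (hU : U ≠ ⊥)
    (hq : (Nat.card W₁).Prime) (hp : (Nat.card W₂).Prime)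
    (hcard : Nat.card (Cfsg.fittingHallOf S) = Nat.card W₂ ^ Nat.card W₁) :
    SideFacts S W₁ U W₂ (Nat.card W₂) (Nat.card W₁) := by
  obtain ⟨H₀, hk⟩ := exists_coreKernel hP hU
  obtain ⟨p, hp', -, hrel, hW2, -⟩ := core_chief hP hq hk
  have hpe : p = Nat.card W₂ :=
    (Nat.prime_dvd_prime_iff_eq hp' hp).1 (hW2 ▸ relIndex_dvd_card _ _)
  have h0 : H₀ = ⊥ := by
    have h1 := relIndex_mul_relIndex ⊥ H₀ (Cfsg.fittingHallOf S) bot_le hk.le
    rw [relIndex_bot_left, relIndex_bot_left, hrel, hcard, hpe,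
      mul_eq_right₀ (pow_ne_zero _ hp.ne_zero)] at h1
    exact card_eq_one.1 h1
  exact sideFacts_of_bot hP hq hp (h0 ▸ hk)

end Cfsg.Agent.OddOrder.PF14
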