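import Cfsg.Agent.OddOrder.PF14.Num
import Cfsg.Agent.OddOrder.PF14.SideGroup
import Cfsg.Agent.OddOrder.PF10.CoverMass

/-!
# The numerical fields of one side from the group facts
-/

set_option autoImplicit false
set_option linter.style.haveILetI false

namespace Cfsg.Agent.OddOrder.PF14

open Subgroup

universe u

variable {G : Type u} [Group G] [Finite G] {S W₁ U W₂ : Subgroup G} {p q : ℕ}

theorem SideFacts.finite_hom (F : SideFacts S W₁ U W₂ p q) :
    Finite (Cfsg.fittingHallOf S →* ℂˣ) ∧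
      Nat.card (Cfsg.fittingHallOf S →* ℂˣ) = p ^ q := by
  letI : CommGroup (Cfsg.fittingHallOf S) :=
    { (inferInstance : Group (Cfsg.fittingHallOf S)) with mul_comm := F.comm_P.is_comm.comm }
  have h : Nat.card (Cfsg.fittingHallOf S →* ℂˣ) = p ^ q :=
    (card_hom_units _).trans F.card_P
  exact ⟨Nat.finite_of_card_ne_zero (h.trans_ne (pow_ne_zero _ F.p_prime.ne_zero)), h⟩

theorem SideFacts.card_covered_lt (F : SideFacts S W₁ U W₂ p q) :
    Nat.card (coveredChars (Cfsg.fittingHallOf S) U) + 1 ≤ p ^ q := by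
  obtain ⟨hfin, h⟩ := F.finite_hom
  haveI := hfin
  rw [← h,
    ← Set.ncard_univ (Cfsg.fittingHallOf S →* ℂˣ), Nat.card_coe_set_eq]
  refine Nat.succ_le_of_lt (Set.ncard_lt_ncard ?_ Set.finite_univ)
  rw [Set.ssubset_univ_iff]
  exact fun e => (e ▸ Set.mem_univ (1 : Cfsg.fittingHallOf S →* ℂˣ) :
    (1 : Cfsg.fittingHallOf S →* ℂˣ) ∈ coveredChars (Cfsg.fittingHallOf S) U).1 rfl

/-- `|U| ≡ 1` modulo `q`. -/
theorem SideFacts.card_U_mod (F : SideFacts S W₁ U W₂ p q) : Nat.card U % q = 1 := by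
  have h := PF10.card_dvd_card_sub_one F.hP.U_normal fun x hx hx1 =>
    eq_bot_iff.2 fun u hu => mem_bot.2 (TypeP.fpf_U F.hP hx hx1 hu.1
      (mem_centralizer_singleton_iff.1 hu.2).symm)
  rw [F.q_eq] at h
  obtain ⟨k, hk⟩ := h
  have : 0 < Nat.card U := Nat.card_pos
  rw [show Nat.card U = 1 + q * k by omega, Nat.add_mul_mod_self_left,
    Nat.one_mod_eq_one.2 F.q_prime.ne_one]

/-- The numerical data of a side with `C_U(S_F) = 1`. -/
theorem SideFacts.sideNum (F : SideFacts S W₁ U W₂ p q) (hodd : Odd (Nat.card G))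
    (hC : U ⊓ centralizer (Cfsg.fittingHallOf S : Set G) = ⊥) (hU : U ≠ ⊥) :
    SideNum p q (Nat.card U)
      ((Nat.card (coveredChars (Cfsg.fittingHallOf S) U) : ℚ) + 1) := by
  have huodd : Odd (Nat.card U) := hodd.of_dvd_nat (card_subgroup_dvd_card U)
  refine ⟨?_, F.card_U_mod, huodd, (one_lt_card_iff_ne_bot U).2 hU⟩
  have h := F.cases
  rw [hC, relIndex_bot_left] at h
  rcases h with ⟨h1, -, -, -, h5⟩ | ⟨⟨a, ha, ha1, -, ha2⟩, h2⟩
  · refine Or.inl ⟨h1, ?_⟩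
    rw [h5, Nat.cast_sub (Nat.one_le_pow _ _ F.p_prime.pos)]
    push_cast
    ring
  · refine Or.inr ⟨?_, ?_, ?_⟩
    · have h' := (Nat.cast_le (α := ℚ)).2 h2
      push_cast [Nat.cast_sub (show 1 ≤ p from F.p_prime.one_le)] at h'
      linarith
    · exact_mod_cast F.card_covered_lt
    · obtain ⟨k, b, hb, rfl⟩ := Nat.exists_eq_two_pow_mul_odd (show a ≠ 0 by omega)
      refine ⟨b, hb, (dvd_mul_left _ _).trans ha, ?_⟩
      rw [mul_pow] at ha2
      refine Nat.Coprime.dvd_of_dvd_mul_left ?_ ha2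
      exact ((Nat.coprime_two_right.2 huodd).pow_right _).pow_right _

/-- `p ^ q * q ^ p ≤ |G|`. -/
theorem pow_mul_pow_le_card {T : Subgroup G} (hpq : p ≠ q) (hp : p.Prime) (hq : q.Prime)
    (hS : Nat.card (Cfsg.fittingHallOf S) = p ^ q) (hT : Nat.card (Cfsg.fittingHallOf T) = q ^ p) :
    p ^ q * q ^ p ≤ Nat.card G := by
  refine Nat.le_of_dvd Nat.card_pos (Nat.Coprime.mul_dvd_of_dvd_of_dvd ?_ ?_ ?_)
  · exact Nat.Coprime.pow _ _ ((Nat.coprime_primes hp hq).2 hpq)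
  · exact hS ▸ card_subgroup_dvd_card _
  · exact hT ▸ card_subgroup_dvd_card _

end Cfsg.Agent.OddOrder.PF14
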