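import Cfsg.Agent.OddOrder.PF14.Blocks
import Cfsg.Agent.OddOrder.PF14.CTrivialArith
import Cfsg.Agent.OddOrder.PF14.CTrivialBudget
import Cfsg.Agent.OddOrder.PF14.CTrivialCore
import Cfsg.Agent.OddOrder.PF14.CTrivialInner
import Cfsg.Agent.OddOrder.PF14.CTrivialInt
import Cfsg.Agent.OddOrder.PF14.CTrivialSums
import Cfsg.Agent.OddOrder.PF14.NumGroup

/-!
# Peterfalvi section 14: `C_U(S_F) = 1`

If `C = C_U(S_F) ≠ 1` the budget of the test character of the side `K = P C` gives `U = L_F` and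
vanishing coefficients on the blocks clear of that side (`exists_bad`); then `η₀₁` contradicts the
cover identity (`cover_false_one`, `cover_false_two`).
-/

set_option autoImplicit false
set_option linter.unusedSectionVars false
set_option linter.style.haveILetI false

namespace Cfsg.Agent.OddOrder.PF14

open Subgroup
open Cfsg.Agent Cfsg.Agent.OddOrder Cfsg.Agent.CharBasic
open scoped ComplexConjugate

universe u

variable {G : Type u} [Group G] [Fintype G] {S T U V W₁ W₂ L E : Subgroup G}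

local notation "P[" S "]" => Cfsg.fittingHallOf S
local notation "C[" S ", " U "]" => (U ⊓ Subgroup.centralizer (Cfsg.fittingHallOf S : Set _))

/-- The budget for a block with the embedding of `C`. -/
theorem budget_of_cblock (d : SideData S W₁ U W₂) (D : Supp S U W₁ W₂ L E) (hC : C[S, U] ≠ ⊥)
    {χ : (↥(W₁ ⊔ W₂) →* ℂˣ) → (G → ℂ)} (hχ : Cfsg.IsCyclicTIFamily W₁ W₂ χ)
    {θ : ↥d.sideK.K →* ℂˣ} (hg : d.sideK.Good θ)
    {ι : Type} [Fintype ι] [DecidableEq ι] (B : ι → Block G)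
    (hd : ∀ Y Z, Y ≠ Z → Disjoint (B Y).Ω (B Z).Ω) (X : ι)
    (j : ↥C[S, U] →* (B X).L) (hj : Function.Injective j) (hcb : CBlock S W₁ U W₂ (B X) j)
    (hH : ∀ c, j c ∈ (B X).H)
    (hcount : ∀ a : ↥C[S, U], a ≠ 1 →
      Nat.card {x : (B X).L // x * j a * x⁻¹ ∈ j.range} = Nat.card W₁ * Nat.card U)
    {w0 : (B X).L} (hord : orderOf w0 = Nat.card W₁) (hw0 : w0 ∉ (B X).H)
    (hnorm : ∀ c, ∃ c', w0 * j c * w0⁻¹ = j c')
    (he : (B X).e = (Cfsg.fittingHall L).index)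
    (hh : Nat.card (B X).H = Nat.card (Cfsg.fittingHallOf L))
    (hclear : ∀ Y, Y ≠ X → d.sideK.Clear (B Y)) :
    49 ≤ Nat.card U ∧ (3 * Nat.card W₁ : ℚ) * (B X).w ≤ 1 ∧
      ∀ Y, Y ≠ X → Side.coefB (D := d.sideK) χ (B Y) hχ hg = 0 := by
  classical
  set q := Nat.card W₁ with hq
  set c := Nat.card ↥C[S, U] with hc
  set s := W₁.relIndex E with hs
  have hqp : q.Prime := D.q_prime
  have hq3 : 3 ≤ q := by
    have := hqp.two_le
    obtain ⟨m, hm⟩ : Odd q := D.odd.of_dvd_nat (card_subgroup_dvd_card _)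
    omega
  have hc7 : 7 ≤ c := by
    obtain ⟨i, hi⟩ := D.W₁_dvd_card_C_sub_one hC
    obtain ⟨m, hm⟩ : Odd c := D.odd.of_dvd_nat (card_subgroup_dvd_card _)
    have h2 : 1 < c := (one_lt_card_iff_ne_bot _).2 hC
    obtain ⟨n, hn⟩ : Odd q := D.odd.of_dvd_nat (card_subgroup_dvd_card _)
    have hi' : c - 1 = q * i := hi
    rcases i with _ | _ | i
    · omega
    · omega
    · rw [show q * (i + 1 + 1) = 2 * q + q * i by ring] at hi'
      omega
  have hcu : c * c ≤ Nat.card U := (D.card_C_sq_le hC).1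
  have he' : (B X).e = q * s := by rw [he, D.index_eq, ← D.card_E]
  have hu : d.sideK.H.relIndex d.sideK.S * c = Nat.card U := by
    rw [d.relIndex_sideK, hc, relIndex_mul_card inf_le_left]
  choose k hk using fun ξ : {ξ // ξ ∈ (B X).S} => (B X).exists_sum_eq_mul j ξ.2
  let k' : ((B X).L → ℂ) → ℤ := fun ξ => if h : ξ ∈ (B X).S then k ⟨ξ, h⟩ else 0
  have hk' : ∀ ξ ∈ (B X).S, ∑ a : ↥C[S, U], ξ (j a) = (c : ℂ) * k' ξ := fun ξ hξ => by
    simp only [k', dif_pos hξ]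
    exact hk ⟨ξ, hξ⟩
  have hc0 : (c : ℂ) ≠ 0 := Nat.cast_ne_zero.2 (by omega)
  have hq0 : (q : ℂ) ≠ 0 := Nat.cast_ne_zero.2 hqp.ne_zero
  have hk0 : (q : ℤ) ∣ k' (B X).xi0 := by
    obtain ⟨k₀, hk₀⟩ := (B X).exists_sum_xi0_eq_mul j hqp hH hord hw0 hnorm
    rw [hk' _ (B X).xi0_mem, mul_assoc] at hk₀
    refine ⟨k₀, ?_⟩
    exact_mod_cast mul_left_cancel₀ hc0 hk₀
  have hinner : ∀ ξ ∈ (B X).S, Cfsg.classInner (d.sideK.Gam χ θ) ((B X).phi ξ) -
        ((B X).deg ξ : ℂ) * Cfsg.classInner (d.sideK.Gam χ θ) (B X).phi0 =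
      ((k' ξ : ℂ) - ((B X).deg ξ : ℂ) * (k' (B X).xi0 : ℂ)) / (q : ℂ) := fun ξ hξ => by
    rw [d.Gam_phi_C hcb hg hχ hξ, hk' ξ hξ, hk' _ (B X).xi0_mem]
    simp only [map_mul, Complex.conj_natCast, map_intCast, ← hc, ← hq]
    field_simp
    try ring
  have hsq : (c : ℚ) ^ 2 * ∑ ξ ∈ (B X).S, (k' ξ : ℚ) ^ 2 =
      ((B X).e : ℚ) * ((Nat.card (B X).H : ℚ) - (c : ℚ) ^ 2) +
        ((c : ℚ) - 1) * (q : ℚ) * Nat.card U := by
    have h := sum_normSq j hj hH (fun a ha => hcount a ha)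
    rw [Finset.sum_congr rfl fun ξ hξ => show Complex.normSq (∑ a : ↥C[S, U], ξ (j a)) =
        (c : ℝ) ^ 2 * (k' ξ : ℝ) ^ 2 by
      rw [hk' ξ hξ, map_mul, Complex.normSq_natCast, Complex.normSq_intCast]
      ring, ← Finset.mul_sum] at h
    refine (Rat.cast_inj (α := ℝ)).1 ?_
    push_cast
    exact h
  have hdk : (c : ℚ) * ∑ ξ ∈ (B X).S, ((B X).deg ξ : ℚ) * (k' ξ : ℚ) =
      (Nat.card (B X).H : ℚ) - c := by
    have h := sum_deg_mul j hj hH
    rw [Finset.sum_congr rfl fun ξ hξ => show ((B X).deg ξ : ℂ) * ∑ a : ↥C[S, U], ξ (j a) =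
        (c : ℂ) * (((B X).deg ξ : ℂ) * (k' ξ : ℂ)) by rw [hk' ξ hξ]; ring, ← Finset.mul_sum] at h
    refine (Rat.cast_inj (α := ℂ)).1 ?_
    push_cast
    exact h
  obtain ⟨h1, h2⟩ := Side.budget_forces (D := d.sideK) (χ := χ) B hd d.regular_sideK hχ hg X
    hcb.avoid hclear (c := c) (u := Nat.card U) (s := s) k' hinner hk0 hsq hdk he' hu hc7
    (D.two_mul_relIndex_le hC) hcu (hh ▸ Nat.le_of_dvd Nat.card_pos (card_dvd_of_le D.overN.U_le))
  have hUH : U = Cfsg.fittingHallOf L := eq_of_le_of_card_ge D.overN.U_le (hh ▸ h1).le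
  have hs3 : 3 ≤ s := D.three_le_relIndex_of_U_eq hC hUH
  refine ⟨le_trans (Nat.mul_le_mul hc7 hc7) hcu, ?_, h2⟩
  have hle : 3 * q * (B X).F ≤ (B X).F * (B X).e + 1 := by
    rw [he']
    have := Nat.mul_le_mul_left ((B X).F * q) hs3
    nlinarith
  rw [Block.w, ← mul_div_assoc, div_le_one (by positivity)]
  exact_mod_cast hle

theorem parts_disjoint (d : SideData S W₁ U W₂) (d' : SideData T W₂ V W₁) :
    Disjoint d.sideK.part d'.sideK.part := by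
  refine Set.disjoint_left.2 ?_
  rintro _ ⟨x, k, hk, hkN, rfl⟩ ⟨y, t, ht, -, e⟩
  have h1 : Nat.card W₂ ∣ orderOf k := dvd_orderOf_of_mem_sup d.facts.p_prime d.facts.pow_P
    inf_le_right (d.core_inf_N d.pair_sup) hk hkN
  have h2 : orderOf k = orderOf t := by
    have h3 := congrArg orderOf e
    rwa [← MulAut.conj_apply, ← MulAut.conj_apply, MulEquiv.orderOf_eq, MulEquiv.orderOf_eq] at h3
  exact d.facts.p_prime.ne_one (Nat.Coprime.eq_one_of_dvd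
    (coprime_derived_p d'.hP (d'.K_le_derived d'.pair_sup ht)).symm (h2 ▸ h1))

theorem eight_mul_le (d' : SideData T W₂ V W₁) (hq : 3 ≤ Nat.card W₁) (hp : 3 ≤ Nat.card W₂) :
    8 * Nat.card W₁ ≤ 3 * ((d'.theta d'.pair_sup).card + 1) := by
  refine le_trans ?_ (Nat.mul_le_mul_left 3 d'.pred_pow_le)
  refine le_trans ?_ (Nat.mul_le_mul_left 3 (Nat.pow_le_pow_right (by omega) hp))
  obtain ⟨a, ha⟩ : ∃ a, Nat.card W₁ = a + 3 := ⟨Nat.card W₁ - 3, by omega⟩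
  rw [ha, show a + 3 - 1 = a + 2 by omega]
  nlinarith [Nat.zero_le (a ^ 3), Nat.zero_le (a ^ 2)]

theorem card_G_ge (d : SideData S W₁ U W₂) (d' : SideData T W₂ V W₁) :
    81 * Nat.card W₁ ≤ Nat.card G := by
  have hne : Nat.card W₂ ≠ Nat.card W₁ := fun e => d.facts.q_prime.ne_one
    (Nat.eq_one_of_dvd_coprimes d.coprime_W₂_W₁ (e ▸ dvd_rfl) dvd_rfl)
  refine le_trans ?_ (pow_mul_pow_le_card hne d.facts.p_prime d.facts.q_prime d.facts.card_P
    d'.facts.card_P)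
  have h3 : ∀ W : Subgroup G, (Nat.card W).Prime → 3 ≤ Nat.card W := fun W h => by
    have := h.two_le
    obtain ⟨m, hm⟩ : Odd (Nat.card W) := d.odd.of_dvd_nat (card_subgroup_dvd_card _)
    omega
  have hp := h3 W₂ d.facts.p_prime
  have hq := h3 W₁ d.facts.q_prime
  have a1 : 3 ^ 3 ≤ Nat.card W₂ ^ Nat.card W₁ :=
    le_trans (Nat.pow_le_pow_left hp 3) (Nat.pow_le_pow_right (by omega) hq)
  have a2 : Nat.card W₁ * 3 ^ 2 ≤ Nat.card W₁ ^ Nat.card W₂ := by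
    refine le_trans ?_ (Nat.pow_le_pow_right (by omega) hp)
    rw [show Nat.card W₁ ^ 3 = Nat.card W₁ * Nat.card W₁ ^ 2 by ring]
    exact Nat.mul_le_mul_left _ (Nat.pow_le_pow_left hq 2)
  exact le_trans (by omega) (Nat.mul_le_mul a1 a2)

theorem three_le_card (d : SideData S W₁ U W₂) : 3 ≤ Nat.card W₁ ∧ 3 ≤ Nat.card W₂ := by
  have h3 : ∀ W : Subgroup G, (Nat.card W).Prime → 3 ≤ Nat.card W := fun W h => by
    have := h.two_le
    obtain ⟨m, hm⟩ : Odd (Nat.card W) := d.odd.of_dvd_nat (card_subgroup_dvd_card _)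
    omega
  exact ⟨h3 W₁ d.facts.q_prime, h3 W₂ d.facts.p_prime⟩

variable (hG : Cfsg.IsMinSimpleOddOrder G) (F : BG16.SectionFacts G)
  (hfrob : ∀ L : Subgroup G, IsCoatom L → IsTypeI L → ∀ x ∈ Cfsg.fittingHallOf L, x ≠ 1 →
    L ⊓ centralizer ({x} : Set G) ≤ Cfsg.fittingHallOf L)
  (hcoh : ∀ L : Subgroup G, IsCoatom L → IsTypeI L →
    letI := Fintype.ofFinite L
    Cfsg.IsCoherent (Cfsg.inducedIrrAbove (Cfsg.fittingHall L) ⊥) {1}ᶜ
      (Cfsg.dadeIsometry (setA L) L (Cfsg.supportR L)))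

include hG F hfrob hcoh

/-- The one class of Type I that is not clear of `K = P C`, and what the budget gives, for `blocksI`
extended by any blocks. -/
theorem exists_bad (hS : IsCoatom S) (hT : IsCoatom T) (hSP : Cfsg.IsTypePWith S W₁ U W₂)
    (hTP : Cfsg.IsTypePWith T W₂ V W₁) (hII : Cfsg.IsOfTypeII S) (d : SideData S W₁ U W₂)
    (hC : C[S, U] ≠ ⊥) :
    ∃ X : Fin (numI G), 49 ≤ Nat.card U ∧
      (3 * Nat.card W₁ : ℚ) * (blocksI hG F hfrob hcoh X).w ≤ 1 ∧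
      (∀ Y, Y ≠ X → d.sideK.Clear (blocksI hG F hfrob hcoh Y)) ∧
      (∀ (χ : (↥(W₁ ⊔ W₂) →* ℂˣ) → (G → ℂ)) (hχ : Cfsg.IsCyclicTIFamily W₁ W₂ χ)
        (θ : ↥d.sideK.K →* ℂˣ) (hg : d.sideK.Good θ), ∀ Y, Y ≠ X →
          Side.coefB (D := d.sideK) χ (blocksI hG F hfrob hcoh Y) hχ hg = 0) ∧
      (∀ (hIII : Cfsg.IsOfTypeIII T) (χ : (↥(W₁ ⊔ W₂) →* ℂˣ) → (G → ℂ))
        (hχ : Cfsg.IsCyclicTIFamily W₁ W₂ χ) (θ : ↥d.sideK.K →* ℂˣ) (hg : d.sideK.Good θ),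
        (∀ Y, Y ≠ Sum.inl X → d.sideK.Clear (blocksIII hG F hfrob hcoh hT hTP hIII Y)) ∧
        ∀ Y, Y ≠ Sum.inl X →
          Side.coefB (D := d.sideK) χ (blocksIII hG F hfrob hcoh hT hTP hIII Y) hχ hg = 0) := by
  classical
  obtain ⟨L, E, D⟩ := exists_supp hG F hfrob hS hT hSP hTP hII
  obtain ⟨X, g, κ, hinj, hL, hκ, hcb, hΩ, he, hh, hdis⟩ :=
    exists_cblock_blocksI hG F hfrob hcoh hS hSP D hC
  obtain ⟨hH, w0, hord, hw0, hnorm⟩ := exists_w0 hG F hfrob hcoh D hL hκ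
  have hclear : ∀ Y, Y ≠ X → d.sideK.Clear (blocksI hG F hfrob hcoh Y) := fun Y hY =>
    blocksI_clear_sideK hG F hfrob hcoh hS hSP D d hC Y (hdis Y hY)
  have hj : Function.Injective (κ.comp (inclusion (inf_le_left : C[S, U] ≤ U))) :=
    hinj.comp (inclusion_injective _)
  have hcount := count_conj_C D hC hL κ hκ
  obtain ⟨χ₀, hχ₀⟩ := PF3.exists_family (G := G) hSP.selfNormalizing
    (hG.1.of_dvd_nat (W₁ ⊔ W₂).card_subgroup_dvd_card)
  obtain ⟨θ₀, hg₀⟩ := d.regular_sideK.exists_good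
  obtain ⟨hu, hw, -⟩ := budget_of_cblock d D hC hχ₀ hg₀ (blocksI hG F hfrob hcoh)
    (fun Y Z h => blocksI_disjoint hG F hfrob hcoh h) X _ hj hcb (fun c => hH _) hcount hord hw0
    hnorm he hh hclear
  refine ⟨X, hu, hw, hclear, fun χ hχ θ hg => (budget_of_cblock d D hC hχ hg
    (blocksI hG F hfrob hcoh) (fun Y Z h => blocksI_disjoint hG F hfrob hcoh h) X _ hj hcb
    (fun c => hH _) hcount hord hw0 hnorm he hh hclear).2.2, fun hIII χ hχ θ hg => ?_⟩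
  have hclear' : ∀ Y, Y ≠ Sum.inl X →
      d.sideK.Clear (blocksIII hG F hfrob hcoh hT hTP hIII Y) := by
    rintro (Y | Y) hY
    · exact hclear Y fun e => hY (congrArg Sum.inl e)
    · exact blockT_clear_sideK hG F hfrob hS hSP D d hC hT hTP hIII
  exact ⟨hclear', (budget_of_cblock d D hC hχ hg (blocksIII hG F hfrob hcoh hT hTP hIII)
    (fun Y Z h => blocksIII_disjoint hG F hfrob hcoh hT hTP hIII h) (Sum.inl X) _ hj hcb
    (fun c => hH _) hcount hord hw0 hnorm he hh hclear').2.2⟩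

open scoped Classical in
/-- `C ≠ 1` on the side of `S` and `C = 1` on that of `T`. -/
theorem false_one (d : SideData S W₁ U W₂) (d' : SideData T W₂ V W₁)
    (hCT : C[T, V] = ⊥)
    {ι : Type} [Fintype ι] [DecidableEq ι] (B : ι → Block G)
    (hd : ∀ Y Z, Y ≠ Z → Disjoint (B Y).Ω (B Z).Ω) (X : ι)
    (hu : 49 ≤ Nat.card U) (hw : (3 * Nat.card W₁ : ℚ) * (B X).w ≤ 1)
    {χ : (↥(W₁ ⊔ W₂) →* ℂˣ) → (G → ℂ)} (hχ : Cfsg.IsCyclicTIFamily W₁ W₂ χ)
    {θ : ↥d.sideK.K →* ℂˣ} (hg : d.sideK.Good θ)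
    (hS : ∀ Y, Y ≠ X → d.sideK.Clear (B Y)) (hT : ∀ Y, d'.sideK.Clear (B Y))
    (h0 : ∀ Y, Y ≠ X → Side.coefB (D := d.sideK) χ (B Y) hχ hg = 0)
    (hcover : (1 : ℚ) / (Nat.card W₂ : ℕ) + 1 / (Nat.card W₁ : ℕ)
        - 1 / ((Nat.card W₂ : ℕ) * (Nat.card W₁ : ℕ)) =
      ∑ X, ((B X).F : ℚ) / ((B X).F * (B X).e + 1) +
        (1 - 1 / ((Nat.card W₂ : ℕ) : ℚ) ^ Nat.card W₁) /
          ((Nat.card U : ℕ) * (Nat.card W₁ : ℕ)) +
        (1 - 1 / ((Nat.card W₁ : ℕ) : ℚ) ^ Nat.card W₂) /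
          ((Nat.card V : ℕ) * (Nat.card W₂ : ℕ)) + 1 / (Nat.card G : ℕ)) : False := by
  obtain ⟨hq3, hp3⟩ := three_le_card d
  have h := eta01_cover d d' hχ hg B {X} hd (fun Y hY => hS Y (by simpa using hY))
    (fun Y _ => hT Y) (parts_disjoint d d') (fun Y hY => h0 Y (by simpa using hY)) hcover
  have e : C[T, V].relIndex V = Nat.card V := by rw [hCT, relIndex_bot_left]
  rw [Finset.sum_singleton, d.relIndex_sideK, d'.relIndex_sideK, e] at h
  exact CTriv.cover_false_one hp3 hq3 hu Nat.card_pos d.mul_pred_le (Nat.succ_pos _)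
    (eight_mul_le d' hq3 hp3) (card_G_ge d d') hw h

open scoped Classical in
/-- `C ≠ 1` on both sides, `q < p`. -/
theorem false_two (d : SideData S W₁ U W₂) (d' : SideData T W₂ V W₁)
    (hqp : Nat.card W₁ < Nat.card W₂) (hCT : C[T, V] ≠ ⊥)
    {ι : Type} [Fintype ι] [DecidableEq ι] (B : ι → Block G)
    (hd : ∀ Y Z, Y ≠ Z → Disjoint (B Y).Ω (B Z).Ω) (X M : ι)
    (hu : 49 ≤ Nat.card U) (hw : (3 * Nat.card W₁ : ℚ) * (B X).w ≤ 1)
    (hwM : (3 * Nat.card W₂ : ℚ) * (B M).w ≤ 1)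
    {χ : (↥(W₁ ⊔ W₂) →* ℂˣ) → (G → ℂ)} (hχ : Cfsg.IsCyclicTIFamily W₁ W₂ χ)
    {θ : ↥d.sideK.K →* ℂˣ} (hg : d.sideK.Good θ)
    (hS : ∀ Y, Y ≠ X → d.sideK.Clear (B Y)) (hT : ∀ Y, Y ≠ M → d'.sideK.Clear (B Y))
    (h0 : ∀ Y, Y ≠ X → Side.coefB (D := d.sideK) χ (B Y) hχ hg = 0)
    (hcover : (1 : ℚ) / (Nat.card W₂ : ℕ) + 1 / (Nat.card W₁ : ℕ)
        - 1 / ((Nat.card W₂ : ℕ) * (Nat.card W₁ : ℕ)) =
      ∑ X, ((B X).F : ℚ) / ((B X).F * (B X).e + 1) +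
        (1 - 1 / ((Nat.card W₂ : ℕ) : ℚ) ^ Nat.card W₁) /
          ((Nat.card U : ℕ) * (Nat.card W₁ : ℕ)) +
        (1 - 1 / ((Nat.card W₁ : ℕ) : ℚ) ^ Nat.card W₂) /
          ((Nat.card V : ℕ) * (Nat.card W₂ : ℕ)) + 1 / (Nat.card G : ℕ)) : False := by
  obtain ⟨hq3, hp3⟩ := three_le_card d
  have h := eta01_cover d d' hχ hg B {X, M} hd
    (fun Y hY => hS Y fun e => hY (by simp [e])) (fun Y hY => hT Y fun e => hY (by simp [e]))
    (parts_disjoint d d') (fun Y hY => h0 Y fun e => hY (by simp [e])) hcover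
  rw [d.relIndex_sideK, d'.relIndex_sideK] at h
  have hw0 : ∀ Y, (0 : ℚ) ≤ (B Y).w := fun Y => by rw [Block.w]; positivity
  have hsum : ∑ Y ∈ ({X, M} : Finset ι), (B Y).w ≤ (B X).w + (B M).w := by
    by_cases e : X = M
    · subst e
      simp [hw0 X]
    · rw [Finset.sum_pair e]
  have hvb : 1 ≤ C[T, V].relIndex V := Nat.pos_of_ne_zero Subgroup.FiniteIndex.index_ne_zero
  have hv : 2 * C[T, V].relIndex V ≤ Nat.card V := by
    rw [← relIndex_mul_card (inf_le_left : C[T, V] ≤ V), mul_comm]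
    exact Nat.mul_le_mul_left _ ((one_lt_card_iff_ne_bot _).2 hCT)
  refine CTriv.cover_false_two (DT := (d'.theta d'.pair_sup).card + 1) hqp (d.odd.of_dvd_nat (card_subgroup_dvd_card _))
    (d.odd.of_dvd_nat (card_subgroup_dvd_card _)) hq3 hu hvb hv d.mul_pred_le (Nat.succ_pos _)
    (by have := eight_mul_le d' hq3 hp3; omega) (card_G_ge d d') hw hwM (hw0 M) (h.trans ?_)
  simp only [add_le_add_iff_right]
  exact hsum

/-- Peterfalvi section 14: `C = 1` on a side of Type II. -/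
theorem core_centralizer_eq_bot (hS : IsCoatom S) (hT : IsCoatom T)
    (hSP : Cfsg.IsTypePWith S W₁ U W₂) (hTP : Cfsg.IsTypePWith T W₂ V W₁)
    (hII : Cfsg.IsOfTypeII S) (hor : Cfsg.IsOfTypeII T ∨ Cfsg.IsOfTypeIII T)
    (d : SideData S W₁ U W₂) (d' : SideData T W₂ V W₁)
    (hIIIC : Cfsg.IsOfTypeIII T → C[T, V] = ⊥) :
    C[S, U] = ⊥ := by
  classical
  by_contra hC
  obtain ⟨X, hu, hw, hclear, h0, hIIIX⟩ := exists_bad hG F hfrob hcoh hS hT hSP hTP hII d hC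
  obtain ⟨χ, hχ⟩ := PF3.exists_family (G := G) hSP.selfNormalizing
    (hG.1.of_dvd_nat (W₁ ⊔ W₂).card_subgroup_dvd_card)
  obtain ⟨θ, hg⟩ := d.regular_sideK.exists_good
  rcases hor with hTII | hIII
  · by_cases hCT : C[T, V] = ⊥
    · exact false_one hG F hfrob hcoh d d' hCT (blocksI hG F hfrob hcoh)
        (fun Y Z h => blocksI_disjoint hG F hfrob hcoh h) X hu hw hχ hg hclear
        (blocksI_clear hG F hfrob hcoh hT hTP d'.sideK rfl rfl
          (by simpa [hCT] using core_subset_sigma hG F hT))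
        (h0 χ hχ θ hg) (cover_blocksI hG F hfrob hcoh hS hT hSP hTP hII d.facts.card_P
          d'.facts.card_P hTII)
    obtain ⟨M, hv, hwM, hclear', h0', -⟩ := exists_bad hG F hfrob hcoh hT hS hTP hSP hTII d' hCT
    rcases lt_trichotomy (Nat.card W₁) (Nat.card W₂) with hlt | he | hlt
    · exact false_two hG F hfrob hcoh d d' hlt hCT (blocksI hG F hfrob hcoh)
        (fun Y Z h => blocksI_disjoint hG F hfrob hcoh h) X M hu hw hwM hχ hg hclear hclear'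
        (h0 χ hχ θ hg) (cover_blocksI hG F hfrob hcoh hS hT hSP hTP hII d.facts.card_P
          d'.facts.card_P hTII)
    · exact d.facts.q_prime.ne_one
        (Nat.eq_one_of_dvd_coprimes d.coprime_W₂_W₁ (he ▸ dvd_rfl) dvd_rfl)
    · obtain ⟨θ', hg'⟩ := d'.regular_sideK.exists_good
      exact false_two hG F hfrob hcoh d' d hlt hC (blocksI hG F hfrob hcoh)
        (fun Y Z h => blocksI_disjoint hG F hfrob hcoh h) M X hv hwM hw (swapFam_isFamily hχ) hg'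
        hclear' hclear (h0' _ (swapFam_isFamily hχ) θ' hg')
        (cover_blocksI hG F hfrob hcoh hT hS hTP hSP hTII d'.facts.card_P d.facts.card_P hII)
  · obtain ⟨hclearS, h0S⟩ := hIIIX hIII χ hχ θ hg
    have hCT := hIIIC hIII
    exact false_one hG F hfrob hcoh d d' hCT (blocksIII hG F hfrob hcoh hT hTP hIII)
      (fun Y Z h => blocksIII_disjoint hG F hfrob hcoh hT hTP hIII h) (Sum.inl X) hu hw hχ hg
      hclearS
      (blocksIII_clearT hG F hfrob hcoh hT hTP hIII d'.sideK rfl rfl (by simp [hCT]))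
      h0S (cover_blocksIII hG F hfrob hcoh hS hT hSP hTP hIII hII d.facts.card_P d'.facts.card_P)

end Cfsg.Agent.OddOrder.PF14
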