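import Cfsg.Agent.OddOrder.PF12.TypeICoherence
import Cfsg.Agent.OddOrder.PF10.CoverInst
import Cfsg.Agent.S1524

/-!
# Peterfalvi section 14: the coherence of the blocks of Type I

Peterfalvi (12.6) for every maximal subgroup of Type I, from the section facts and the Frobenius
property (12.7).
-/

set_option autoImplicit false

namespace Cfsg.Agent.OddOrder.PF14

open Subgroup
open Cfsg.Agent Cfsg.Agent.OddOrder

universe u

variable {G : Type u} [Group G] [Fintype G]

omit [Fintype G] in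
/-- For `L` of Type I the set `A₀(L)` is `A(L)`. -/
theorem setA0_eq_setA_typeI {L : Subgroup G} (hI : IsTypeI L) : setA0 L = setA L := by
  ext a
  exact ⟨fun h => h.elim id fun h' => absurd hI h'.1, fun h => Or.inl h⟩

/-- **Peterfalvi (12.6)** for one maximal subgroup of Type I. -/
theorem typeI_coherent_at (hG : Cfsg.IsMinSimpleOddOrder G) (F : BG16.SectionFacts G)
    (L : Subgroup G) [Fintype L] (hL : IsCoatom L) (hI : IsTypeI L)
    (hfrob : ∀ x ∈ Cfsg.fittingHallOf L, x ≠ 1 →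
      L ⊓ centralizer ({x} : Set G) ≤ Cfsg.fittingHallOf L) :
    (∀ χ ∈ Cfsg.inducedIrrAbove (Cfsg.fittingHall L) ⊥, Cfsg.IsIrrCharacter L χ) ∧
      Cfsg.IsCoherent (Cfsg.inducedIrrAbove (Cfsg.fittingHall L) ⊥) {1}ᶜ
        (Cfsg.dadeIsometry (setA L) L (Cfsg.supportR L)) :=
  haveI := hG.2.1
  PF12.typeI_frobenius_coherent hG.1 L hL (setA0_eq_setA_typeI hI ▸ PF10.dade_of_facts hG F hL)
    (fun H W₁ h1 h2 h3 h4 h5 h6 h7 h8 h9 h10 h11 =>
      Cfsg.Agent.S1524.result H L W₁ (hG.1.of_dvd_nat L.card_subgroup_dvd_card)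
        h1 h2 h3 h4 h5 h6 h7 h8 h9 h10 h11)
    hI hfrob

/-- The input `hcoh` of the blocks of section 14. -/
theorem typeI_coherent (hG : Cfsg.IsMinSimpleOddOrder G) (F : BG16.SectionFacts G)
    (hfrob : ∀ L : Subgroup G, IsCoatom L → IsTypeI L → ∀ x ∈ Cfsg.fittingHallOf L, x ≠ 1 →
      L ⊓ centralizer ({x} : Set G) ≤ Cfsg.fittingHallOf L)
    (L : Subgroup G) (hL : IsCoatom L) (hI : IsTypeI L) :
    letI := Fintype.ofFinite L
    Cfsg.IsCoherent (Cfsg.inducedIrrAbove (Cfsg.fittingHall L) ⊥) {1}ᶜ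
      (Cfsg.dadeIsometry (setA L) L (Cfsg.supportR L)) :=
  letI := Fintype.ofFinite L
  (typeI_coherent_at hG F L hL hI (hfrob L hL hI)).2

end Cfsg.Agent.OddOrder.PF14
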