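import Cfsg.Agent.CharBasic.Orth
import Cfsg.Agent.CharBasic.Complete
import Cfsg.Agent.H43.Virtual

/-!
Bessel's inequality for functions on a finite group, and parity of squares, for Peterfalvi 14.
-/

set_option autoImplicit false

namespace Cfsg.Agent.OddOrder.PF14

open Cfsg.Agent Cfsg.Agent.CharBasic
open scoped ComplexConjugate

universe u

variable {G : Type u} [Group G] [Fintype G]

theorem inner_self_re_nonneg (φ : G → ℂ) : 0 ≤ (Cfsg.classInner φ φ).re := by
  rw [classInner_self_eq, Complex.ofReal_re]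
  positivity

/-- A lower bound for the norm: `2 re ⟨χ, v⟩ - ⟨v, v⟩ ≤ ⟨χ, χ⟩`. -/
theorem two_re_sub_le (χ v : G → ℂ) :
    2 * (Cfsg.classInner χ v).re - (Cfsg.classInner v v).re ≤ (Cfsg.classInner χ χ).re := by
  have h := inner_self_re_nonneg (χ - v)
  rw [classInner_sub_left, classInner_sub_right, classInner_sub_right,
    ← classInner_conj_symm χ v] at h
  simp only [Complex.sub_re, Complex.conj_re] at h
  linarith

/-- **Bessel's inequality** for functions with disjoint supports, each paired with `χ` as with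
itself. -/
theorem bessel {ι : Type*} (s : Finset ι) (χ : G → ℂ) (v : ι → G → ℂ)
    (horth : ∀ i ∈ s, ∀ j ∈ s, i ≠ j → Cfsg.classInner (v i) (v j) = 0) :
    ∑ i ∈ s, (2 * (Cfsg.classInner χ (v i)).re - (Cfsg.classInner (v i) (v i)).re) ≤
      (Cfsg.classInner χ χ).re := by
  classical
  have h := two_re_sub_le χ (∑ i ∈ s, v i)
  have h1 : Cfsg.classInner (∑ i ∈ s, v i) (∑ i ∈ s, v i) =
      ∑ i ∈ s, Cfsg.classInner (v i) (v i) := by
    rw [classInner_sum_left]
    refine Finset.sum_congr rfl fun i hi => ?_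
    rw [classInner_sum_right, Finset.sum_eq_single i (fun j hj hji => horth i hi j hj (Ne.symm hji))
      (fun hi' => absurd hi hi')]
  rw [classInner_sum_right, h1, Complex.re_sum, Complex.re_sum] at h
  rw [Finset.sum_sub_distrib, ← Finset.mul_sum]
  exact h

/-- Functions with disjoint supports are orthogonal. -/
theorem inner_eq_zero_of_disjoint {φ ψ : G → ℂ} {A B : Set G} (hφ : ∀ g, g ∉ A → φ g = 0)
    (hψ : ∀ g, g ∉ B → ψ g = 0) (h : Disjoint A B) : Cfsg.classInner φ ψ = 0 := by
  rw [classInner_def, Finset.sum_eq_zero, mul_zero]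
  intro g _
  by_cases hg : g ∈ A
  · rw [hψ g (Set.disjoint_left.mp h hg), map_zero, mul_zero]
  · rw [hφ g hg, zero_mul]

end Cfsg.Agent.OddOrder.PF14
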