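import Cfsg.Agent.OddOrder.PF14.ConfigGlue
import Cfsg.Agent.OddOrder.PF14.Coherence
import Cfsg.Agent.OddOrder.PF11.TypeIII
import Cfsg.Agent.OddOrder.PF12.TypeOneFrobenius
import Cfsg.Agent.S1379

/-!
# Peterfalvi 10-14: what is left before the odd order theorem

Given the covering of (10.8) for the maximal subgroups of type P that are not of Type II, (12.7) holds,
the inputs `hnonII` and `hcoh` of `configTheorem_of_inputs` hold, and only `C = 1` remains.
-/

set_option autoImplicit false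
set_option linter.unusedSectionVars false
set_option linter.style.haveILetI false

namespace Cfsg.Agent.OddOrder.PF14

open Subgroup
open Cfsg.Agent Cfsg.Agent.OddOrder

universe u

variable {G : Type u} [Group G] [Fintype G] (hG : Cfsg.IsMinSimpleOddOrder G)
  (hcov : ∀ M W₁ U W₂ : Subgroup G, IsCoatom M → Cfsg.IsTypePWith M W₁ U W₂ →
    ¬ Cfsg.IsOfTypeII M →
      Nonempty (PF10.Cover (H43.dadeSupp ((↑⁅M, M⁆ : Set G) \ {1}) (Cfsg.supportR M)) W₁ W₂
        (Nat.card W₂) (Nat.card W₁)))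

include hG hcov

/-- No maximal subgroup has Type IV. -/
theorem not_typeIV_of_cover (M : Subgroup G) (hM : IsCoatom M) : ¬ Cfsg.IsOfTypeIV M := fun hIV =>
  PF11.not_isOfTypeIV hG hM hIV

/-- Peterfalvi (12.7). -/
theorem frobenius_of_cover (L : Subgroup G) (hL : IsCoatom L) (hI : IsTypeI L) :
    ∀ x ∈ Cfsg.fittingHallOf L, x ≠ 1 →
      L ⊓ centralizer ({x} : Set G) ≤ Cfsg.fittingHallOf L :=
  PF12.centralizer_le_core hG (not_typeIV_of_cover hG hcov) hL hI

/-- Peterfalvi (11.9) in the shape of `configTheorem_of_inputs`. -/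
theorem nonII_of_cover (M A B C : Subgroup G) (hM : IsCoatom M) (hP : Cfsg.IsTypePWith M A B C)
    (hII : ¬ Cfsg.IsOfTypeII M) :
    Cfsg.IsOfTypeIII M ∧ (Nat.card C).Prime ∧ Nat.card C < Nat.card A ∧
      Nat.card (Cfsg.fittingHallOf M) = Nat.card C ^ Nat.card A ∧
      B ⊓ centralizer (Cfsg.fittingHallOf M : Set G) = ⊥ := by
  obtain ⟨h1, -, h2, -, h3, h4⟩ :=
    PF11.nonII_structure hG hM hP hII
  exact ⟨h4, PF11.card_W₂_prime hG hM hP hII, h1, h3, h2⟩

/-- Peterfalvi (14), up to `C = 1`. -/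
theorem configTheorem_of_cover
    (hC1 : ∀ (S T U V W₁ W₂ : Subgroup G), IsCoatom S → IsCoatom T →
      Cfsg.IsTypePWith S W₁ U W₂ → Cfsg.IsTypePWith T W₂ V W₁ → Cfsg.IsOfTypeII S →
      (Cfsg.IsOfTypeII T ∨ Cfsg.IsOfTypeIII T) → SideData S W₁ U W₂ → SideData T W₂ V W₁ →
        U ⊓ centralizer (Cfsg.fittingHallOf S : Set G) = ⊥) : ConfigTheorem G :=
  configTheorem_of_inputs hG (BG16.sectionFacts hG) (frobenius_of_cover hG hcov)
    (typeI_coherent hG (BG16.sectionFacts hG) (frobenius_of_cover hG hcov))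
    (nonII_of_cover hG hcov) hC1

end Cfsg.Agent.OddOrder.PF14

namespace Cfsg.Agent.OddOrder.PF14

open Subgroup
open Cfsg.Agent Cfsg.Agent.OddOrder

universe u

variable {G : Type u} [Group G] [Fintype G] (hG : Cfsg.IsMinSimpleOddOrder G)
include hG

/-- The covering of (10.8) in a minimal simple group of odd order. -/
theorem cover_all (M W₁ U W₂ : Subgroup G) (hM : IsCoatom M) (hP : Cfsg.IsTypePWith M W₁ U W₂)
    (hII : ¬ Cfsg.IsOfTypeII M) :
    Nonempty (PF10.Cover (H43.dadeSupp ((↑⁅M, M⁆ : Set G) \ {1}) (Cfsg.supportR M)) W₁ W₂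
      (Nat.card W₂) (Nat.card W₁)) :=
  PF10.cover_nonempty hG (BG16.sectionFacts hG) (S1379.result hG).2.2 hM hP hII rfl rfl

/-- No maximal subgroup has Type IV. -/
theorem no_typeIV (M : Subgroup G) (hM : IsCoatom M) : ¬ Cfsg.IsOfTypeIV M :=
  not_typeIV_of_cover hG (cover_all hG) M hM

/-- Peterfalvi (12.7). -/
theorem typeI_frobenius (L : Subgroup G) (hL : IsCoatom L) (hI : IsTypeI L) :
    ∀ x ∈ Cfsg.fittingHallOf L, x ≠ 1 →
      L ⊓ centralizer ({x} : Set G) ≤ Cfsg.fittingHallOf L :=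
  frobenius_of_cover hG (cover_all hG) L hL hI

/-- Peterfalvi (14) from `C = 1` on a side of Type II. -/
theorem configTheorem_of_C
    (hC1 : ∀ (S T U V W₁ W₂ : Subgroup G), IsCoatom S → IsCoatom T →
      Cfsg.IsTypePWith S W₁ U W₂ → Cfsg.IsTypePWith T W₂ V W₁ → Cfsg.IsOfTypeII S →
      (Cfsg.IsOfTypeII T ∨ Cfsg.IsOfTypeIII T) → SideData S W₁ U W₂ → SideData T W₂ V W₁ →
        U ⊓ centralizer (Cfsg.fittingHallOf S : Set G) = ⊥) : ConfigTheorem G :=
  configTheorem_of_cover hG (cover_all hG) hC1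

end Cfsg.Agent.OddOrder.PF14
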