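import Cfsg.Agent.OddOrder.PF14.Basic
import Cfsg.Prelude.Def_OddOrderChar
import Cfsg.Agent.OddOrder.PF12.Parity

/-!
Peterfalvi section 14: a *block* is a Frobenius group `L` with kernel `H` together with an isometry
from the functions supported on `H ∖ {1}` to the functions on `G` supported on a set `Ω`, with a
coherent family.  Type I subgroups give blocks (Dade isometry), and so does `T / Q` for `T` of
Type III (induction of inflated functions).
-/

set_option autoImplicit false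

namespace Cfsg.Agent.OddOrder.PF14

universe u

variable {G : Type u} [Group G] [Fintype G]

/-- A Frobenius block. -/
structure Block (G : Type u) [Group G] [Fintype G] where
  L : Type u
  [instGroup : Group L]
  [instFintype : Fintype L]
  H : Subgroup L
  normal : H.Normal
  ne_bot : H ≠ ⊥
  ne_top : H ≠ ⊤
  frob : ∀ h ∈ H, h ≠ 1 → Subgroup.centralizer ({h} : Set L) ≤ H
  odd : Odd (Nat.card L)
  nilpotent : Group.IsNilpotent H
  Ω : Set G
  conj_mem : ∀ g ∈ Ω, ∀ x : G, x * g * x⁻¹ ∈ Ω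
  one_notMem : (1 : G) ∉ Ω
  τ : (L → ℂ) → (G → ℂ)
  τ_add : ∀ α β, τ (α + β) = τ α + τ β
  τ_smul : ∀ (c : ℂ) α, τ (c • α) = c • τ α
  τ_supp : ∀ α, ∀ g ∉ Ω, τ α g = 0
  τ_class : ∀ α, Cfsg.IsClassFunction L α → Cfsg.IsClassFunction G (τ α)
  τ_inner : ∀ α β, Cfsg.IsClassFunction L α → Cfsg.IsClassFunction L β →
    (∀ l, l ∉ H ∨ l = 1 → α l = 0) → (∀ l, l ∉ H ∨ l = 1 → β l = 0) →
      Cfsg.classInner (τ α) (τ β) = Cfsg.classInner α β
  τ_one : ∀ α, Cfsg.IsClassFunction L α → (∀ l, l ∉ H ∨ l = 1 → α l = 0) →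
    Cfsg.classInner (τ α) (fun _ => 1) = Cfsg.classInner α (fun _ => 1)
  τ_gen : ∀ α, Cfsg.IsGeneralizedCharacter L α → (∀ l, l ∉ H ∨ l = 1 → α l = 0) →
    Cfsg.IsGeneralizedCharacter G (τ α)
  τ_aut : ∀ (σ : ℂ ≃+* ℂ) α, τ (fun l => σ (α l)) = fun g => σ (τ α g)
  coherent : Cfsg.IsCoherent (Cfsg.inducedIrrAbove H ⊥) {1}ᶜ τ

attribute [instance] Block.instGroup Block.instFintype

namespace Block

variable (B : Block G)

/-- The index of the kernel. -/
noncomputable def e : ℕ := B.H.index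

/-- `(|H| - 1) / e`. -/
noncomputable def F : ℕ := (Nat.card B.H - 1) / B.H.index

/-- The indicator of `H ∖ {1}`. -/
noncomputable def ind1 : B.L → ℂ := Set.indicator ((B.H : Set B.L) \ {1}) 1

/-- The vector of the block in `CF(G)`. -/
noncomputable def vec : G → ℂ := B.τ B.ind1

theorem τ_sub (α β : B.L → ℂ) : B.τ (α - β) = B.τ α - B.τ β := by
  rw [sub_eq_add_neg, show (-β : B.L → ℂ) = (-1 : ℂ) • β by simp, B.τ_add, B.τ_smul,
    sub_eq_add_neg]
  simp

theorem τ_zsmul (n : ℤ) (α : B.L → ℂ) : B.τ (n • α) = n • B.τ α := by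
  rw [← Int.cast_smul_eq_zsmul ℂ, B.τ_smul, Int.cast_smul_eq_zsmul]

theorem inner_of_disjoint {B B' : Block G} (h : Disjoint B.Ω B'.Ω) (α : B.L → ℂ) (β : B'.L → ℂ) :
    Cfsg.classInner (B.τ α) (B'.τ β) = 0 :=
  inner_eq_zero_of_disjoint (B.τ_supp α) (B'.τ_supp β) h

end Block

end Cfsg.Agent.OddOrder.PF14
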