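import Cfsg.Agent.OddOrder.PF14.Block
import Cfsg.Agent.OddOrder.PF6.PrimeUnion

/-!
# Peterfalvi section 14: the facts about a block
-/

set_option autoImplicit false

namespace Cfsg.Agent.OddOrder.PF14

open Cfsg.Agent Cfsg.Agent.CharBasic Finset
open scoped ComplexConjugate commutatorElement

universe u

variable {G : Type u} [Group G] [Fintype G]

namespace Block

variable (B : Block G)

instance : B.H.Normal := B.normal

theorem isFrobKer : H28.Frob.IsFrobKer B.H := B.frob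

theorem H_lt_top : B.H < ⊤ := lt_top_iff_ne_top.2 B.ne_top

/-- The characters induced from the nonprincipal irreducible characters of `H`. -/
noncomputable abbrev S : Finset (B.L → ℂ) := PF6.seqInd B.H ⊥

theorem e_pos : 0 < B.e := Nat.pos_of_ne_zero Subgroup.FiniteIndex.index_ne_zero

theorem S_irr {ξ : B.L → ℂ} (h : ξ ∈ B.S) : Cfsg.IsIrrCharacter B.L ξ :=
  PF6.seqInd_irr B.isFrobKer h

theorem S_conj {ξ : B.L → ℂ} (h : ξ ∈ B.S) : Cfsg.conjFun ξ ∈ B.S := PF6.seqInd_conj B.H h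

theorem S_conj_ne {ξ : B.L → ℂ} (h : ξ ∈ B.S) : Cfsg.conjFun ξ ≠ ξ :=
  PF6.seqInd_conj_ne B.isFrobKer B.odd B.H_lt_top h

theorem S_aut (σ : ℂ ≃+* ℂ) {ξ : B.L → ℂ} (h : ξ ∈ B.S) : (fun l => σ (ξ l)) ∈ B.S :=
  PF6.seqInd_aut σ h

open scoped Classical in
theorem S_orth {ξ η : B.L → ℂ} (h : ξ ∈ B.S) (h' : η ∈ B.S) :
    Cfsg.classInner ξ η = if ξ = η then 1 else 0 :=
  classInner_irr (B.S_irr h) (B.S_irr h')

/-- `ξ(1) / e`. -/
noncomputable def deg (ξ : B.L → ℂ) : ℕ :=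
  open scoped Classical in
  if h : ∃ d : ℕ, 0 < d ∧ ξ 1 = ((B.e * d : ℕ) : ℂ) then h.choose else 0

theorem deg_spec {ξ : B.L → ℂ} (h : ξ ∈ B.S) : 0 < B.deg ξ ∧ ξ 1 = (B.e : ℂ) * B.deg ξ := by
  have hx : ∃ d : ℕ, 0 < d ∧ ξ 1 = ((B.e * d : ℕ) : ℂ) := by
    obtain ⟨-, -, m, hm0, -, -, hd⟩ := PF6.seqInd_degree B.H h
    exact ⟨m, hm0, hd⟩
  simp only [deg, dif_pos hx]
  obtain ⟨h1, h2⟩ := hx.choose_spec
  exact ⟨h1, h2.trans (Nat.cast_mul _ _)⟩

theorem deg_eq_of_eq {ξ η : B.L → ℂ} (hξ : ξ ∈ B.S) (hη : η ∈ B.S) (h : ξ 1 = η 1) :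
    B.deg ξ = B.deg η := by
  rw [(B.deg_spec hξ).2, (B.deg_spec hη).2] at h
  exact_mod_cast mul_left_cancel₀ (Nat.cast_ne_zero.2 B.e_pos.ne' : (B.e : ℂ) ≠ 0) h

theorem exists_xi0 : ∃ ξ, ξ ∈ B.S ∧ ξ 1 = (B.e : ℂ) := by
  have hnil := B.nilpotent
  obtain ⟨ξ, hξ⟩ := PF6.seqInd_nonempty (K := B.H) (inferInstance : Group.IsSolvable B.H)
    (PF6.derived_lt hnil B.ne_bot)
  exact ⟨ξ, PF6.seqInd_subset_bot B.H _ hξ, PF6.seqInd_derived_degree le_rfl hξ⟩

/-- A member of degree `e`. -/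
noncomputable def xi0 : B.L → ℂ := B.exists_xi0.choose

theorem xi0_mem : B.xi0 ∈ B.S := B.exists_xi0.choose_spec.1

theorem xi0_one : B.xi0 1 = (B.e : ℂ) := B.exists_xi0.choose_spec.2

theorem deg_xi0 : B.deg B.xi0 = 1 := by
  have h := (B.deg_spec B.xi0_mem).2
  rw [B.xi0_one] at h
  have he : (B.e : ℂ) ≠ 0 := Nat.cast_ne_zero.2 B.e_pos.ne'
  exact_mod_cast mul_left_cancel₀ he (h.symm.trans (mul_one _).symm)

/-- The functions on which `τ` is an isometry. -/
def Supp (α : B.L → ℂ) : Prop :=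
  Cfsg.IsClassFunction B.L α ∧ ∀ l, l ∉ B.H ∨ l = 1 → α l = 0

theorem τ_zero : B.τ 0 = 0 := by
  have h := B.τ_smul 0 0
  rwa [zero_smul, zero_smul] at h

theorem τ_sum {ι : Type*} (s : Finset ι) (f : ι → B.L → ℂ) :
    B.τ (∑ i ∈ s, f i) = ∑ i ∈ s, B.τ (f i) := by
  classical
  induction s using Finset.induction_on with
  | empty => simpa using B.τ_zero
  | insert a s ha ih => rw [sum_insert ha, sum_insert ha, B.τ_add, ih]

theorem τ_at_one (α : B.L → ℂ) : B.τ α 1 = 0 := B.τ_supp α 1 B.one_notMem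

theorem S_vanish {ξ : B.L → ℂ} (h : ξ ∈ B.S) {l : B.L} (hl : l ∉ B.H) : ξ l = 0 :=
  PF6.seqInd_vanish h hl

theorem diff_mem {ξ η : B.L → ℂ} (hξ : ξ ∈ B.S) (hη : η ∈ B.S) (n : ℕ)
    (hn : ξ 1 = (n : ℂ) * η 1) :
    ξ - (n : ℤ) • η ∈ Cfsg.zspanOn (↑B.S : Set (B.L → ℂ)) ({1}ᶜ : Set B.L) ∧
      B.Supp (ξ - (n : ℤ) • η) := by
  refine ⟨H43.zspanOn_compl_one.2 ⟨H43.zspan_sub (H43.zspan_mem hξ)
    (H43.zspan_zsmul (H43.zspan_mem hη) _), by simp [hn]⟩, fun g h => ?_, fun l hl => ?_⟩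
  · simp [CharBasic.IsIrr.isClassFunction (B.S_irr hξ) g h,
      CharBasic.IsIrr.isClassFunction (B.S_irr hη) g h]
  · rcases hl with hl | rfl
    · simp [B.S_vanish hξ hl, B.S_vanish hη hl]
    · simp [hn]

theorem exists_ext : ∃ τ₁ : (B.L → ℂ) → (G → ℂ),
    Cfsg.IsLinearIsometryOn (Cfsg.zspan (↑B.S : Set (B.L → ℂ))) τ₁ ∧
      ∀ α ∈ Cfsg.zspanOn (↑B.S : Set (B.L → ℂ)) {1}ᶜ, τ₁ α = B.τ α := by
  rw [PF6.coe_seqInd]
  exact B.coherent.2

/-- The coherent images. -/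
noncomputable def phi : (B.L → ℂ) → (G → ℂ) := B.exists_ext.choose

/-- The image of `ξ₀`. -/
noncomputable def phi0 : G → ℂ := B.phi B.xi0

theorem phi_iso : Cfsg.IsLinearIsometryOn (Cfsg.zspan (↑B.S : Set (B.L → ℂ))) B.phi :=
  B.exists_ext.choose_spec.1

theorem phi_gen {ξ : B.L → ℂ} (h : ξ ∈ B.S) : Cfsg.IsGeneralizedCharacter G (B.phi ξ) :=
  H43.iso_gen B.phi_iso (H43.zspan_mem h)

open scoped Classical in
theorem phi_orth {ξ η : B.L → ℂ} (h : ξ ∈ B.S) (h' : η ∈ B.S) :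
    Cfsg.classInner (B.phi ξ) (B.phi η) = if ξ = η then 1 else 0 := by
  rw [H43.iso_inner B.phi_iso (H43.zspan_mem h) (H43.zspan_mem h'), B.S_orth h h']

theorem phi_signed {ξ : B.L → ℂ} (h : ξ ∈ B.S) : H43.Signed (B.phi ξ) :=
  H43.iso_signed B.phi_iso (H43.zspan_mem h) (classInner_irr_self (B.S_irr h))

theorem tau_diff {ξ η : B.L → ℂ} (hξ : ξ ∈ B.S) (hη : η ∈ B.S) (n : ℕ)
    (hn : ξ 1 = (n : ℂ) * η 1) :
    B.τ (ξ - (n : ℤ) • η) = B.phi ξ - (n : ℂ) • B.phi η := by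
  have hm := (B.diff_mem hξ hη n hn).1
  show _ = B.exists_ext.choose ξ - (n : ℂ) • B.exists_ext.choose η
  rw [← B.exists_ext.choose_spec.2 _ hm, H43.iso_sub B.exists_ext.choose_spec.1 (H43.zspan_mem hξ)
    (H43.zspan_zsmul (H43.zspan_mem hη) _) hm.1, B.exists_ext.choose_spec.1.2.1 _ (H43.zspan_mem hη)]
  rw [← Int.cast_smul_eq_zsmul ℂ, Int.cast_natCast]

theorem tau_deg {ξ : B.L → ℂ} (h : ξ ∈ B.S) :
    B.τ (ξ - (B.deg ξ : ℤ) • B.xi0) = B.phi ξ - (B.deg ξ : ℂ) • B.phi0 :=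
  B.tau_diff h B.xi0_mem _ (by rw [(B.deg_spec h).2, B.xi0_one]; ring)

theorem tau_conj_diff {ξ : B.L → ℂ} (h : ξ ∈ B.S) :
    B.τ (ξ - Cfsg.conjFun ξ) = B.phi ξ - B.phi (Cfsg.conjFun ξ) := by
  have hd : ξ 1 = ((1 : ℕ) : ℂ) * Cfsg.conjFun ξ 1 := by
    show _ = _ * conj (ξ 1)
    rw [(B.deg_spec h).2, Nat.cast_one, one_mul, map_mul, Complex.conj_natCast, Complex.conj_natCast]
  have := B.tau_diff h (B.S_conj h) 1 hd
  rwa [Nat.cast_one, Nat.cast_one, one_smul, one_smul] at this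

theorem phi_one {ξ : B.L → ℂ} (h : ξ ∈ B.S) : B.phi ξ 1 = (B.deg ξ : ℂ) * B.phi0 1 := by
  have e := B.τ_at_one (ξ - (B.deg ξ : ℤ) • B.xi0)
  rw [B.tau_deg h] at e
  simpa [sub_eq_zero] using e

theorem deg_conj {ξ : B.L → ℂ} (h : ξ ∈ B.S) : B.deg (Cfsg.conjFun ξ) = B.deg ξ :=
  B.deg_eq_of_eq (B.S_conj h) h (by
    show conj (ξ 1) = ξ 1
    rw [(B.deg_spec h).2, map_mul, Complex.conj_natCast, Complex.conj_natCast])

theorem deg_aut (σ : ℂ ≃+* ℂ) {ξ : B.L → ℂ} (h : ξ ∈ B.S) :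
    B.deg (fun l => σ (ξ l)) = B.deg ξ :=
  B.deg_eq_of_eq (B.S_aut σ h) h (by rw [(B.deg_spec h).2, map_mul, map_natCast, map_natCast])

theorem phi_orth_one {ξ : B.L → ℂ} (h : ξ ∈ B.S) :
    Cfsg.classInner (B.phi ξ) (fun _ => 1) = 0 := by
  classical
  have key : ∀ η ∈ B.S, Cfsg.classInner (B.phi η) (fun _ => 1)
      = (B.deg η : ℂ) * Cfsg.classInner B.phi0 (fun _ => 1) := by
    intro η hη
    obtain ⟨hm, hs⟩ := B.diff_mem hη B.xi0_mem (B.deg η)
      (by rw [(B.deg_spec hη).2, B.xi0_one]; ring)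
    have e := B.τ_one _ hs.1 hs.2
    have hz : ∀ ζ ∈ B.S, Cfsg.classInner ζ (fun _ => 1) = 0 := fun ζ hζ => by
      refine classInner_irr_of_ne (B.S_irr hζ) isIrrCharacter_one fun e => ?_
      obtain ⟨l, hl⟩ : ∃ l, l ∉ B.H := by
        by_contra hc
        push Not at hc
        exact B.ne_top ((Subgroup.eq_top_iff' _).2 hc)
      exact one_ne_zero ((congrFun e l).symm.trans (B.S_vanish hζ hl))
    rw [B.tau_deg hη, classInner_sub_left, classInner_sub_left, classInner_smul_left,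
      H43.classInner_zsmul_left, hz η hη, hz _ B.xi0_mem, mul_zero, sub_zero, sub_eq_zero] at e
    exact e
  suffices h0 : Cfsg.classInner B.phi0 (fun _ => 1) = 0 by rw [key ξ h, h0, mul_zero]
  have hone : H43.Signed (fun _ : G => (1 : ℂ)) := Or.inl isIrrCharacter_one
  have hc := key _ (B.S_conj B.xi0_mem)
  rw [B.deg_conj B.xi0_mem, B.deg_xi0, Nat.cast_one, one_mul] at hc
  rcases H43.Signed.inner_eq (B.phi_signed B.xi0_mem) hone with h0 | ⟨s, hs, e, hv, -⟩
  · exact h0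
  exfalso
  have h2 : B.phi0 = s • fun _ => 1 := e
  have horth : Cfsg.classInner (B.phi (Cfsg.conjFun B.xi0)) B.phi0 = 0 := by
    rw [phi0, B.phi_orth (B.S_conj B.xi0_mem) B.xi0_mem, if_neg (B.S_conj_ne B.xi0_mem)]
  rw [h2, classInner_smul_right, hc, show Cfsg.classInner B.phi0 (fun _ => 1) = s from hv,
    mul_eq_zero, map_eq_zero, or_self] at horth
  rw [horth] at hs
  norm_num at hs

theorem phi_aut (σ : ℂ ≃+* ℂ) {ξ : B.L → ℂ} (h : ξ ∈ B.S) :
    B.phi (fun l => σ (ξ l)) = fun g => σ (B.phi ξ g) := by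
  classical
  have hc := B.S_conj h
  have hd : B.deg (Cfsg.conjFun ξ) = B.deg ξ := B.deg_conj h
  have hone : σ (B.phi0 1) = B.phi0 1 := by
    obtain ⟨n, hn⟩ := H43.gen_one_int (B.phi_gen B.xi0_mem)
    rw [phi0, hn, map_intCast]
  have hval : ∀ η ∈ B.S, σ (B.phi η 1) = (B.deg η : ℂ) * B.phi0 1 := fun η hη => by
    rw [B.phi_one hη, map_mul, map_natCast, hone]
  refine PF6.signed_eq_of_sub (H43.aut_signed σ (B.phi_signed h)) (B.phi_signed (B.S_aut σ h))
    (B.phi_signed (B.S_aut σ hc)) (B := fun g => σ (B.phi (Cfsg.conjFun ξ) g)) ?_ ?_ ?_ ?_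
  · rw [PF6.classInner_aut σ _ (B.phi_gen hc), B.phi_orth h hc, if_neg (B.S_conj_ne h).symm,
      map_zero]
  · have he : (fun l => σ (ξ l)) 1 = ((1 : ℕ) : ℂ) * (fun l => σ (Cfsg.conjFun ξ l)) 1 := by
      show σ (ξ 1) = _ * σ (conj (ξ 1))
      rw [(B.deg_spec h).2, map_mul (starRingEnd ℂ), Complex.conj_natCast, Complex.conj_natCast,
        Nat.cast_one, one_mul]
    have e1 := B.tau_diff (B.S_aut σ h) (B.S_aut σ hc) 1 he
    rw [Nat.cast_one, Nat.cast_one, one_smul, one_smul] at e1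
    rw [← e1, show ((fun l => σ (ξ l)) - fun l => σ (Cfsg.conjFun ξ l))
      = fun l => σ ((ξ - Cfsg.conjFun ξ) l) from funext fun l => (map_sub σ _ _).symm, B.τ_aut,
      B.tau_conj_diff h]
    funext g
    simp
  · rw [hval ξ h, B.phi_one (B.S_aut σ h), B.deg_aut σ h]
  · rw [hval ξ h, B.phi_one (B.S_aut σ hc), B.deg_aut σ hc, hd]

theorem phi_conj {ξ : B.L → ℂ} (h : ξ ∈ B.S) :
    B.phi (Cfsg.conjFun ξ) = Cfsg.conjFun (B.phi ξ) :=
  B.phi_aut (starRingAut : ℂ ≃+* ℂ) h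

/-- The indicator of `H`. -/
noncomputable def oneH : B.L → ℂ := (B.H : Set B.L).indicator 1

open scoped Classical in
/-- The indicator of `1`. -/
noncomputable def delta1 : B.L → ℂ := fun l => if l = 1 then 1 else 0

theorem oneH_of_mem {l : B.L} (h : l ∈ B.H) : B.oneH l = 1 := by
  rw [oneH, Set.indicator_of_mem (show l ∈ (B.H : Set B.L) from h)]
  rfl

theorem oneH_of_not_mem {l : B.L} (h : l ∉ B.H) : B.oneH l = 0 :=
  Set.indicator_of_notMem (show l ∉ (B.H : Set B.L) from h) _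

theorem oneH_class : Cfsg.IsClassFunction B.L B.oneH := fun l g => by
  by_cases hl : l ∈ B.H
  · rw [B.oneH_of_mem hl, B.oneH_of_mem (B.normal.conj_mem l hl g)]
  · rw [B.oneH_of_not_mem hl, B.oneH_of_not_mem fun hc => hl (by
      simpa [mul_assoc] using B.normal.conj_mem _ hc g⁻¹)]

theorem ind1_eq : B.ind1 = B.oneH - B.delta1 := by
  funext l
  by_cases h1 : l = 1
  · subst h1
    simp [ind1, delta1, B.oneH_of_mem B.H.one_mem]
  · by_cases hl : l ∈ B.H
    · rw [ind1, Set.indicator_of_mem (show l ∈ (B.H : Set B.L) \ {1} from ⟨hl, h1⟩)]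
      simp [delta1, h1, B.oneH_of_mem hl]
    · rw [ind1, Set.indicator_of_notMem fun h => hl h.1]
      simp [delta1, h1, B.oneH_of_not_mem hl]

theorem indFun_one_eq : Cfsg.indFun B.H (fun _ => (1 : ℂ)) = (B.e : ℂ) • B.oneH := by
  funext l
  by_cases hl : l ∈ B.H
  · rw [show l = ((⟨l, hl⟩ : B.H) : B.L) from rfl, CharInduce.indFun_normal_coe, Pi.smul_apply,
      B.oneH_of_mem hl, smul_eq_mul, mul_one]
    simp only [CharInduce.conjFun, sum_const, card_univ, nsmul_eq_mul, mul_one]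
    rw [← Nat.card_eq_fintype_card (α := B.L), ← B.H.card_mul_index, Nat.cast_mul, ← mul_assoc,
      inv_mul_cancel₀ (CharInduce.card_ne_zero_complex _), one_mul]
    rfl
  · rw [CharInduce.indFun_eq_zero_of_normal B.H _ hl, Pi.smul_apply, B.oneH_of_not_mem hl, smul_zero]

theorem classInner_delta1 (f : B.L → ℂ) :
    Cfsg.classInner f B.delta1 = (Nat.card B.L : ℂ)⁻¹ * f 1 := by
  classical
  rw [classInner_def, sum_eq_single (1 : B.L) (fun l _ hl => by simp [delta1, hl]) fun h =>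
    absurd (mem_univ _) h]
  simp [delta1]

theorem S_inner_oneH {ξ : B.L → ℂ} (h : ξ ∈ B.S) : Cfsg.classInner ξ B.oneH = 0 := by
  haveI := Fintype.ofFinite B.H
  obtain ⟨θ, hθ, rfl⟩ := (PF6.mem_seqInd B.H).1 h
  rw [CharInduce.classInner_indFun_left B.H _ _ B.oneH_class,
    show (fun k : B.H => B.oneH k) = fun _ => 1 from funext fun k => B.oneH_of_mem k.2,
    classInner_irr_of_ne θ.2 isIrrCharacter_one ((PF6.mem_thetas B.H).1 hθ).1]

theorem oneH_inner_self : (B.e : ℂ) * Cfsg.classInner B.oneH B.oneH = 1 := by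
  haveI := Fintype.ofFinite B.H
  rw [← classInner_smul_left, ← B.indFun_one_eq,
    CharInduce.classInner_indFun_left B.H _ _ B.oneH_class,
    show (fun k : B.H => B.oneH k) = fun _ => 1 from funext fun k => B.oneH_of_mem k.2,
    classInner_irr_self isIrrCharacter_one]

theorem sum_deg_sq : B.e * ∑ ξ ∈ B.S, B.deg ξ ^ 2 + 1 = Nat.card B.H := by
  have h := PF6.sum_weight_seqInd B.H (⊥ : Subgroup B.L)
  rw [Subgroup.relIndex_bot_left, sum_congr rfl fun ξ hξ => show PF6.weight ξ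
      = (B.e : ℝ) ^ 2 * (B.deg ξ : ℝ) ^ 2 by
    rw [PF6.weight, (B.deg_spec hξ).2, classInner_irr_self (B.S_irr hξ)]
    simp [mul_pow], ← mul_sum] at h
  have he : (B.e : ℝ) ≠ 0 := Nat.cast_ne_zero.2 B.e_pos.ne'
  have : ((B.e * ∑ ξ ∈ B.S, B.deg ξ ^ 2 + 1 : ℕ) : ℝ) = (Nat.card B.H : ℝ) := by
    push_cast
    refine mul_left_cancel₀ he ?_
    change _ = (B.H.index : ℝ) * ((Nat.card B.H : ℝ) - 1) at h
    rw [show (B.H.index : ℝ) = (B.e : ℝ) from rfl] at h
    linear_combination h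
  exact_mod_cast this

theorem F_eq : B.F = ∑ ξ ∈ B.S, B.deg ξ ^ 2 := by
  rw [F, ← B.sum_deg_sq, Nat.add_sub_cancel]
  exact Nat.mul_div_cancel_left _ B.e_pos

theorem card_H : B.F * B.e + 1 = Nat.card B.H := by rw [B.F_eq, mul_comm, B.sum_deg_sq]

theorem two_le_F : 2 ≤ B.F := by
  classical
  rw [B.F_eq]
  refine le_trans ?_ (sum_le_sum_of_subset
    (show ({B.xi0, Cfsg.conjFun B.xi0} : Finset (B.L → ℂ)) ⊆ B.S from
      insert_subset B.xi0_mem (singleton_subset_iff.2 (B.S_conj B.xi0_mem))))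
  rw [sum_pair (B.S_conj_ne B.xi0_mem).symm, B.deg_conj B.xi0_mem, B.deg_xi0]
  norm_num

theorem odd_card_H : Odd (Nat.card B.H) :=
  Odd.of_dvd_nat B.odd (Subgroup.card_subgroup_dvd_card B.H)

/-- `∑ ξ(1)/e · ξ = |H| δ₁ - 1_H`. -/
theorem sum_deg_smul :
    ∑ ξ ∈ B.S, (B.deg ξ : ℂ) • ξ = (Nat.card B.H : ℂ) • B.delta1 - B.oneH := by
  classical
  set P := ∑ ξ ∈ B.S, (B.deg ξ : ℂ) • ξ with hP
  set D := P - ((Nat.card B.H : ℂ) • B.delta1 - B.oneH) with hD
  have he : (B.e : ℂ) ≠ 0 := Nat.cast_ne_zero.2 B.e_pos.ne'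
  have hcard : (Nat.card B.L : ℂ) = (Nat.card B.H : ℂ) * (B.e : ℂ) := by
    rw [← Nat.cast_mul]
    exact congrArg Nat.cast B.H.card_mul_index.symm
  have hh : (Nat.card B.H : ℂ) ≠ 0 := CharInduce.card_ne_zero_complex _
  have hP1 : P 1 = (B.e : ℂ) * (B.F : ℂ) := by
    rw [hP, B.F_eq, Finset.sum_apply, Nat.cast_sum, mul_sum]
    refine sum_congr rfl fun ξ hξ => ?_
    rw [Pi.smul_apply, (B.deg_spec hξ).2, smul_eq_mul, Nat.cast_pow]
    ring
  have hD1 : D 1 = 0 := by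
    simp only [hD, Pi.sub_apply, Pi.smul_apply, hP1, B.oneH_of_mem B.H.one_mem, delta1,
      if_true, smul_eq_mul, mul_one]
    rw [← B.card_H]
    push_cast
    ring
  have hDS : ∀ ξ ∈ B.S, Cfsg.classInner D ξ = 0 := by
    intro ξ hξ
    have e1 : Cfsg.classInner P ξ = (B.deg ξ : ℂ) := by
      rw [hP, classInner_sum_left, sum_eq_single ξ (fun η hη hne => by
        rw [classInner_smul_left, B.S_orth hη hξ, if_neg hne, mul_zero]) (fun h => absurd hξ h),
        classInner_smul_left, B.S_orth hξ hξ, if_pos rfl, mul_one]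
    rw [hD, classInner_sub_left, classInner_sub_left, classInner_smul_left, e1,
      ← classInner_conj_symm ξ B.delta1, B.classInner_delta1, ← classInner_conj_symm ξ B.oneH,
      B.S_inner_oneH hξ, map_zero, sub_zero, (B.deg_spec hξ).2, hcard]
    simp only [map_mul, map_inv₀, Complex.conj_natCast]
    field_simp
    ring
  have hDD : Cfsg.classInner D D = 0 := by
    have hDone : Cfsg.classInner D B.oneH = 0 := by
      have h1 : Cfsg.classInner B.oneH B.oneH = (B.e : ℂ)⁻¹ :=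
        eq_inv_of_mul_eq_one_right B.oneH_inner_self
      rw [hD, classInner_sub_left, classInner_sub_left, classInner_smul_left, hP,
        classInner_sum_left, sum_eq_zero (fun ξ hξ => by
          rw [classInner_smul_left, B.S_inner_oneH hξ, mul_zero]),
        ← classInner_conj_symm B.oneH B.delta1, B.classInner_delta1, B.oneH_of_mem B.H.one_mem,
        h1, hcard]
      simp only [map_mul, map_inv₀, Complex.conj_natCast, map_one]
      field_simp
      ring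
    calc Cfsg.classInner D D
        = Cfsg.classInner D P - ((Nat.card B.H : ℂ) * Cfsg.classInner D B.delta1
            - Cfsg.classInner D B.oneH) := by
          conv_lhs => arg 2; rw [hD]
          rw [classInner_sub_right, classInner_sub_right, classInner_smul_right, Complex.conj_natCast]
      _ = 0 := by
          rw [hP, classInner_sum_right, sum_eq_zero (fun ξ hξ => by
            rw [classInner_smul_right, hDS ξ hξ, mul_zero]), hDone, B.classInner_delta1, hD1]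
          ring
  exact sub_eq_zero.1 (classInner_self_eq_zero.1 hDD)

/-- `β = Ind_H^L 1 - ξ₀`. -/
noncomputable def beta : B.L → ℂ := (B.e : ℂ) • B.oneH - B.xi0

/-- `γ = τ β`. -/
noncomputable def gamma : G → ℂ := B.τ B.beta

/-- `Γ = γ - 1 + φ₀`. -/
noncomputable def Gamma : G → ℂ := B.gamma - (fun _ => 1) + B.phi0

theorem delta1_class : Cfsg.IsClassFunction B.L B.delta1 := fun g l => by
  classical
  have h : l * g * l⁻¹ = 1 ↔ g = 1 :=
    ⟨fun e => by simpa [mul_assoc] using congrArg (fun x => l⁻¹ * x * l) e, fun e => by simp [e]⟩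
  show (if l * g * l⁻¹ = 1 then (1 : ℂ) else 0) = if g = 1 then 1 else 0
  exact if_congr h rfl rfl

theorem supp_beta : B.Supp B.beta := by
  refine ⟨fun g l => ?_, fun l hl => ?_⟩
  · simp [beta, B.oneH_class g l, CharBasic.IsIrr.isClassFunction (B.S_irr B.xi0_mem) g l]
  · rcases hl with hl | rfl
    · simp [beta, B.oneH_of_not_mem hl, B.S_vanish B.xi0_mem hl]
    · simp [beta, B.oneH_of_mem B.H.one_mem, B.xi0_one]

theorem supp_ind1 : B.Supp B.ind1 := by
  rw [B.ind1_eq]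
  refine ⟨fun g l => ?_, fun l hl => ?_⟩
  · simp [B.oneH_class g l, B.delta1_class g l]
  · rcases hl with hl | rfl
    · have : l ≠ 1 := fun e => hl (e ▸ B.H.one_mem)
      simp [delta1, this, B.oneH_of_not_mem hl]
    · simp [delta1, B.oneH_of_mem B.H.one_mem]

theorem gamma_gen : Cfsg.IsGeneralizedCharacter G B.gamma := by
  refine B.τ_gen _ ?_ B.supp_beta.2
  haveI := Fintype.ofFinite B.H
  rw [beta, ← B.indFun_one_eq]
  exact H43.gen_sub (H43.gen_of_char (CharInduce.IsChar.ind B.H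
    (CharBasic.IsIrr.isCharacter isIrrCharacter_one))) (H43.gen_of_irr (B.S_irr B.xi0_mem))

theorem Gamma_gen : Cfsg.IsGeneralizedCharacter G B.Gamma :=
  H43.gen_add (H43.gen_sub B.gamma_gen (H43.gen_of_irr isIrrCharacter_one))
    (B.phi_gen B.xi0_mem)

theorem gamma_one : Cfsg.classInner B.gamma (fun _ => 1) = 1 := by
  rw [gamma, B.τ_one _ B.supp_beta.1 B.supp_beta.2, beta, classInner_sub_left,
    classInner_smul_left, classInner_irr_of_ne (B.S_irr B.xi0_mem) isIrrCharacter_one ?_, sub_zero]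
  · haveI := Fintype.ofFinite B.H
    rw [← classInner_smul_left, ← B.indFun_one_eq, CharInduce.classInner_indFun_left B.H _ _
      fun _ _ => rfl]
    exact classInner_irr_self isIrrCharacter_one
  · intro e
    obtain ⟨l, hl⟩ : ∃ l, l ∉ B.H := by
      by_contra hc
      push Not at hc
      exact B.ne_top ((Subgroup.eq_top_iff' _).2 hc)
    exact one_ne_zero ((congrFun e l).symm.trans (B.S_vanish B.xi0_mem hl))

theorem gamma_self : Cfsg.classInner B.gamma B.gamma = (B.e : ℂ) + 1 := by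
  rw [gamma, B.τ_inner _ _ B.supp_beta.1 B.supp_beta.1 B.supp_beta.2 B.supp_beta.2, beta]
  simp only [classInner_sub_left, classInner_sub_right, classInner_smul_left,
    classInner_smul_right, Complex.conj_natCast, ← classInner_conj_symm B.xi0 B.oneH,
    B.S_inner_oneH B.xi0_mem, map_zero, mul_zero, sub_zero, zero_sub, sub_neg_eq_add,
    classInner_irr_self (B.S_irr B.xi0_mem), B.oneH_inner_self, mul_one]

open scoped Classical in
theorem gamma_diff {ξ : B.L → ℂ} (hξ : ξ ∈ B.S) :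
    Cfsg.classInner B.gamma (B.phi ξ - (B.deg ξ : ℂ) • B.phi0)
      = (B.deg ξ : ℂ) - if ξ = B.xi0 then 1 else 0 := by
  have hn : ξ 1 = (B.deg ξ : ℂ) * B.xi0 1 := by rw [(B.deg_spec hξ).2, B.xi0_one]; ring
  obtain ⟨-, hs⟩ := B.diff_mem hξ B.xi0_mem _ hn
  rw [← B.tau_deg hξ, gamma, B.τ_inner _ _ B.supp_beta.1 hs.1 B.supp_beta.2 hs.2, beta]
  simp only [classInner_sub_left, classInner_sub_right, classInner_smul_left,
    H43.classInner_zsmul_right, ← classInner_conj_symm ξ B.oneH,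
    ← classInner_conj_symm B.xi0 B.oneH, B.S_inner_oneH hξ, B.S_inner_oneH B.xi0_mem,
    map_zero, mul_zero, sub_zero, zero_sub, B.S_orth B.xi0_mem hξ,
    B.S_orth B.xi0_mem B.xi0_mem, if_true, mul_one, Int.cast_natCast, eq_comm (a := B.xi0) (b := ξ)]
  split_ifs <;> ring

/-- `b = ⟨Γ, φ₀⟩`. -/
noncomputable def b : ℤ := (H43.gen_inner_int B.Gamma_gen (B.phi_gen B.xi0_mem)).choose

theorem Gamma_phi0 : Cfsg.classInner B.Gamma B.phi0 = (B.b : ℂ) :=
  (H43.gen_inner_int B.Gamma_gen (B.phi_gen B.xi0_mem)).choose_spec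

theorem phi0_orth_one : Cfsg.classInner B.phi0 (fun _ => 1) = 0 := B.phi_orth_one B.xi0_mem

theorem one_orth_phi {ξ : B.L → ℂ} (h : ξ ∈ B.S) :
    Cfsg.classInner (fun _ => 1) (B.phi ξ) = 0 := by
  rw [← classInner_conj_symm, B.phi_orth_one h, map_zero]

theorem phi0_self : Cfsg.classInner B.phi0 B.phi0 = 1 := (B.phi_signed B.xi0_mem).inner_self

theorem gamma_phi0 : Cfsg.classInner B.gamma B.phi0 = (B.b : ℂ) - 1 := by
  have h := B.Gamma_phi0
  rw [Gamma, classInner_add_left, classInner_sub_left, phi0, B.one_orth_phi B.xi0_mem,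
    ← phi0, B.phi0_self] at h
  linear_combination h

open scoped Classical in
theorem gamma_phi {ξ : B.L → ℂ} (hξ : ξ ∈ B.S) :
    Cfsg.classInner B.gamma (B.phi ξ)
      = (B.deg ξ : ℂ) * B.b - if ξ = B.xi0 then 1 else 0 := by
  have h := B.gamma_diff hξ
  rw [classInner_sub_right, classInner_smul_right, Complex.conj_natCast, B.gamma_phi0] at h
  linear_combination h

theorem Gamma_phi {ξ : B.L → ℂ} (hξ : ξ ∈ B.S) :
    Cfsg.classInner B.Gamma (B.phi ξ) = (B.deg ξ : ℂ) * B.b := by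
  classical
  rw [Gamma, classInner_add_left, classInner_sub_left, B.gamma_phi hξ, B.one_orth_phi hξ, phi0,
    B.phi_orth B.xi0_mem hξ]
  simp only [eq_comm (a := B.xi0) (b := ξ)]
  split_ifs <;> ring

theorem Gamma_one : Cfsg.classInner B.Gamma (fun _ => 1) = 0 := by
  rw [Gamma, classInner_add_left, classInner_sub_left, B.gamma_one,
    classInner_irr_self isIrrCharacter_one, B.phi0_orth_one]
  ring

theorem one_orth_Gamma : Cfsg.classInner (fun _ => 1) B.Gamma = 0 := by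
  rw [← classInner_conj_symm, B.Gamma_one, map_zero]

theorem Gamma_self : Cfsg.classInner B.Gamma B.Gamma = (B.e : ℂ) - 1 + 2 * B.b := by
  have h1 : Cfsg.classInner (fun _ => (1 : ℂ)) B.gamma = 1 := by
    rw [← classInner_conj_symm, B.gamma_one, map_one]
  have h2 : Cfsg.classInner B.phi0 B.gamma = (B.b : ℂ) - 1 := by
    rw [← classInner_conj_symm, B.gamma_phi0, map_sub, map_intCast, map_one]
  simp only [Gamma, classInner_add_left, classInner_add_right, classInner_sub_left,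
    classInner_sub_right, B.gamma_self, B.gamma_one, B.gamma_phi0, h1, h2,
    classInner_irr_self (isIrrCharacter_one (G := G)), B.phi0_self, B.phi0_orth_one,
    show Cfsg.classInner (fun _ => (1 : ℂ)) B.phi0 = 0 from B.one_orth_phi B.xi0_mem]
  ring

theorem Gamma_aut (σ : ℂ ≃+* ℂ) : (fun g => σ (B.Gamma g)) = B.Gamma := by
  have hn : B.xi0 1 = ((1 : ℕ) : ℂ) * (fun l => σ (B.xi0 l)) 1 := by
    show _ = _ * σ (B.xi0 1)
    rw [B.xi0_one, map_natCast, Nat.cast_one, one_mul]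
  have e1 := B.tau_diff B.xi0_mem (B.S_aut σ B.xi0_mem) 1 hn
  rw [Nat.cast_one, Nat.cast_one, one_smul, one_smul, B.phi_aut σ B.xi0_mem] at e1
  have e2 : (fun g => σ (B.gamma g)) = B.gamma + (B.phi0 - fun g => σ (B.phi0 g)) := by
    have hb : (fun l => σ (B.beta l)) = B.beta + (B.xi0 - fun l => σ (B.xi0 l)) := by
      funext l
      by_cases hl : l ∈ B.H <;>
        simp [beta, oneH_of_mem, oneH_of_not_mem, hl] <;> ring
    rw [gamma, ← B.τ_aut, hb, B.τ_add, e1]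
    rfl
  funext g
  have e3 := congrFun e2 g
  simp only [Pi.add_apply, Pi.sub_apply] at e3
  simp only [Gamma, Pi.add_apply, Pi.sub_apply, map_add, map_sub, map_one, e3]
  ring

theorem Gamma_real : Cfsg.conjFun B.Gamma = B.Gamma := B.Gamma_aut (starRingAut : ℂ ≃+* ℂ)

theorem bF_nonneg : 0 ≤ (B.F : ℤ) * B.b ^ 2 - 2 * B.b := by
  have h2 : (2 : ℤ) ≤ B.F := by exact_mod_cast B.two_le_F
  rcases le_or_gt B.b 0 with h | h
  · nlinarith [sq_nonneg B.b]
  · nlinarith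

/-- Bessel: what is left for further orthonormal functions orthogonal to `1` and the family. -/
theorem budget {ι : Type*} (s : Finset ι) (v : ι → G → ℂ) (c : ι → ℤ)
    (hnorm : ∀ i ∈ s, Cfsg.classInner (v i) (v i) = 1)
    (horth : ∀ i ∈ s, ∀ j ∈ s, i ≠ j → Cfsg.classInner (v i) (v j) = 0)
    (hphi : ∀ i ∈ s, ∀ ξ ∈ B.S, Cfsg.classInner (v i) (B.phi ξ) = 0)
    (hc : ∀ i ∈ s, Cfsg.classInner B.Gamma (v i) = c i) :
    ∑ i ∈ s, c i ^ 2 ≤ (B.e : ℤ) - 1 := by
  classical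
  set P := (∑ i ∈ s, (c i : ℂ) • v i) + ∑ ξ ∈ B.S, ((B.deg ξ : ℂ) * B.b) • B.phi ξ with hP
  have hGP : Cfsg.classInner B.Gamma P
      = ((∑ i ∈ s, c i ^ 2 + (B.F : ℤ) * B.b ^ 2 : ℤ) : ℂ) := by
    rw [hP, classInner_add_right, classInner_sum_right, classInner_sum_right, B.F_eq]
    push_cast
    rw [sum_mul]
    congr 1
    · exact sum_congr rfl fun i hi => by rw [classInner_smul_right, hc i hi, map_intCast, sq]
    · refine sum_congr rfl fun ξ hξ => ?_
      rw [classInner_smul_right, B.Gamma_phi hξ, map_mul, Complex.conj_natCast, map_intCast]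
      ring
  have hPv : ∀ i ∈ s, Cfsg.classInner P (v i) = c i := by
    intro i hi
    rw [hP, classInner_add_left, classInner_sum_left, classInner_sum_left,
      sum_eq_single i (fun j hj hne => by
        rw [classInner_smul_left, horth j hj i hi hne, mul_zero]) (fun h => absurd hi h),
      classInner_smul_left, hnorm i hi, mul_one, sum_eq_zero (fun ξ hξ => by
        rw [classInner_smul_left, ← classInner_conj_symm, hphi i hi ξ hξ, map_zero, mul_zero]),
      add_zero]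
  have hPphi : ∀ ξ ∈ B.S, Cfsg.classInner P (B.phi ξ) = (B.deg ξ : ℂ) * B.b := by
    intro ξ hξ
    rw [hP, classInner_add_left, classInner_sum_left, classInner_sum_left,
      sum_eq_zero (s := s) (fun i hi => by rw [classInner_smul_left, hphi i hi ξ hξ, mul_zero]),
      sum_eq_single ξ (fun η hη hne => by
        rw [classInner_smul_left, B.phi_orth hη hξ, if_neg hne, mul_zero]) (fun h => absurd hξ h),
      classInner_smul_left, B.phi_orth hξ hξ, if_pos rfl, mul_one, zero_add]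
  have hPP : Cfsg.classInner P P = Cfsg.classInner B.Gamma P := by
    conv_lhs => arg 2; rw [hP]
    conv_rhs => rw [hP]
    simp only [classInner_add_right, classInner_sum_right, classInner_smul_right]
    congr 1
    · exact sum_congr rfl fun i hi => by rw [hPv i hi, hc i hi]
    · exact sum_congr rfl fun ξ hξ => by rw [hPphi ξ hξ, B.Gamma_phi hξ]
  have h := inner_self_re_nonneg (B.Gamma - P)
  rw [classInner_sub_left, classInner_sub_right, classInner_sub_right, hPP,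
    ← classInner_conj_symm B.Gamma P, hGP, map_intCast, B.Gamma_self] at h
  have h' : (0 : ℝ) ≤ (((B.e : ℤ) - 1 + 2 * B.b - (∑ i ∈ s, c i ^ 2 + (B.F : ℤ) * B.b ^ 2) : ℤ) : ℝ) := by
    refine h.trans_eq ?_
    rw [← Complex.intCast_re]
    congr 1
    push_cast
    ring
  have h'' : (0 : ℤ) ≤ (B.e : ℤ) - 1 + 2 * B.b - (∑ i ∈ s, c i ^ 2 + (B.F : ℤ) * B.b ^ 2) := by
    exact_mod_cast h'
  linarith [B.bF_nonneg]

/-- The weight `F / |H|`. -/
noncomputable def w : ℚ := (B.F : ℚ) / (B.F * B.e + 1)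

theorem w_cast : ((B.w : ℚ) : ℂ) = (B.F : ℂ) / (Nat.card B.H : ℂ) := by
  rw [w, ← B.card_H]
  push_cast
  rfl

theorem smul_ind1 : (B.e : ℂ) • B.ind1
    = (1 - (Nat.card B.H : ℂ)⁻¹) • B.beta - ((B.e : ℂ) / (Nat.card B.H : ℂ)) •
        ∑ ξ ∈ B.S, (B.deg ξ : ℂ) • (ξ - (B.deg ξ : ℤ) • B.xi0) := by
  have hh : (Nat.card B.H : ℂ) ≠ 0 := CharInduce.card_ne_zero_complex _
  have hsum : ∑ ξ ∈ B.S, (B.deg ξ : ℂ) • (ξ - (B.deg ξ : ℤ) • B.xi0)
      = (Nat.card B.H : ℂ) • B.delta1 - B.oneH - (B.F : ℂ) • B.xi0 := by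
    rw [← B.sum_deg_smul, B.F_eq, Nat.cast_sum, sum_smul, ← sum_sub_distrib]
    refine sum_congr rfl fun ξ _ => ?_
    rw [smul_sub, ← Int.cast_smul_eq_zsmul ℂ, smul_smul, Int.cast_natCast, Nat.cast_pow, sq]
  have hF : (B.F : ℂ) * (B.e : ℂ) + 1 = (Nat.card B.H : ℂ) := by exact_mod_cast B.card_H
  rw [hsum, B.ind1_eq]
  funext l
  simp only [beta, Pi.smul_apply, Pi.sub_apply, smul_eq_mul]
  field_simp
  rw [← hF]
  ring

theorem pair_vec (χ : G → ℂ)
    (hχ : ∀ ξ ∈ B.S, Cfsg.classInner χ (B.phi ξ - (B.deg ξ : ℂ) • B.phi0) = 0) :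
    Cfsg.classInner χ B.vec = (B.w : ℂ) * Cfsg.classInner χ B.gamma := by
  have hh : (Nat.card B.H : ℂ) ≠ 0 := CharInduce.card_ne_zero_complex _
  have he : (B.e : ℂ) ≠ 0 := Nat.cast_ne_zero.2 B.e_pos.ne'
  have h : Cfsg.classInner χ (B.τ ((B.e : ℂ) • B.ind1))
      = (1 - (Nat.card B.H : ℂ)⁻¹) * Cfsg.classInner χ B.gamma := by
    rw [B.smul_ind1, B.τ_sub, B.τ_smul, B.τ_smul, B.τ_sum, ← gamma, classInner_sub_right,
      classInner_smul_right, classInner_smul_right, classInner_sum_right,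
      sum_eq_zero (fun ξ hξ => by
        rw [B.τ_smul, classInner_smul_right, B.tau_deg hξ, hχ ξ hξ, mul_zero])]
    simp
  rw [B.τ_smul, ← vec, classInner_smul_right, Complex.conj_natCast] at h
  refine mul_left_cancel₀ he ?_
  rw [h, B.w_cast]
  have hF : (B.F : ℂ) * (B.e : ℂ) + 1 = (Nat.card B.H : ℂ) := by exact_mod_cast B.card_H
  field_simp
  rw [← hF]
  ring

theorem pair_vec_of_orth (χ : G → ℂ) (hχ : ∀ ξ ∈ B.S, Cfsg.classInner χ (B.phi ξ) = 0) :
    Cfsg.classInner χ B.vec = (B.w : ℂ) * Cfsg.classInner χ B.gamma :=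
  B.pair_vec χ fun ξ hξ => by
    rw [classInner_sub_right, classInner_smul_right, phi0, hχ ξ hξ, hχ _ B.xi0_mem, mul_zero,
      sub_zero]

theorem one_vec : Cfsg.classInner (fun _ => 1) B.vec = (B.w : ℂ) := by
  rw [B.pair_vec_of_orth _ fun ξ hξ => B.one_orth_phi hξ, ← classInner_conj_symm B.gamma,
    B.gamma_one, map_one, mul_one]

theorem ind1_self : Cfsg.classInner B.ind1 B.ind1 = (B.w : ℂ) := by
  have he : (B.e : ℂ) ≠ 0 := Nat.cast_ne_zero.2 B.e_pos.ne'
  have h1 : Cfsg.classInner B.oneH B.oneH = (B.e : ℂ)⁻¹ :=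
    eq_inv_of_mul_eq_one_right B.oneH_inner_self
  have h2 : Cfsg.classInner B.delta1 B.oneH = (Nat.card B.L : ℂ)⁻¹ := by
    rw [← classInner_conj_symm, B.classInner_delta1, B.oneH_of_mem B.H.one_mem]
    simp
  have hcard : (Nat.card B.L : ℂ) = (Nat.card B.H : ℂ) * (B.e : ℂ) := by
    rw [← Nat.cast_mul]
    exact congrArg Nat.cast B.H.card_mul_index.symm
  have hh : (Nat.card B.H : ℂ) ≠ 0 := CharInduce.card_ne_zero_complex _
  have hF : (B.F : ℂ) * (B.e : ℂ) + 1 = (Nat.card B.H : ℂ) := by exact_mod_cast B.card_H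
  rw [B.ind1_eq, classInner_sub_left, classInner_sub_right, classInner_sub_right, h1, h2,
    B.classInner_delta1, B.classInner_delta1, B.oneH_of_mem B.H.one_mem,
    show B.delta1 1 = 1 by simp [delta1], hcard, B.w_cast]
  field_simp
  rw [← hF]
  ring

theorem vec_self : Cfsg.classInner B.vec B.vec = (B.w : ℂ) := by
  rw [vec, B.τ_inner _ _ B.supp_ind1.1 B.supp_ind1.1 B.supp_ind1.2 B.supp_ind1.2, B.ind1_self]

/-- The test vector for `φ₀`. -/
noncomputable def own : G → ℂ :=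
  B.τ (B.xi0 - (B.e : ℂ) • B.delta1 + (B.b : ℂ) • B.ind1)

theorem own_supp : ∀ g ∉ B.Ω, B.own g = 0 := B.τ_supp _

theorem vec_supp : ∀ g ∉ B.Ω, B.vec g = 0 := B.τ_supp _

theorem supp_own0 : B.Supp (B.xi0 - (B.e : ℂ) • B.delta1) := by
  refine ⟨fun g l => ?_, fun l hl => ?_⟩
  · simp [B.delta1_class g l, CharBasic.IsIrr.isClassFunction (B.S_irr B.xi0_mem) g l]
  · rcases hl with hl | rfl
    · have : l ≠ 1 := fun e => hl (e ▸ B.H.one_mem)
      simp [delta1, this, B.S_vanish B.xi0_mem hl]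
    · simp [delta1, B.xi0_one]

theorem supp_own : B.Supp (B.xi0 - (B.e : ℂ) • B.delta1 + (B.b : ℂ) • B.ind1) := by
  refine ⟨fun g l => ?_, fun l hl => ?_⟩
  · simp only [Pi.add_apply, Pi.smul_apply, B.supp_own0.1 g l, B.supp_ind1.1 g l]
  · simp only [Pi.add_apply, Pi.smul_apply, B.supp_own0.2 l hl, B.supp_ind1.2 l hl, smul_zero,
      add_zero]

theorem own0_eq : B.xi0 - (B.e : ℂ) • B.delta1
    = (-(Nat.card B.H : ℂ)⁻¹) • B.beta - ((B.e : ℂ) / (Nat.card B.H : ℂ)) •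
        ∑ ξ ∈ B.S, (B.deg ξ : ℂ) • (ξ - (B.deg ξ : ℤ) • B.xi0) := by
  have h := B.smul_ind1
  rw [sub_smul, one_smul, B.ind1_eq, smul_sub] at h
  rw [neg_smul, beta] at *
  linear_combination (norm := module) h

theorem phi0_gamma : Cfsg.classInner B.phi0 B.gamma = (B.b : ℂ) - 1 := by
  rw [← classInner_conj_symm, B.gamma_phi0, map_sub, map_intCast, map_one]

theorem sum_phi0_diff :
    ∑ ξ ∈ B.S, (B.deg ξ : ℂ) * Cfsg.classInner B.phi0 (B.phi ξ - (B.deg ξ : ℂ) • B.phi0)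
      = 1 - (B.F : ℂ) := by
  classical
  rw [sum_congr rfl fun ξ hξ => show (B.deg ξ : ℂ)
      * Cfsg.classInner B.phi0 (B.phi ξ - (B.deg ξ : ℂ) • B.phi0)
      = (if B.xi0 = ξ then (B.deg ξ : ℂ) else 0) - (B.deg ξ : ℂ) ^ 2 by
    rw [classInner_sub_right, classInner_smul_right, Complex.conj_natCast, B.phi0_self, phi0,
      B.phi_orth B.xi0_mem hξ]
    split_ifs <;> ring, sum_sub_distrib, sum_ite_eq, if_pos B.xi0_mem, B.deg_xi0, B.F_eq]
  push_cast
  rfl

theorem phi0_own : Cfsg.classInner B.phi0 B.own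
    = ((1 - ((B.e : ℚ) + 2 * B.b) / (B.F * B.e + 1) + (B.b : ℚ) ^ 2 * B.w : ℚ) : ℂ) := by
  classical
  have hh : (Nat.card B.H : ℂ) ≠ 0 := CharInduce.card_ne_zero_complex _
  have he : (B.e : ℂ) ≠ 0 := Nat.cast_ne_zero.2 B.e_pos.ne'
  have hF : (B.F : ℂ) * (B.e : ℂ) + 1 = (Nat.card B.H : ℂ) := by exact_mod_cast B.card_H
  have hT : ∀ (c : ℂ), Cfsg.classInner B.phi0 (B.τ (c • ∑ ξ ∈ B.S,
      (B.deg ξ : ℂ) • (ξ - (B.deg ξ : ℤ) • B.xi0))) = conj c * (1 - (B.F : ℂ)) := fun c => by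
    rw [B.τ_smul, classInner_smul_right, B.τ_sum, classInner_sum_right, ← B.sum_phi0_diff]
    exact congrArg _ (sum_congr rfl fun ξ hξ => by
      rw [B.τ_smul, classInner_smul_right, Complex.conj_natCast, B.tau_deg hξ])
  have hv : (B.e : ℂ) * Cfsg.classInner B.phi0 B.vec
      = (1 - (Nat.card B.H : ℂ)⁻¹) * ((B.b : ℂ) - 1)
        - (B.e : ℂ) / (Nat.card B.H : ℂ) * (1 - (B.F : ℂ)) := by
    rw [← Complex.conj_natCast B.e, ← classInner_smul_right, vec, ← B.τ_smul, B.smul_ind1, B.τ_sub,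
      classInner_sub_right, hT, B.τ_smul, classInner_smul_right, ← gamma, B.phi0_gamma]
    simp
  have h0 : Cfsg.classInner B.phi0 (B.τ (B.xi0 - (B.e : ℂ) • B.delta1))
      = -(Nat.card B.H : ℂ)⁻¹ * ((B.b : ℂ) - 1)
        - (B.e : ℂ) / (Nat.card B.H : ℂ) * (1 - (B.F : ℂ)) := by
    rw [B.own0_eq, B.τ_sub, classInner_sub_right, hT, B.τ_smul, classInner_smul_right, ← gamma,
      B.phi0_gamma]
    simp
  rw [own, B.τ_add, classInner_add_right, h0, B.τ_smul, classInner_smul_right, map_intCast, ← vec]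
  refine mul_left_cancel₀ he ?_
  rw [mul_add, ← mul_assoc (B.e : ℂ) (B.b : ℂ), mul_comm (B.e : ℂ) (B.b : ℂ), mul_assoc, hv, w]
  push_cast
  rw [hF]
  field_simp
  rw [← hF]
  ring

theorem own_self : Cfsg.classInner B.own B.own
    = ((1 - ((B.e : ℚ) + 2 * B.b) / (B.F * B.e + 1) + (B.b : ℚ) ^ 2 * B.w : ℚ) : ℂ) := by
  have he : (B.e : ℂ) ≠ 0 := Nat.cast_ne_zero.2 B.e_pos.ne'
  have hh : (Nat.card B.H : ℂ) ≠ 0 := CharInduce.card_ne_zero_complex _
  have hF : (B.F : ℂ) * (B.e : ℂ) + 1 = (Nat.card B.H : ℂ) := by exact_mod_cast B.card_H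
  have hcard : (Nat.card B.L : ℂ) = (Nat.card B.H : ℂ) * (B.e : ℂ) := by
    rw [← Nat.cast_mul]
    exact congrArg Nat.cast B.H.card_mul_index.symm
  set A := B.xi0 - (B.e : ℂ) • B.delta1 with hA
  have h00 : Cfsg.classInner A A = 1 - (B.e : ℂ) / (Nat.card B.H : ℂ) := by
    have h1 : Cfsg.classInner B.delta1 B.xi0 = (Nat.card B.L : ℂ)⁻¹ * (B.e : ℂ) := by
      rw [← classInner_conj_symm, B.classInner_delta1, B.xi0_one]
      simp
    rw [hA]
    simp only [classInner_sub_left, classInner_sub_right, classInner_smul_left,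
      classInner_smul_right, Complex.conj_natCast, h1, B.classInner_delta1, B.xi0_one,
      classInner_irr_self (B.S_irr B.xi0_mem), show B.delta1 1 = 1 by simp [delta1], hcard, Pi.sub_apply, Pi.smul_apply, smul_eq_mul, mul_one]
    field_simp
    ring
  have h01 : Cfsg.classInner A B.ind1 = -(Nat.card B.H : ℂ)⁻¹ := by
    have h1 : Cfsg.classInner B.delta1 B.oneH = (Nat.card B.L : ℂ)⁻¹ := by
      rw [← classInner_conj_symm, B.classInner_delta1, B.oneH_of_mem B.H.one_mem]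
      simp
    rw [hA, B.ind1_eq]
    simp only [classInner_sub_left, classInner_sub_right, classInner_smul_left, h1,
      B.classInner_delta1, B.xi0_one, B.S_inner_oneH B.xi0_mem,
      show B.delta1 1 = 1 by simp [delta1], hcard, Pi.sub_apply, Pi.smul_apply, smul_eq_mul, mul_one]
    field_simp
    ring
  have h10 : Cfsg.classInner B.ind1 A = -(Nat.card B.H : ℂ)⁻¹ := by
    rw [← classInner_conj_symm, h01]
    simp
  rw [own, B.τ_inner _ _ B.supp_own.1 B.supp_own.1 B.supp_own.2 B.supp_own.2]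
  simp only [classInner_add_left, classInner_add_right, classInner_smul_left,
    classInner_smul_right, map_intCast, ← hA, h00, h01, h10, B.ind1_self, w]
  push_cast
  rw [hF]
  field_simp
  ring

/-- The lower bound given by the own vector. -/
theorem own_bound : 1 - (B.e : ℝ) / (Nat.card B.H : ℝ) ≤
    2 * (Cfsg.classInner B.phi0 B.own).re - (Cfsg.classInner B.own B.own).re := by
  rw [B.phi0_own, B.own_self, Complex.ratCast_re, w, ← B.card_H]
  push_cast
  have hh : (0 : ℝ) < (B.F : ℝ) * B.e + 1 := by positivity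
  have hb : (0 : ℝ) ≤ (((B.F : ℤ) * B.b ^ 2 - 2 * B.b : ℤ) : ℝ) := Int.cast_nonneg B.bF_nonneg
  push_cast at hb
  rw [show 2 * (1 - ((B.e : ℝ) + 2 * B.b) / (B.F * B.e + 1) + (B.b : ℝ) ^ 2 * (B.F / (B.F * B.e + 1)))
      - (1 - ((B.e : ℝ) + 2 * B.b) / (B.F * B.e + 1) + (B.b : ℝ) ^ 2 * (B.F / (B.F * B.e + 1)))
      = 1 - (B.e : ℝ) / (B.F * B.e + 1) + ((B.F : ℝ) * B.b ^ 2 - 2 * B.b) / (B.F * B.e + 1) by
    field_simp; ring]
  linarith [div_nonneg hb hh.le]

section Two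

variable {B} {B' : Block G}

theorem phi_orth_phi (h : Disjoint B.Ω B'.Ω) {ξ : B.L → ℂ} (hξ : ξ ∈ B.S) {η : B'.L → ℂ}
    (hη : η ∈ B'.S) : Cfsg.classInner (B.phi ξ) (B'.phi η) = 0 := by
  classical
  refine H43.signed_orth2 (B.phi_signed hξ) (B.phi_signed (B.S_conj hξ)) (B'.phi_signed hη)
    (B'.phi_signed (B'.S_conj hη)) (p := 1) (q := 1) (u := 1) (v := 1) one_ne_zero one_ne_zero
    one_ne_zero ?_ ?_ ?_ ?_ ?_
  · rw [B.phi_orth hξ (B.S_conj hξ), if_neg (B.S_conj_ne hξ).symm]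
  · rw [B'.phi_orth hη (B'.S_conj hη), if_neg (B'.S_conj_ne hη).symm]
  · rw [Complex.ofReal_one, one_smul, one_smul, one_smul, one_smul, ← B.tau_conj_diff hξ,
      ← B'.tau_conj_diff hη]
    exact inner_of_disjoint h _ _
  · rw [B.phi_one hξ, B.phi_one (B.S_conj hξ), B.deg_conj hξ]
  · rw [B'.phi_one hη, B'.phi_one (B'.S_conj hη), B'.deg_conj hη]

variable (B B') in
/-- `A(X, Y) = ⟨Γ_X, φ₀ of Y⟩`. -/
noncomputable def A : ℤ := (H43.gen_inner_int B.Gamma_gen (B'.phi_gen B'.xi0_mem)).choose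

theorem Gamma_phi0' : Cfsg.classInner B.Gamma B'.phi0 = (B.A B' : ℂ) :=
  (H43.gen_inner_int B.Gamma_gen (B'.phi_gen B'.xi0_mem)).choose_spec

theorem gamma_eq : B.gamma = B.Gamma + (fun _ => 1) - B.phi0 := by
  funext g
  simp [Gamma]
  ring

theorem gamma_phi' (h : Disjoint B.Ω B'.Ω) {η : B'.L → ℂ} (hη : η ∈ B'.S) :
    Cfsg.classInner B.gamma (B'.phi η) = Cfsg.classInner B.Gamma (B'.phi η) := by
  rw [gamma_eq, classInner_sub_left, classInner_add_left, B'.one_orth_phi hη, phi0,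
    phi_orth_phi h B.xi0_mem hη, add_zero, sub_zero]

theorem Gamma_phi' (h : Disjoint B.Ω B'.Ω) {η : B'.L → ℂ} (hη : η ∈ B'.S) :
    Cfsg.classInner B.Gamma (B'.phi η) = (B'.deg η : ℂ) * (B.A B' : ℂ) := by
  have e := inner_of_disjoint h B.beta (η - (B'.deg η : ℤ) • B'.xi0)
  rw [B'.tau_deg hη, ← gamma, classInner_sub_right, classInner_smul_right, Complex.conj_natCast,
    gamma_phi' h hη, phi0, gamma_phi' h B'.xi0_mem, ← phi0, Gamma_phi0', sub_eq_zero] at e
  exact e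

theorem phi0_vec (h : Disjoint B.Ω B'.Ω) :
    Cfsg.classInner B'.phi0 B.vec = (B.w : ℂ) * (B.A B' : ℂ) := by
  rw [B.pair_vec_of_orth _ fun ξ hξ => ?_, ← classInner_conj_symm B.gamma, phi0,
    gamma_phi' h B'.xi0_mem, ← phi0, Gamma_phi0', map_intCast]
  rw [← classInner_conj_symm, phi0, phi_orth_phi h hξ B'.xi0_mem, map_zero]

theorem parity (hodd : Odd (Nat.card G)) (h : Disjoint B.Ω B'.Ω) :
    Odd (B.A B' + B'.A B) := by
  obtain ⟨k, hk, hk'⟩ := PF12.even_inner hodd B.Gamma_gen B'.Gamma_gen B.Gamma_real B'.Gamma_real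
    B.Gamma_one
  have e := inner_of_disjoint h B.beta B'.beta
  rw [← gamma, ← gamma, gamma_eq, gamma_eq] at e
  simp only [classInner_add_left, classInner_add_right, classInner_sub_left,
    classInner_sub_right, hk', B.Gamma_one, Gamma_phi0', B'.one_orth_Gamma,
    classInner_irr_self (isIrrCharacter_one (G := G)), B.phi0_orth_one,
    show Cfsg.classInner (fun _ => (1 : ℂ)) B'.phi0 = 0 from B'.one_orth_phi B'.xi0_mem,
    show Cfsg.classInner B.phi0 B'.Gamma = (B'.A B : ℂ) by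
      rw [← classInner_conj_symm, Gamma_phi0', map_intCast],
    show Cfsg.classInner B.phi0 B'.phi0 = 0 from phi_orth_phi h B.xi0_mem B'.xi0_mem] at e
  have e' : B.A B' + B'.A B = k + 1 := by
    have : ((B.A B' + B'.A B : ℤ) : ℂ) = ((k + 1 : ℤ) : ℂ) := by
      push_cast
      linear_combination -e
    exact_mod_cast this
  rw [e']
  exact hk.add_one

end Two

end Block

end Cfsg.Agent.OddOrder.PF14
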