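import Cfsg.Agent.OddOrder.PF14.SideValues

/-!
# Peterfalvi section 14: the share of one side in the norms of the grid characters, of the free
characters and of the block characters
-/

set_option autoImplicit false

namespace Cfsg.Agent.OddOrder.PF14

open Cfsg.Agent Cfsg.Agent.CharBasic Cfsg.Agent.CharInduce Finset
open scoped ComplexConjugate

universe u

namespace Side

variable {G : Type u} [Group G] (D : Side G) [Fintype G]

/-- A set `Θ` of characters under control: each is conjugate to a fixed one or is free. -/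
structure Covered (Θ : Finset (↥D.K →* ℂˣ)) : Prop where
  reg : D.Regular
  stable : D.Stable Θ
  good_mem : ∀ θ, D.Good θ → θ ∈ Θ
  free_mem : ∀ θ, D.Free θ → θ ∈ Θ
  cases : ∀ θ ∈ Θ, (∃ x : ↥D.S, D.Good (D.tw x θ)) ∨ D.Free θ

/-- Part of the norm of `ξ` can be found on the conjugates of `K ∖ N₀`. -/
def Share (ξ : G → ℂ) (r : ℝ) : Prop :=
  ∃ v : G → ℂ, (∀ a, v a ≠ 0 → ∃ x : G, ∃ k ∈ D.K, k ∉ D.N₀ ∧ a = x * k * x⁻¹) ∧
    r ≤ 2 * (Cfsg.classInner ξ v).re - (Cfsg.classInner v v).re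

open scoped Classical in
/-- The conjugates of `θ₀` in `Θ`. -/
noncomputable def orbit (Θ : Finset (↥D.K →* ℂˣ)) (θ₀ : ↥D.K →* ℂˣ) : Finset (↥D.K →* ℂˣ) :=
  Θ.filter fun θ => ∃ x, D.tw x θ₀ = θ

variable {D} {Θ : Finset (↥D.K →* ℂˣ)} {θ θ₀ θ₁ : ↥D.K →* ℂˣ}

theorem mem_orbit : θ ∈ D.orbit Θ θ₀ ↔ θ ∈ Θ ∧ ∃ x, D.tw x θ₀ = θ := by
  classical
  simp [orbit]

/-- Orbit and stabiliser. -/
theorem card_orbit_mul (hΘ : D.Stable Θ) (h₀ : θ₀ ∈ Θ) :
    (D.orbit Θ θ₀).card * D.num θ₀ θ₀ = Nat.card ↥D.S := by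
  classical
  have : Fintype ↥D.S := Fintype.ofFinite _
  have hfib : ∀ θ ∈ D.orbit Θ θ₀,
      ((Finset.univ : Finset ↥D.S).filter fun x => D.tw x θ₀ = θ).card = D.num θ₀ θ₀ := by
    intro θ hθ
    obtain ⟨-, y, rfl⟩ := mem_orbit.1 hθ
    rw [num, ← Fintype.card_coe, ← Nat.card_eq_fintype_card]
    exact Nat.card_congr
      { toFun := fun x => ⟨y⁻¹ * x.1, by
          rw [D.tw_tw, (mem_filter.1 x.2).2, ← D.tw_tw, inv_mul_cancel, D.tw_id]⟩
        invFun := fun x => ⟨y * x.1, mem_filter.2 ⟨mem_univ _, by rw [D.tw_tw, x.2]⟩⟩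
        left_inv := fun x => Subtype.ext (mul_inv_cancel_left y x.1)
        right_inv := fun x => Subtype.ext (inv_mul_cancel_left y x.1) }
  rw [Nat.card_eq_fintype_card, ← Finset.card_univ, card_eq_sum_card_fiberwise
    (f := fun x : ↥D.S => D.tw x θ₀) (t := D.orbit Θ θ₀)
    (fun x _ => mem_orbit.2 ⟨hΘ.tw_mem x θ₀ h₀, x, rfl⟩), sum_congr rfl hfib, sum_const, smul_eq_mul]

theorem card_orbit_good (hc : D.Covered Θ) (hg : D.Good θ₀) :
    (D.orbit Θ θ₀).card = D.H.relIndex D.S := by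
  have h := card_orbit_mul hc.stable (hc.good_mem θ₀ hg)
  rw [D.num_good hc.reg hg, ← relIndex_mul_card D.H_le_S] at h
  exact Nat.eq_of_mul_eq_mul_right Nat.card_pos h

theorem card_orbit_free (hc : D.Covered Θ) (hf : D.Free θ₀) :
    (D.orbit Θ θ₀).card = D.K.relIndex D.S := by
  have h := card_orbit_mul hc.stable (hc.free_mem θ₀ hf)
  rw [D.num_free hf, ← relIndex_mul_card D.K_le] at h
  exact Nat.eq_of_mul_eq_mul_right Nat.card_pos h

theorem relIndex_K (D : Side G) : D.K.relIndex D.S = D.H.relIndex D.S * Nat.card D.W₁ := by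
  refine Nat.eq_of_mul_eq_mul_right (Nat.card_pos (α := ↥D.K)) ?_
  rw [relIndex_mul_card D.K_le, mul_assoc, ← D.card_H, relIndex_mul_card D.H_le_S]

theorem disjoint_orbit (h : D.NConj θ₀ θ₁) : Disjoint (D.orbit Θ θ₀) (D.orbit Θ θ₁) := by
  refine disjoint_left.2 fun θ h0 h1 => ?_
  obtain ⟨-, x, hx⟩ := mem_orbit.1 h0
  obtain ⟨-, y, hy⟩ := mem_orbit.1 h1
  exact h (y⁻¹ * x) (by rw [D.tw_tw, hx, ← hy, ← D.tw_tw, inv_mul_cancel, D.tw_id])

omit [Fintype G] in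
theorem Good.inv (hg : D.Good θ) : D.Good θ⁻¹ where
  triv k hk := by simp [hg.triv k hk]
  fix w hw := by rw [D.tw_inv, hg.fix w hw]
  ne_one e := hg.ne_one (MonoidHom.ext fun k => inv_eq_one.1 (DFunLike.congr_fun e k))

omit [Fintype G] in
theorem Good.ne_inv [Finite G] (hg : D.Good θ) : θ ≠ θ⁻¹ := by
  intro e
  refine hg.ne_one (MonoidHom.ext fun k => ?_)
  have h1 : θ k * θ k = 1 := by
    have := DFunLike.congr_fun e k
    rw [MonoidHom.inv_apply] at this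
    nth_rw 1 [this]
    exact inv_mul_cancel _
  have d1 : orderOf (θ k) ∣ 2 := orderOf_dvd_of_pow_eq_one (by rw [pow_two]; exact h1)
  have d2 : orderOf (θ k) ∣ Nat.card G :=
    ((orderOf_map_dvd θ k).trans (orderOf_dvd_natCard k)).trans (Subgroup.card_subgroup_dvd_card _)
  exact orderOf_eq_one_iff.1
    (Nat.eq_one_of_dvd_coprimes (Nat.coprime_two_left.2 D.odd) d1 d2)

theorem two_orbit_good (hc : D.Covered Θ) (hg : D.Good θ₀) :
    2 * (D.orbit Θ θ₀).card ≤ Θ.card := by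
  classical
  have h := card_union_of_disjoint
    (disjoint_orbit (Θ := Θ) (D.nconj_good hc.reg hg hg.inv hg.ne_inv))
  have hle : D.orbit Θ θ₀ ∪ D.orbit Θ θ₀⁻¹ ⊆ Θ :=
    union_subset (fun θ h => (mem_orbit.1 h).1) fun θ h => (mem_orbit.1 h).1
  have := card_le_card hle
  rw [h, card_orbit_good hc hg, card_orbit_good hc hg.inv] at this
  rw [card_orbit_good hc hg]
  omega

theorem two_orbit_free (hc : D.Covered Θ) (hf : D.Free θ₀) :
    2 * (D.orbit Θ θ₀).card ≤ Θ.card := by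
  classical
  have h := card_union_of_disjoint (disjoint_orbit (Θ := Θ) hf.nconj_inv)
  have hle : D.orbit Θ θ₀ ∪ D.orbit Θ θ₀⁻¹ ⊆ Θ :=
    union_subset (fun θ h => (mem_orbit.1 h).1) fun θ h => (mem_orbit.1 h).1
  have := card_le_card hle
  rw [h, card_orbit_free hc hf, card_orbit_free hc hf.inv] at this
  rw [card_orbit_free hc hf]
  omega

/-- A rule for `⟨ξ, Ind_K^G (1 − θ)⟩` on `Θ` from the fixed and the free characters. -/
theorem values_on (hc : D.Covered Θ) {ξ : G → ℂ} {b : (↥D.K →* ℂˣ) → ℤ}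
    (hbtw : ∀ (x : ↥D.S), ∀ θ ∈ Θ, b (D.tw x θ) = b θ)
    (hgood : ∀ θ, D.Good θ → Cfsg.classInner ξ (D.bigam θ) = (b θ : ℂ))
    (hfree : ∀ θ, D.Free θ → Cfsg.classInner ξ (D.bigam θ) = (b θ : ℂ)) :
    ∀ θ ∈ Θ, Cfsg.classInner ξ (D.bigam θ) = (b θ : ℂ) := by
  intro θ hθ
  rcases hc.cases θ hθ with ⟨x, hx⟩ | h
  · rw [← D.bigam_tw x θ, ← hbtw x θ hθ]
    exact hgood _ hx
  · exact hfree θ h

/-- The share when all the pairings are `z`. -/
theorem share_const (hc : D.Covered Θ) (ξ : G → ℂ) (z : ℤ)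
    (hz : ∀ θ, D.Good θ ∨ D.Free θ → Cfsg.classInner ξ (D.bigam θ) = (z : ℂ)) :
    D.Share ξ ((z : ℝ) ^ 2 * (1 - 1 / ((Θ.card : ℝ) + 1)) / (D.K.relIndex D.S : ℝ)) := by
  have hb := values_on hc (ξ := ξ) (b := fun _ => z) (fun _ _ _ => rfl)
    (fun θ h => hz θ (Or.inl h)) (fun θ h => hz θ (Or.inr h))
  obtain ⟨c, hc'⟩ := D.exists_testVec hc.stable ξ _ hb
  refine ⟨D.testVec Θ c, fun a ha => D.testVec_supp hc.stable.triv c ha, le_trans (le_of_eq ?_) hc'⟩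
  rw [value_const Θ (fun _ => z) z fun _ _ => rfl]
  congr 2
  field_simp
  ring

/-- The share when the pairings are constant but on one orbit. -/
theorem share_exc (hc : D.Covered Θ) (ξ : G → ℂ) (K ε : ℤ) (hε : ε * ε = 1) (θe : ↥D.K →* ℂˣ)
    (h2 : 2 * (D.orbit Θ θe).card ≤ Θ.card) [DecidableEq (↥D.K →* ℂˣ)]
    (hz : ∀ θ, D.Good θ ∨ D.Free θ → Cfsg.classInner ξ (D.bigam θ) =
      ((K + if θ ∈ D.orbit Θ θe then ε else 0 : ℤ) : ℂ)) :
    D.Share ξ (((D.orbit Θ θe).card : ℝ)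
      * (1 - ((D.orbit Θ θe).card : ℝ) / ((Θ.card : ℝ) + 1)) / (D.K.relIndex D.S : ℝ)) := by
  have hb := values_on hc (ξ := ξ) (b := fun θ => K + if θ ∈ D.orbit Θ θe then ε else 0)
    (fun x θ hθ => by
      refine congrArg (K + ·) (if_congr ⟨fun h => ?_, fun h => ?_⟩ rfl rfl)
      · obtain ⟨-, y, hy⟩ := mem_orbit.1 h
        exact mem_orbit.2 ⟨hθ, x⁻¹ * y, by rw [D.tw_tw, hy, ← D.tw_tw, inv_mul_cancel, D.tw_id]⟩
      · obtain ⟨-, y, hy⟩ := mem_orbit.1 h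
        exact mem_orbit.2 ⟨hc.stable.tw_mem x θ hθ, x * y, by rw [D.tw_tw, hy]⟩)
    (fun θ h => hz θ (Or.inl h)) (fun θ h => hz θ (Or.inr h))
  obtain ⟨c, hc'⟩ := D.exists_testVec hc.stable ξ _ hb
  refine ⟨D.testVec Θ c, fun a ha => D.testVec_supp hc.stable.triv c ha, le_trans ?_ hc'⟩
  refine div_le_div_of_nonneg_right (le_trans (le_of_eq ?_) (value_exc Θ (D.orbit Θ θe)
    (fun θ h => (mem_orbit.1 h).1) _ K ε hε (fun _ _ => rfl) h2)) (Nat.cast_nonneg _)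
  ring

variable {χ : (↥(D.W₁ ⊔ D.W₂) →* ℂˣ) → (G → ℂ)}

/-- A grid character trivial on `W₂`. -/
theorem share_row (hc : D.Covered Θ) (hχ : Cfsg.IsCyclicTIFamily D.W₁ D.W₂ χ)
    {φ : ↥(D.W₁ ⊔ D.W₂) →* ℂˣ} (hφ : H43.TrivR φ) (hφ1 : φ ≠ 1) :
    D.Share (χ φ) ((1 - 1 / ((Θ.card : ℝ) + 1)) / (D.K.relIndex D.S : ℝ)) := by
  obtain ⟨χ₀, hg⟩ := hc.reg.exists_good
  obtain ⟨a, h1, h2⟩ := eta_row hc.reg hχ hg hφ hφ1
  obtain ⟨v, hv, hle⟩ := share_const hc (χ φ) ((Nat.card D.W₁ : ℤ) * a + 1)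
    fun θ h => h.elim (h1 θ) (h2 θ)
  refine ⟨v, hv, le_trans ?_ hle⟩
  refine div_le_div_of_nonneg_right (le_mul_of_one_le_left ?_ ?_) (Nat.cast_nonneg _)
  · rw [sub_nonneg, div_le_one (by positivity)]
    exact le_add_of_nonneg_left (Nat.cast_nonneg _)
  · have hne : (Nat.card D.W₁ : ℤ) * a + 1 ≠ 0 := fun e => by
      have h1 : (Nat.card D.W₁ : ℤ) ∣ 1 := ⟨-a, by linarith⟩
      have := D.hq.two_le
      have := Int.le_of_dvd one_pos h1
      omega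
    have h3 : (1 : ℤ) ≤ ((Nat.card D.W₁ : ℤ) * a + 1) ^ 2 := by
      nlinarith [Int.one_le_abs hne, sq_abs ((Nat.card D.W₁ : ℤ) * a + 1)]
    exact_mod_cast h3

/-- A grid character not trivial on `W₂`. -/
theorem share_col (hc : D.Covered Θ) (hχ : Cfsg.IsCyclicTIFamily D.W₁ D.W₂ χ)
    {φ ψ : ↥(D.W₁ ⊔ D.W₂) →* ℂˣ} (hφ : H43.TrivR φ) (hψ : H43.TrivL ψ) (hψ1 : ψ ≠ 1) :
    D.Share (χ (φ * ψ)) (1 / (Nat.card D.W₁ : ℝ)
      - (D.H.relIndex D.S : ℝ) / ((Nat.card D.W₁ : ℝ) * ((Θ.card : ℝ) + 1))) := by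
  classical
  obtain ⟨χ₀, hg⟩ := hc.reg.exists_good
  obtain ⟨K, ε, θe, hge, hε, h1, h2⟩ := eta_col hc.reg hχ hg hφ hψ hψ1
  obtain ⟨v, hv, hle⟩ := share_exc hc (χ (φ * ψ)) K ε hε θe (two_orbit_good hc hge) fun θ h => by
    rcases h with h | h
    · rw [h1 θ h]
      refine congrArg (fun z : ℤ => (z : ℂ)) (congrArg (K + ·) (if_congr ⟨fun e => ?_, fun e => ?_⟩ rfl rfl))
      · exact mem_orbit.2 ⟨hc.good_mem θ h, 1, by rw [D.tw_id, e]⟩
      · obtain ⟨-, x, hx⟩ := mem_orbit.1 e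
        by_contra hne
        exact D.nconj_good hc.reg hge h (Ne.symm hne) x hx
    · rw [h2 θ h, if_neg, add_zero]
      intro e
      obtain ⟨-, x, hx⟩ := mem_orbit.1 e
      exact D.nconj_good_free hge h x hx
  refine ⟨v, hv, le_trans (le_of_eq ?_) hle⟩
  rw [card_orbit_good hc hge, relIndex_K D, Nat.cast_mul]
  have hu : (D.H.relIndex D.S : ℝ) ≠ 0 := Nat.cast_ne_zero.2 Subgroup.FiniteIndex.index_ne_zero
  have hq : (Nat.card D.W₁ : ℝ) ≠ 0 := Nat.cast_ne_zero.2 Nat.card_pos.ne'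
  field_simp

/-- The character of a block. -/
theorem share_phi (hc : D.Covered Θ) (hχ : Cfsg.IsCyclicTIFamily D.W₁ D.W₂ χ) {B : Block G}
    (hB : D.Clear B) (hg : D.Good θ₀) :
    D.Share B.phi0 ((((Nat.card D.W₁ : ℤ) * coefB χ B hχ hg : ℤ) : ℝ) ^ 2
      * (1 - 1 / ((Θ.card : ℝ) + 1)) / (D.K.relIndex D.S : ℝ)) :=
  share_const hc B.phi0 _ (phi0_bigam hc.reg hχ hB hg)

/-- A free character. -/
theorem share_free (hc : D.Covered Θ) (hχ : Cfsg.IsCyclicTIFamily D.W₁ D.W₂ χ) (hg : D.Good θ₀)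
    {σ : ℤ} {ψ₁ : ↥(D.W₁ ⊔ D.W₂) →* ℂˣ}
    (hall : ∀ θ, D.Free θ → H43.Signed (D.freeChar χ θ₀ σ ψ₁ θ) ∧
      (∀ ω, Cfsg.classInner (D.freeChar χ θ₀ σ ψ₁ θ) (χ ω) = 0) ∧
      ∀ θ', D.Free θ' → D.NConj θ θ' →
        Cfsg.classInner (D.freeChar χ θ₀ σ ψ₁ θ) (D.freeChar χ θ₀ σ ψ₁ θ') = 0)
    (hf : D.Free θ₁) :
    D.Share (D.freeChar χ θ₀ σ ψ₁ θ₁)
      (1 - (D.K.relIndex D.S : ℝ) / ((Θ.card : ℝ) + 1)) := by
  classical
  obtain ⟨z, h1, h2⟩ := freeChar_bigam hc.reg hχ hg hall hf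
  obtain ⟨v, hv, hle⟩ := share_exc hc (D.freeChar χ θ₀ σ ψ₁ θ₁) z (-1) rfl θ₁ (two_orbit_free hc hf)
    fun θ h => by
      rcases h with h | h
      · rw [h1 θ h, if_neg, add_zero]
        intro e
        obtain ⟨-, x, hx⟩ := mem_orbit.1 e
        exact (D.nconj_good_free h hf).symm x hx
      · rw [h2 θ h]
        refine congrArg (fun z : ℤ => (z : ℂ)) (congrArg (z + ·) (if_congr ?_ rfl rfl))
        exact ⟨fun e => mem_orbit.2 ⟨hc.free_mem θ h, e⟩, fun e => (mem_orbit.1 e).2⟩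
  refine ⟨v, hv, le_trans (le_of_eq ?_) hle⟩
  rw [card_orbit_free hc hf]
  have hu : (D.K.relIndex D.S : ℝ) ≠ 0 := Nat.cast_ne_zero.2 Subgroup.FiniteIndex.index_ne_zero
  field_simp

/-- With no free character all of `Θ` consists of fixed orbits. -/
theorem card_of_no_free (hc : D.Covered Θ) (h : ∀ θ, ¬ D.Free θ) :
    Θ.card ≤ (Nat.card D.W₂ - 1) * D.H.relIndex D.S := by
  classical
  have hfin : Fintype (↥D.K →* ℂˣ) := Fintype.ofFinite _
  set Gs := (Finset.univ : Finset (↥D.K →* ℂˣ)).filter D.Good with hGs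
  have hle : Θ ⊆ Gs.biUnion fun θ₀ => D.orbit Θ θ₀ := by
    intro θ hθ
    obtain ⟨x, hx⟩ := (hc.cases θ hθ).resolve_right (h θ)
    exact mem_biUnion.2 ⟨D.tw x θ, mem_filter.2 ⟨mem_univ _, hx⟩,
      mem_orbit.2 ⟨hθ, x⁻¹, by rw [← D.tw_tw, inv_mul_cancel, D.tw_id]⟩⟩
  have hcard : Gs.card ≤ Nat.card D.W₂ - 1 := by
    rw [← (PF3.card_trivR_trivL D.hW).2, ← Fintype.card_coe, ← Nat.card_eq_fintype_card]
    have hsub : Nat.card {ψ : ↥(D.W₁ ⊔ D.W₂) →* ℂˣ // H43.TrivL ψ} - 1 =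
        Nat.card {ψ : ↥(D.W₁ ⊔ D.W₂) →* ℂˣ // H43.TrivL ψ ∧ ψ ≠ 1} := by
      rw [Nat.card_eq_fintype_card, Nat.card_eq_fintype_card, Fintype.card_subtype,
        Fintype.card_subtype, ← card_erase_of_mem (mem_filter.2 ⟨mem_univ _, H43.trivL_one⟩)]
      congr 1
      ext ψ
      simp [and_comm]
    rw [hsub]
    exact Nat.card_le_card_of_injective
      (fun θ => ⟨D.psi θ.1, D.psi_trivL θ.1, ((mem_filter.1 θ.2).2).psi_ne_one⟩)
      fun a b e => Subtype.ext ((mem_filter.1 a.2).2.psi_inj (mem_filter.1 b.2).2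
        (congrArg Subtype.val e))
  refine (card_le_card hle).trans ((card_biUnion_le).trans ?_)
  refine le_trans (le_of_eq (sum_congr rfl fun θ hθ => card_orbit_good hc (mem_filter.1 hθ).2)) ?_
  rw [sum_const, smul_eq_mul]
  exact Nat.mul_le_mul_right _ hcard

end Side

end Cfsg.Agent.OddOrder.PF14
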