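import Cfsg.Agent.OddOrder.PF14.SideInst
import Cfsg.Agent.OddOrder.PF14.SideShare
import Cfsg.Agent.OddOrder.PF14.NumAssembly

/-!
# Peterfalvi section 14: the side `K = P C` for any `C`, and two sides as a `Setup`

`covered_sideK` needs nothing on `C`; `mul_pred_le` and `pred_pow_le` bound the number of covered
characters; `mkSetup` puts two sides with exchanged `W₁`, `W₂` together with any blocks clear of both.
-/

set_option autoImplicit false
set_option linter.unusedSectionVars false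
set_option linter.style.haveILetI false

namespace Cfsg.Agent.OddOrder.PF14

open Subgroup
open Cfsg.Agent Cfsg.Agent.OddOrder

universe u

variable {G : Type u} [Group G]

local notation "P[" S "]" => Cfsg.fittingHallOf S
local notation "C[" S ", " U "]" => (U ⊓ Subgroup.centralizer (Cfsg.fittingHallOf S : Set _))

namespace SideData

variable [Fintype G] {S W₁ U W₂ : Subgroup G} (d : SideData S W₁ U W₂)

include d

/-- The side `K = P C`, `N₀ = C` is covered. -/
theorem covered_sideK : d.sideK.Covered (d.theta d.pair_sup) where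
  reg := d.regular_sideK
  stable := d.stable_theta d.pair_sup
  good_mem _ hg := d.good_mem_theta d.pair_sup hg
  free_mem θ hf := by
    refine (d.mem_theta d.pair_sup).2 ⟨hf.triv, d.mem_covered.2
      ⟨d.res_ne_one d.pair_sup hf.triv hf.ne_one, fun u hu e => ?_⟩⟩
    have h1 : (u : G) ∈ d.sideK.K := hf.stab u
      (d.res_inj d.pair_sup (d.triv_tw d.pair_sup u hf.triv) hf.triv
        ((d.res_tw d.pair_sup u θ).trans e))
    obtain ⟨a, ha, c, hc, hu'⟩ := d.K_decomp d.pair_sup h1
    have h2 : a ∈ P[S] ⊓ U := ⟨ha, by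
      rw [show a = (u : G) * c⁻¹ by rw [hu', mul_inv_cancel_right]]
      exact U.mul_mem hu (U.inv_mem (Subgroup.mem_inf.1 hc).1)⟩
    rw [d.hP.U_compl.2.2.1, mem_bot] at h2
    rw [hu', h2, one_mul]
    exact hc.2
  cases _ hθ := d.theta_cases d.pair_sup le_rfl hθ

/-- `[U : C] (p - 1)` is at most one more than the number of covered characters. -/
theorem mul_pred_le : C[S, U].relIndex U * (Nat.card W₂ - 1) ≤
    (d.theta d.pair_sup).card + 1 := by
  rw [d.card_theta]
  have hp := d.facts.p_prime.two_le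
  rcases d.facts.cases with ⟨hdvd, -, -, -, hc⟩ | ⟨⟨a, ha, ha1, -, hdvd⟩, hc⟩
  · rw [hc, Nat.sub_add_cancel (Nat.one_le_pow _ _ (by omega))]
    refine le_trans (Nat.mul_le_mul_right _ (Nat.le_of_dvd ?_ hdvd)) (Nat.div_mul_le_self _ _ |>.trans
      (Nat.sub_le _ _))
    exact Nat.div_pos (Nat.sub_le_sub_right (Nat.le_self_pow d.facts.q_prime.ne_zero _) _) (by omega)
  · refine le_trans ?_ (hc.trans (Nat.le_succ _))
    refine le_trans (Nat.mul_le_mul_right _ ((Nat.le_of_dvd (pow_pos (by omega) _) hdvd).trans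
      (Nat.pow_le_pow_left (Nat.le_of_dvd (by omega) ha) _))) ?_
    rw [← pow_succ, Nat.sub_add_cancel d.facts.q_prime.one_le]

/-- The number of covered characters is at least `(p - 1) ^ q`, less one. -/
theorem pred_pow_le : (Nat.card W₂ - 1) ^ Nat.card W₁ ≤ (d.theta d.pair_sup).card + 1 := by
  rw [d.card_theta]
  have hp := d.facts.p_prime.two_le
  rcases d.facts.cases with ⟨-, -, -, -, hc⟩ | ⟨-, hc⟩
  · rw [hc, Nat.sub_add_cancel (Nat.one_le_pow _ _ (by omega))]
    exact Nat.pow_le_pow_left (Nat.sub_le _ _) _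
  · exact hc.trans (Nat.le_succ _)

theorem relIndex_sideK : d.sideK.H.relIndex d.sideK.S = C[S, U].relIndex U :=
  d.relIndex_H d.pair_sup

end SideData

open scoped Classical in
/-- Two sides with exchanged `W₁`, `W₂` and blocks clear of both. -/
noncomputable def mkSetup [Fintype G] {S T U V W₁ W₂ K N K' N' : Subgroup G}
    (d : SideData S W₁ U W₂) (d' : SideData T W₂ V W₁) (h : SidePair S U K N)
    (h' : SidePair T V K' N') {χ : (↥(W₁ ⊔ W₂) →* ℂˣ) → (G → ℂ)}
    (hχ : Cfsg.IsCyclicTIFamily W₁ W₂ χ)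
    {ΘS : Finset (↥K →* ℂˣ)} (covS : (d.side h).Covered ΘS)
    {ΘT : Finset (↥K' →* ℂˣ)} (covT : (d'.side h').Covered ΘT)
    {ι : Type} [Fintype ι] [DecidableEq ι] (B : ι → Block G)
    (hd : ∀ X Y, X ≠ Y → Disjoint (B X).Ω (B Y).Ω) (hS : ∀ X, (d.side h).Clear (B X))
    (hT : ∀ X, (d'.side h').Clear (B X)) (hST : Disjoint (d.side h).part (d'.side h').part) :
    Setup G ι where
  DS := d.side h
  DT := d'.side h'
  χS := χ
  χT := swapFam χ
  hχS := hχ
  hχT := swapFam_isFamily hχ
  link ω := ω.comp (swapW W₁ W₂).toMonoidHom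
  link_mul _ _ := rfl
  link_surj ω := ⟨ω.comp (swapW W₁ W₂).symm.toMonoidHom,
    MonoidHom.ext fun w => congrArg ω ((swapW W₁ W₂).symm_apply_apply w)⟩
  link_fam _ := rfl
  link_trivR ω hω w hw := hω _ hw
  link_trivL ω hω w hw := hω _ hw
  card_W₁ := rfl
  card_W₂ := rfl
  partW_eq := by
    ext a
    exact ⟨fun ⟨x, w, hw, h1, h2, e⟩ => ⟨x, w, sup_comm W₂ W₁ ▸ hw, h2, h1, e⟩,
      fun ⟨x, w, hw, h1, h2, e⟩ => ⟨x, w, sup_comm W₁ W₂ ▸ hw, h2, h1, e⟩⟩
  ΘS := ΘS
  ΘT := ΘT
  covS := covS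
  covT := covT
  B := B
  disj := hd
  clearS := hS
  clearT := hT
  disjST := hST

end Cfsg.Agent.OddOrder.PF14
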