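import Cfsg.Agent.OddOrder.PF14.SuppGroup
import Cfsg.Agent.OddOrder.PF14.BlockInst
import Cfsg.Agent.OddOrder.PF14.BlockGrid
import Cfsg.Agent.OddOrder.BG14.Cover

/-!
# Peterfalvi section 14: the partition of `G ∖ 1`

`G ∖ 1` is the disjoint union of the conjugates of `W'' = W₁ W₂ ∖ (W₁ ∪ W₂)`, of `S_σ ∖ 1`, of
`T_σ ∖ 1`, and of the sets `omega L = tildeOf L (L_F ∖ 1)` for the classes of Type I maximal subgroups
(`TypeIClass G`).  Counting gives the identity `NumData.cover`.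
-/

set_option autoImplicit false
set_option linter.unusedSectionVars false
set_option linter.style.haveILetI false

namespace Cfsg.Agent.OddOrder.PF14

open Subgroup
open Cfsg.Agent Cfsg.Agent.OddOrder

universe u

variable {G : Type u} [Group G]

/-- The conjugates of the elements of a set. -/
def partConj (A : Set G) : Set G := {g | ∃ a ∈ A, ∃ y : G, g = y * a * y⁻¹}

theorem partConj_mono {A B : Set G} (h : A ⊆ B) : partConj A ⊆ partConj B :=
  fun _ ⟨a, ha, y, e⟩ => ⟨a, h ha, y, e⟩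

theorem mem_partConj {A : Set G} {a : G} (h : a ∈ A) : a ∈ partConj A := ⟨a, h, 1, by group⟩

theorem conj_mem_partConj {A : Set G} {g : G} (h : g ∈ partConj A) (x : G) :
    x * g * x⁻¹ ∈ partConj A := by
  obtain ⟨a, ha, y, rfl⟩ := h
  exact ⟨a, ha, x * y, by group⟩

/-- The conjugates of the elements of `W₁ W₂` outside `W₁ ∪ W₂`. -/
def wPart (W₁ W₂ : Subgroup G) : Set G :=
  partConj ((↑(W₁ ⊔ W₂) : Set G) \ ((W₁ : Set G) ∪ ↑W₂))

/-- The set of a maximal subgroup of Type I. -/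
noncomputable def omega (L : Subgroup G) : Set G :=
  Cfsg.tildeOf L ((Cfsg.fittingHallOf L : Set G) \ {1})

/-- A block whose set avoids `wPart` avoids the grid. -/
theorem avoid_of_disjoint [Fintype G] {B : Block G} {W₁ W₂ : Subgroup G}
    (h : Disjoint (wPart W₁ W₂) B.Ω) : B.Avoid W₁ W₂ := fun w h1 h2 =>
  Set.disjoint_left.1 h (mem_partConj ⟨w.2, fun h' => h'.elim h1 h2⟩)

/-- The weight of a block in terms of the order of its kernel. -/
theorem Block.w_eq_card [Fintype G] (B : Block G) :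
    B.w = ((Nat.card B.H : ℚ) - 1) / ((Nat.card B.H : ℚ) * B.e) := by
  have he : (B.e : ℚ) ≠ 0 := Nat.cast_ne_zero.2 B.H.index_ne_zero_of_finite
  rw [Block.w, ← B.card_H]
  push_cast
  rw [add_sub_cancel_right, mul_div_mul_right _ _ he]

/-! ### The classes of maximal subgroups of Type I -/

/-- Conjugacy of maximal subgroups of Type I. -/
def typeISetoid (G : Type u) [Group G] : Setoid {L : Subgroup G // IsCoatom L ∧ IsTypeI L} where
  r L N := ∃ g : G, N.1 = L.1.map (MulAut.conj g).toMonoidHom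
  iseqv :=
    ⟨fun L => ⟨1, (Coprime.map_conj_one L.1).symm⟩,
      fun ⟨g, hg⟩ => ⟨g⁻¹, by
        rw [hg, Coprime.map_conj_map_conj, inv_mul_cancel, Coprime.map_conj_one]⟩,
      fun ⟨g, hg⟩ ⟨g', hg'⟩ => ⟨g' * g, by rw [hg', hg, Coprime.map_conj_map_conj]⟩⟩

/-- The classes of maximal subgroups of Type I. -/
def TypeIClass (G : Type u) [Group G] : Type u := Quotient (typeISetoid G)

noncomputable instance [Finite G] : Fintype (TypeIClass G) :=
  haveI : Finite (TypeIClass G) := inferInstanceAs (Finite (Quotient (typeISetoid G)))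
  Fintype.ofFinite _

noncomputable instance : DecidableEq (TypeIClass G) := Classical.decEq _

namespace TypeIClass

/-- A representative of the class. -/
noncomputable def rep (i : TypeIClass G) : Subgroup G := (Quotient.out i).1

theorem rep_coatom (i : TypeIClass G) : IsCoatom i.rep := (Quotient.out i).2.1

theorem rep_typeI (i : TypeIClass G) : IsTypeI i.rep := (Quotient.out i).2.2

theorem exists_rep {L : Subgroup G} (hL : IsCoatom L) (hI : IsTypeI L) :
    ∃ (i : TypeIClass G) (g : G), L = i.rep.map (MulAut.conj g).toMonoidHom :=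
  ⟨Quotient.mk (typeISetoid G) ⟨L, hL, hI⟩,
    Quotient.exact (s := typeISetoid G)
      (Quotient.out_eq (Quotient.mk (typeISetoid G) ⟨L, hL, hI⟩))⟩

theorem not_conj {i j : TypeIClass G} (h : i ≠ j) (g : G) :
    j.rep ≠ i.rep.map (MulAut.conj g).toMonoidHom := fun e => h <| by
  rw [← Quotient.out_eq i, ← Quotient.out_eq j]
  exact Quotient.sound (s := typeISetoid G) ⟨g, e⟩

end TypeIClass

variable [Finite G] (hG : Cfsg.IsMinSimpleOddOrder G) (F : BG16.SectionFacts G)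

include hG F

/-- `L_σ = L_F` for `L` of Type I. -/
theorem sigmaCore_typeI {L : Subgroup G} (hL : IsCoatom L) (hI : IsTypeI L) :
    Cfsg.sigmaCore L = Cfsg.fittingHallOf L := by
  rw [← BG16.typeCore_eq hG F hL, PF8.typeCore_eq_core (Or.inl hI)]

theorem omega_eq_tilde {L : Subgroup G} (hL : IsCoatom L) (hI : IsTypeI L) :
    omega L = Cfsg.tildeOf L ((Cfsg.sigmaCore L : Set G) \ {1}) := by
  rw [sigmaCore_typeI hG F hL hI, omega]

/-- `omega` only depends on the class. -/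
theorem omega_map {L : Subgroup G} (hL : IsCoatom L) (hI : IsTypeI L) (g : G)
    (hI' : IsTypeI (L.map (MulAut.conj g).toMonoidHom)) :
    omega (L.map (MulAut.conj g).toMonoidHom) = omega L := by
  rw [omega_eq_tilde hG F (OddOrder.isCoatom_map _ hL) hI', omega_eq_tilde hG F hL hI,
    PF10.tilde_map hG hL]

/-- A maximal subgroup of Type I has the set of some representative. -/
theorem exists_omega_eq {L : Subgroup G} (hL : IsCoatom L) (hI : IsTypeI L) :
    ∃ i : TypeIClass G, omega L = omega i.rep := by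
  obtain ⟨i, g, rfl⟩ := TypeIClass.exists_rep hL hI
  exact ⟨i, omega_map hG F i.rep_coatom i.rep_typeI g hI⟩

/-- `|omega L| = (|L_F| - 1) [G : L]`. -/
theorem ncard_omega {L : Subgroup G} (hL : IsCoatom L) (hI : IsTypeI L) :
    (omega L).ncard = (Nat.card (Cfsg.fittingHallOf L) - 1) * L.index := by
  rw [omega_eq_tilde hG F hL hI, BG14.card_tilde hG (BG14.tildeFacts hG) hL,
    sigmaCore_typeI hG F hL hI]

/-- The sets of two classes are disjoint. -/
theorem omega_disjoint {i j : TypeIClass G} (h : i ≠ j) :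
    Disjoint (omega i.rep) (omega j.rep) := by
  rw [Set.disjoint_iff_inter_eq_empty, omega_eq_tilde hG F i.rep_coatom i.rep_typeI,
    omega_eq_tilde hG F j.rep_coatom j.rep_typeI]
  exact BG14.tilde_disjoint (BG14.tildeFacts hG) i.rep_coatom j.rep_coatom
    (TypeIClass.not_conj h)

omit hG F in
/-- `omega L` is the set of the Dade block of `L`. -/
theorem dadeSupp_eq_omega
    (hfrob : ∀ L : Subgroup G, IsCoatom L → IsTypeI L → ∀ x ∈ Cfsg.fittingHallOf L, x ≠ 1 →
      L ⊓ centralizer ({x} : Set G) ≤ Cfsg.fittingHallOf L)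
    {L : Subgroup G} (hL : IsCoatom L) (hI : IsTypeI L) :
    H43.dadeSupp (setA L) (Cfsg.supportR L) = omega L := by
  rw [PF10.dadeSupp_eq_tildeOf, (setA_typeI hfrob hL hI).1, omega]

/-- The weight of a class is its share of `G`. -/
theorem omega_weight {L : Subgroup G} (hL : IsCoatom L) (hI : IsTypeI L) :
    ((omega L).ncard : ℚ) / Nat.card G =
      ((Nat.card (Cfsg.fittingHall L) : ℚ) - 1) /
        ((Nat.card (Cfsg.fittingHall L) : ℚ) * (Cfsg.fittingHall L).index) := by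
  have hc : Nat.card (Cfsg.fittingHallOf L) = Nat.card (Cfsg.fittingHall L) :=
    Cores.card_map_eq _ L.subtype_injective
  have h1 : 1 ≤ Nat.card (Cfsg.fittingHall L) := Nat.card_pos
  rw [ncard_omega hG F hL hI, hc, ← L.card_mul_index, ← (Cfsg.fittingHall L).card_mul_index,
    Nat.cast_mul, Nat.cast_mul, Nat.cast_mul, Nat.cast_sub h1, Nat.cast_one,
    mul_div_mul_right _ _ (Nat.cast_ne_zero.2 L.index_ne_zero_of_finite)]

section TypeP

variable {M U W₁ W₂ : Subgroup G} (hM : IsCoatom M) (hP : Cfsg.IsTypePWith M W₁ U W₂)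
include hM

/-- `M_σ ∖ 1 ⊆ A₀(M)`. -/
theorem sigma_subset_setA0 : (Cfsg.sigmaCore M : Set G) \ {1} ⊆ setA0 M := fun _ ha =>
  PF8.typeA1_subset_typeA0 ((F.s1355 M hM).2.1.trans (F.s1355 M hM).2.2.1)
    ((BG16.mem_typeA1_iff hG F hM).2 ⟨ha.1, ha.2⟩)

/-- `M_F ∖ 1 ⊆ M_σ ∖ 1`. -/
theorem core_subset_sigma :
    (Cfsg.fittingHallOf M : Set G) \ {1} ⊆ (Cfsg.sigmaCore M : Set G) \ {1} :=
  fun _ ha => ⟨(F.s1355 M hM).2.1 ha.1, ha.2⟩

include hP

/-- The sets of a Type I and a type P maximal subgroup are disjoint. -/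
theorem omega_disjoint_sigma
    (hfrob : ∀ L : Subgroup G, IsCoatom L → IsTypeI L → ∀ x ∈ Cfsg.fittingHallOf L, x ≠ 1 →
      L ⊓ centralizer ({x} : Set G) ≤ Cfsg.fittingHallOf L)
    {L : Subgroup G} (hL : IsCoatom L) (hI : IsTypeI L) :
    Disjoint (omega L) (partConj ((Cfsg.sigmaCore M : Set G) \ {1})) := by
  have hκ := kappa_nonempty hG F hM hP
  rw [Set.disjoint_iff_inter_eq_empty, omega_eq_tilde hG F hL hI, partConj,
    ← tilde_typeP hG F hfrob hM hκ]
  refine BG14.tilde_disjoint (BG14.tildeFacts hG) hL hM fun g e => hκ.ne_empty ?_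
  rw [e, PF8.kappa_map]
  exact (BG16.typeI_iff hG F hL).1 hI

variable (hfrob : ∀ L : Subgroup G, IsCoatom L → IsTypeI L → ∀ x ∈ Cfsg.fittingHallOf L, x ≠ 1 →
  L ⊓ centralizer ({x} : Set G) ≤ Cfsg.fittingHallOf L)
include hfrob

/-- A conjugation carrying an element of `A₀(M)` into `A₀(M)` lies in `M`. -/
theorem mem_of_conj_setA0 {g x : G} (hx : x ∈ setA0 M) (hgx : g * x * g⁻¹ ∈ setA0 M) : g ∈ M := by
  obtain ⟨hTI, hN⟩ := setA0_ti hG F hfrob hM (kappa_nonempty hG F hM hP)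
  by_contra hg
  exact PF8.one_not_mem_typeA0 M (hTI g (hN.symm ▸ hg) x hx hgx ▸ hx)

/-- Counting the conjugates of an invariant subset of `A₀(M)`. -/
theorem ncard_partConj {A : Set G} (hA : A ⊆ setA0 M)
    (hinv : ∀ m ∈ M, ∀ a ∈ A, m * a * m⁻¹ ∈ A) :
    (partConj A).ncard = A.ncard * M.index := by
  rw [← BG14.ncard_conj_ti A M hinv
    fun g s hs h => mem_of_conj_setA0 hG F hM hP hfrob (hA hs) (hA h)]
  congr 1
  ext a
  exact ⟨fun ⟨s, hs, y, e⟩ => ⟨y, s, hs, e⟩, fun ⟨y, s, hs, e⟩ => ⟨s, hs, y, e⟩⟩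

/-- The share of `G` of the conjugates of `M_F ∖ 1`. -/
theorem core_weight :
    ((partConj ((Cfsg.fittingHallOf M : Set G) \ {1})).ncard : ℚ) / Nat.card G =
      (1 - 1 / (Nat.card (Cfsg.fittingHallOf M) : ℚ)) / ((Nat.card U : ℚ) * Nat.card W₁) := by
  rw [ncard_partConj hG F hM hP hfrob
    ((core_subset_sigma hG F hM).trans (sigma_subset_setA0 hG F hM))
    fun m hm a ha => ⟨Coprime.conj_mem (TypeP.le_normalizer_core M hm) ha.1,
      fun e => ha.2 (conj_eq_one_iff.1 e)⟩,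
    Set.ncard_sdiff_singleton_of_mem (one_mem _), ← Nat.card_coe_set_eq, SetLike.coe_sort_coe,
    ← M.card_mul_index, Nat.cast_mul, Nat.cast_mul, TypeP.card_eq hP, TypeP.card_derived hP,
    Nat.cast_sub Nat.card_pos, mul_div_mul_right _ _ (Nat.cast_ne_zero.2 M.index_ne_zero_of_finite)]
  push_cast
  have h : (Nat.card (Cfsg.fittingHallOf M) : ℚ) ≠ 0 := Nat.cast_ne_zero.2 Nat.card_pos.ne'
  field_simp

variable (hII : ¬ Cfsg.IsOfTypeII M)
include hII

/-- For `M` not of Type II: the conjugates of `M_σ ∖ 1` split along `M_F`. -/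
theorem partConj_sigma_split :
    partConj ((Cfsg.sigmaCore M : Set G) \ {1}) =
        partConj ((Cfsg.fittingHallOf M : Set G) \ {1}) ∪
          partConj ((↑⁅M, M⁆ : Set G) \ ↑(Cfsg.fittingHallOf M)) ∧
      Disjoint (partConj ((Cfsg.fittingHallOf M : Set G) \ {1}))
        (partConj ((↑⁅M, M⁆ : Set G) \ ↑(Cfsg.fittingHallOf M))) := by
  obtain ⟨hder, -, -, -⟩ := PF10.nonII_facts hG F hM hP hII
  refine ⟨Set.Subset.antisymm ?_ (Set.union_subset (partConj_mono (core_subset_sigma hG F hM))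
    (partConj_mono fun a ha => ⟨hder ▸ ha.1, fun e => ha.2 ?_⟩)), Set.disjoint_left.2 ?_⟩
  · rintro _ ⟨a, ha, y, rfl⟩
    by_cases h : a ∈ Cfsg.fittingHallOf M
    · exact Or.inl ⟨a, ⟨h, ha.2⟩, y, rfl⟩
    · exact Or.inr ⟨a, ⟨hder ▸ ha.1, h⟩, y, rfl⟩
  · rw [Set.mem_singleton_iff.1 e]
    exact one_mem _
  · rintro _ ⟨a, ha, y, rfl⟩ ⟨b, hb, z, e⟩
    have hb1 : b ≠ 1 := fun e' => hb.2 (e' ▸ one_mem _)
    have hg : b = z⁻¹ * y * a * (z⁻¹ * y)⁻¹ :=
      calc b = z⁻¹ * (z * b * z⁻¹) * z := by group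
        _ = _ := by rw [← e]; group
    have hbA : b ∈ setA0 M := sigma_subset_setA0 hG F hM ⟨hder ▸ hb.1, hb1⟩
    have hm : z⁻¹ * y ∈ M := mem_of_conj_setA0 hG F hM hP hfrob
      (sigma_subset_setA0 hG F hM (core_subset_sigma hG F hM ha)) (hg ▸ hbA)
    exact hb.2 (hg ▸ Coprime.conj_mem (TypeP.le_normalizer_core M hm) ha.1)

/-- The share of `G` of the conjugates of `M' ∖ M_F`. -/
theorem derived_weight :
    ((partConj ((↑⁅M, M⁆ : Set G) \ ↑(Cfsg.fittingHallOf M))).ncard : ℚ) / Nat.card G =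
      ((Nat.card U : ℚ) - 1) / ((Nat.card U : ℚ) * Nat.card W₁) := by
  obtain ⟨hder, -, -, -⟩ := PF10.nonII_facts hG F hM hP hII
  have hle := TypeP.core_le_derived hP
  rw [ncard_partConj hG F hM hP hfrob (A := (↑⁅M, M⁆ : Set G) \ ↑(Cfsg.fittingHallOf M))
    (fun a ha => sigma_subset_setA0 hG F hM ⟨hder ▸ ha.1, fun e => ha.2 (by
      rw [Set.mem_singleton_iff.1 e]; exact one_mem _)⟩)
    fun m hm a ha => ⟨Coprime.conj_mem (TypeP.le_normalizer_derived M hm) ha.1, fun h => ha.2 (by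
      simpa [mul_assoc] using Coprime.conj_mem (TypeP.le_normalizer_core M (inv_mem hm)) h)⟩,
    Set.ncard_sdiff (SetLike.coe_subset_coe.2 hle), ← Nat.card_coe_set_eq, ← Nat.card_coe_set_eq,
    SetLike.coe_sort_coe, SetLike.coe_sort_coe, ← M.card_mul_index, Nat.cast_mul, Nat.cast_mul,
    Nat.cast_sub (Nat.le_of_dvd Nat.card_pos (card_dvd_of_le hle)), TypeP.card_eq hP,
    TypeP.card_derived hP,
    mul_div_mul_right _ _ (Nat.cast_ne_zero.2 M.index_ne_zero_of_finite)]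
  push_cast
  have h : (Nat.card (Cfsg.fittingHallOf M) : ℚ) ≠ 0 := Nat.cast_ne_zero.2 Nat.card_pos.ne'
  field_simp

end TypeP

/-- The set of the block `M / M_F`. -/
theorem quotΩ_eq {M : Subgroup G} {Q K : Subgroup M} [Q.Normal]
    (hQ : Q.map M.subtype = Cfsg.fittingHallOf M) (hK : K.map M.subtype = ⁅M, M⁆) :
    quotΩ M Q K = partConj ((↑⁅M, M⁆ : Set G) \ ↑(Cfsg.fittingHallOf M)) := by
  ext g
  rw [← hQ, ← hK]
  constructor
  · rintro ⟨x, t, htK, htQ, e⟩
    refine ⟨t, ⟨mem_map_of_mem _ htK, fun h => htQ ?_⟩, x⁻¹, by rw [← e]; group⟩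
    exact (mem_map_iff_mem M.subtype_injective).1 h
  · rintro ⟨_, ⟨⟨t, htK, rfl⟩, htQ⟩, y, rfl⟩
    exact ⟨y⁻¹, t, htK, fun h => htQ (mem_map_of_mem _ h), by simp [mul_assoc]⟩

section Pair

variable (hfrob : ∀ L : Subgroup G, IsCoatom L → IsTypeI L → ∀ x ∈ Cfsg.fittingHallOf L, x ≠ 1 →
  L ⊓ centralizer ({x} : Set G) ≤ Cfsg.fittingHallOf L)
variable {S T U V W₁ W₂ : Subgroup G} (hS : IsCoatom S) (hT : IsCoatom T)
  (hSP : Cfsg.IsTypePWith S W₁ U W₂) (hTP : Cfsg.IsTypePWith T W₂ V W₁)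
include hS hSP

/-- A conjugate of an element of `W''` is in no tilde set. -/
theorem wPart_disjoint_tilde {N : Subgroup G} (hN : IsCoatom N) :
    Disjoint (wPart W₁ W₂) (Cfsg.tildeOf N ((Cfsg.sigmaCore N : Set G) \ {1})) := by
  obtain ⟨⟨U', hd⟩, hk, -, -⟩ := decomp_of_typeP hG F hS hSP
  refine Set.disjoint_left.2 ?_
  rintro _ ⟨w, hw, y, rfl⟩
  exact (BG14.cover (BG14.inputs hG) hS hd hSP.W₁_ne).2 N hN y w
    (by show w ∈ _; simp only [BG14.zHat, BG14.kStar, hk]; exact hw)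

/-- The conjugates of `W''` and the set of a maximal subgroup of Type I. -/
theorem wPart_disjoint_omega {L : Subgroup G} (hL : IsCoatom L) (hI : IsTypeI L) :
    Disjoint (wPart W₁ W₂) (omega L) := by
  rw [omega_eq_tilde hG F hL hI]
  exact wPart_disjoint_tilde hG F hS hSP hL

include hfrob

/-- The conjugates of `W''` and of `M_σ ∖ 1` for `M` of type P. -/
theorem wPart_disjoint_sigma {M : Subgroup G} (hM : IsCoatom M) (hκ : (Cfsg.kappa M).Nonempty) :
    Disjoint (wPart W₁ W₂) (partConj ((Cfsg.sigmaCore M : Set G) \ {1})) := by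
  rw [partConj, ← tilde_typeP hG F hfrob hM hκ]
  exact wPart_disjoint_tilde hG F hS hSP hM

include hT hTP

omit hfrob in
/-- `S` and `T` form a pair. -/
theorem pair_ST : BG14.Pair S W₁ T := by
  obtain ⟨⟨U', hd⟩, hk, -, -⟩ := decomp_of_typeP hG F hS hSP
  obtain ⟨-, hkT, -, -⟩ := decomp_of_typeP hG F hT hTP
  exact (BG14.pair_of_star (BG14.inputs hG) hS hd hSP.W₁_ne hT (by
    rw [show BG14.kStar S W₁ = W₂ from hk, hkT])).1

omit hfrob in
/-- `S` and `T` are not conjugate. -/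
theorem not_conj_ST (g : G) : T ≠ S.map (MulAut.conj g).toMonoidHom := by
  intro e
  have P := pair_ST hG F hS hT hSP hTP
  obtain ⟨w, hw, hwp⟩ := BG14.exists_mem_orderOf_prime hSP.selfNormalizing.2.1
  have h := BG14.sigma_of_mem ((F.s1355 S hS).2.1 (TypeP.W₂_le_core hSP hw)) hwp dvd_rfl
  exact P.disjoint (BG14.inputs hG) _ h (by rw [e, BG14.sigma_map_conj]; exact h)

/-- The conjugates of `S_σ ∖ 1` and of `T_σ ∖ 1` are disjoint. -/
theorem sigma_disjoint :
    Disjoint (partConj ((Cfsg.sigmaCore S : Set G) \ {1}))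
      (partConj ((Cfsg.sigmaCore T : Set G) \ {1})) := by
  rw [Set.disjoint_iff_inter_eq_empty, partConj, partConj,
    ← tilde_typeP hG F hfrob hS (kappa_nonempty hG F hS hSP),
    ← tilde_typeP hG F hfrob hT (kappa_nonempty hG F hT hTP)]
  exact BG14.tilde_disjoint (BG14.tildeFacts hG) hS hT (not_conj_ST hG F hS hT hSP hTP)

/-- The parts cover `G ∖ 1`. -/
theorem cover_parts {g : G} (hg : g ≠ 1) :
    g ∈ wPart W₁ W₂ ∪ partConj ((Cfsg.sigmaCore S : Set G) \ {1}) ∪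
      partConj ((Cfsg.sigmaCore T : Set G) \ {1}) ∪ ⋃ i : TypeIClass G, omega i.rep := by
  obtain ⟨⟨U', hd⟩, hk, -, -⟩ := decomp_of_typeP hG F hS hSP
  rcases (BG14.cover (BG14.inputs hG) hS hd hSP.W₁_ne).1 g hg with ⟨N, hN, hgN⟩ | ⟨y, z, hz, rfl⟩
  · replace hgN : g ∈ Cfsg.tildeOf N ((Cfsg.sigmaCore N : Set G) \ {1}) := hgN
    rcases maximal_cases hG F hS hT hSP hTP hN with hI | ⟨x, rfl | rfl⟩
    · obtain ⟨i, e⟩ := exists_omega_eq hG F hN hI
      refine Or.inr (Set.mem_iUnion.2 ⟨i, e ▸ ?_⟩)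
      rwa [omega_eq_tilde hG F hN hI]
    · rw [PF10.tilde_map hG hS, tilde_typeP hG F hfrob hS (kappa_nonempty hG F hS hSP)] at hgN
      exact Or.inl (Or.inl (Or.inr hgN))
    · rw [PF10.tilde_map hG hT, tilde_typeP hG F hfrob hT (kappa_nonempty hG F hT hTP)] at hgN
      exact Or.inl (Or.inr hgN)
  · refine Or.inl (Or.inl (Or.inl ⟨z, ?_, y, rfl⟩))
    simpa only [BG14.zHat, BG14.kStar, hk] using hz

omit hfrob in
/-- The share of `G` of the conjugates of `W''`. -/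
theorem wPart_weight :
    ((wPart W₁ W₂).ncard : ℚ) / Nat.card G =
      1 - 1 / (Nat.card W₁ : ℚ) - 1 / (Nat.card W₂ : ℚ) +
        1 / ((Nat.card W₁ : ℚ) * Nat.card W₂) := by
  obtain ⟨⟨U', hd⟩, hk, -, -⟩ := decomp_of_typeP hG F hS hSP
  have P := pair_ST hG F hS hT hSP hTP
  have I := BG14.inputs hG
  have hst : BG14.kStar S W₁ = W₂ := hk
  have he : wPart W₁ W₂ = {a : G | ∃ g : G, ∃ s ∈ BG14.zHat S W₁, a = g * s * g⁻¹} := by
    ext a
    simp only [wPart, partConj, BG14.zHat, hst, Set.mem_ofPred_eq]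
    exact ⟨fun ⟨s, hs, y, e⟩ => ⟨y, s, hs, e⟩, fun ⟨y, s, hs, e⟩ => ⟨s, hs, y, e⟩⟩
  have h := P.ncard_zHat I
  rw [hst] at h
  have h2 : 2 ≤ Nat.card W₁ := (one_lt_card_iff_ne_bot W₁).2 hSP.W₁_ne
  have h3 : 2 ≤ Nat.card W₂ := (one_lt_card_iff_ne_bot W₂).2 hSP.selfNormalizing.2.1
  have hle := Nat.add_le_mul h2 h3
  have hz : ((BG14.zHat S W₁).ncard : ℚ) + Nat.card W₁ + Nat.card W₂ =
      Nat.card W₁ * Nat.card W₂ + 1 := by
    have : (BG14.zHat S W₁).ncard + Nat.card W₁ + Nat.card W₂ =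
        Nat.card W₁ * Nat.card W₂ + 1 := by omega
    exact_mod_cast this
  rw [he, BG14.ncard_conj_ti _ _ (fun n hn s hs => P.conj_mem_zHat I hn hs)
    fun g s hs h => P.mem_of_conj_mem_zHat I hs h.1, hst, Nat.cast_mul,
    ← (W₁ ⊔ W₂).card_mul_index, Nat.cast_mul,
    mul_div_mul_right _ _ (Nat.cast_ne_zero.2 (W₁ ⊔ W₂).index_ne_zero_of_finite),
    PF3.card_sup hSP.selfNormalizing, Nat.cast_mul,
    eq_sub_of_add_eq (eq_sub_of_add_eq hz)]
  have : (Nat.card W₁ : ℚ) ≠ 0 := Nat.cast_ne_zero.2 Nat.card_pos.ne'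
  have : (Nat.card W₂ : ℚ) ≠ 0 := Nat.cast_ne_zero.2 Nat.card_pos.ne'
  field_simp
  ring

/-- The shares sum to `1 - 1/|G|`. -/
theorem shares_sum :
    ((wPart W₁ W₂).ncard : ℚ) / Nat.card G +
      ((partConj ((Cfsg.sigmaCore S : Set G) \ {1})).ncard : ℚ) / Nat.card G +
      ((partConj ((Cfsg.sigmaCore T : Set G) \ {1})).ncard : ℚ) / Nat.card G +
      ∑ i : TypeIClass G, ((omega i.rep).ncard : ℚ) / Nat.card G =
      1 - 1 / (Nat.card G : ℚ) := by
  classical
  haveI := Fintype.ofFinite G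
  have hκS := kappa_nonempty hG F hS hSP
  have hκT := kappa_nonempty hG F hT hTP
  set A := wPart W₁ W₂
  set B := partConj ((Cfsg.sigmaCore S : Set G) \ {1})
  set C := partConj ((Cfsg.sigmaCore T : Set G) \ {1})
  set D := ⋃ i : TypeIClass G, omega i.rep with hD
  have h1 : ∀ {X : Set G}, (1 : G) ∈ partConj X → (1 : G) ∈ X := fun {X} ⟨a, ha, y, e⟩ => by
    rwa [← conj_eq_one_iff.1 e.symm]
  have hs : A ∪ B ∪ C ∪ D = {(1 : G)}ᶜ := by
    refine Set.Subset.antisymm ?_ fun g hg => cover_parts hG F hfrob hS hT hSP hTP hg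
    rintro g hg (rfl : g = 1)
    rcases hg with ((h | h) | h) | h
    · exact (h1 h).2 (Or.inl (one_mem W₁))
    · exact (h1 h).2 rfl
    · exact (h1 h).2 rfl
    · obtain ⟨i, hi⟩ := Set.mem_iUnion.1 h
      obtain ⟨a, ha, r, hr, y, e⟩ := hi
      have har : a * r = 1 := conj_eq_one_iff.1 e.symm
      have hL := i.rep_coatom
      have haA : a ∈ setA0 i.rep :=
        Or.inl ((setA_typeI hfrob hL i.rep_typeI).1 ▸ ha)
      have hd := PF10.dade_of_facts hG F hL
      have hmem : a ∈ Cfsg.supportR i.rep a ⊓ (i.rep ⊓ centralizer ({a} : Set G)) :=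
        ⟨by rw [eq_inv_of_mul_eq_one_left har]; exact eq_inv_of_mul_eq_one_left har ▸ inv_mem hr,
          hd.subset haA, mem_centralizer_singleton_iff.2 rfl⟩
      rw [hd.inf_eq_bot _ haA, mem_bot] at hmem
      exact ha.2 hmem
  have hAB : Disjoint A B := wPart_disjoint_sigma hG F hfrob hS hSP hS hκS
  have hAC : Disjoint A C := wPart_disjoint_sigma hG F hfrob hS hSP hT hκT
  have hBC : Disjoint B C := sigma_disjoint hG F hfrob hS hT hSP hTP
  have hXD : Disjoint (A ∪ B ∪ C) D := by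
    refine Set.disjoint_iUnion_right.2 fun i => ?_
    refine Disjoint.union_left (Disjoint.union_left
      (wPart_disjoint_omega hG F hS hSP i.rep_coatom i.rep_typeI) ?_) ?_
    · exact (omega_disjoint_sigma hG F hS hSP hfrob i.rep_coatom i.rep_typeI).symm
    · exact (omega_disjoint_sigma hG F hT hTP hfrob i.rep_coatom i.rep_typeI).symm
  have hDc : D.ncard = ∑ i : TypeIClass G, (omega i.rep).ncard := by
    rw [hD, Set.ncard_iUnion_of_finite (fun i => Set.toFinite _)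
      (fun i j hij => omega_disjoint hG F hij), finsum_eq_sum_of_fintype]
  have hcount : A.ncard + B.ncard + C.ncard + D.ncard + 1 = Nat.card G := by
    rw [← Set.ncard_union_eq hAB, ← Set.ncard_union_eq (Disjoint.union_left hAC hBC),
      ← Set.ncard_union_eq hXD, hs, ← Set.ncard_singleton (1 : G), add_comm,
      Set.ncard_add_ncard_compl]
  rw [hDc] at hcount
  have hG0 : (Nat.card G : ℚ) ≠ 0 := Nat.cast_ne_zero.2 Nat.card_pos.ne'
  rw [← Finset.sum_div, ← add_div, ← add_div, ← add_div, eq_sub_iff_add_eq, ← add_div,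
    div_eq_one_iff_eq hG0]
  exact_mod_cast hcount

variable (hII : Cfsg.IsOfTypeII S)
include hII

/-- The identity, with the share of `T_σ` left symbolic. -/
theorem cover_identity :
    1 / (Nat.card W₂ : ℚ) + 1 / (Nat.card W₁ : ℚ) - 1 / ((Nat.card W₂ : ℚ) * Nat.card W₁) =
      ∑ i : TypeIClass G, ((Nat.card (Cfsg.fittingHall i.rep) : ℚ) - 1) /
          ((Nat.card (Cfsg.fittingHall i.rep) : ℚ) * (Cfsg.fittingHall i.rep).index) +
        (1 - 1 / (Nat.card (Cfsg.fittingHallOf S) : ℚ)) / ((Nat.card U : ℚ) * Nat.card W₁) +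
        ((partConj ((Cfsg.sigmaCore T : Set G) \ {1})).ncard : ℚ) / Nat.card G +
        1 / (Nat.card G : ℚ) := by
  have h := shares_sum hG F hfrob hS hT hSP hTP
  rw [wPart_weight hG F hS hT hSP hTP, sigmaCore_typeII hG F hS hII,
    core_weight hG F hS hSP hfrob,
    Finset.sum_congr rfl fun i _ => omega_weight hG F i.rep_coatom i.rep_typeI,
    mul_comm (Nat.card W₁ : ℚ) (Nat.card W₂ : ℚ)] at h
  linarith

/-- The identity for `T` of Type II. -/
theorem cover_identity_II (hTII : Cfsg.IsOfTypeII T) :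
    1 / (Nat.card W₂ : ℚ) + 1 / (Nat.card W₁ : ℚ) - 1 / ((Nat.card W₂ : ℚ) * Nat.card W₁) =
      ∑ i : TypeIClass G, ((Nat.card (Cfsg.fittingHall i.rep) : ℚ) - 1) /
          ((Nat.card (Cfsg.fittingHall i.rep) : ℚ) * (Cfsg.fittingHall i.rep).index) +
        (1 - 1 / (Nat.card (Cfsg.fittingHallOf S) : ℚ)) / ((Nat.card U : ℚ) * Nat.card W₁) +
        (1 - 1 / (Nat.card (Cfsg.fittingHallOf T) : ℚ)) / ((Nat.card V : ℚ) * Nat.card W₂) +
        1 / (Nat.card G : ℚ) := by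
  rw [cover_identity hG F hfrob hS hT hSP hTP hII, sigmaCore_typeII hG F hT hTII,
    core_weight hG F hT hTP hfrob]

/-- The identity for `T` not of Type II, with the block `T' ∖ T_F`. -/
theorem cover_identity_nonII (hTII : ¬ Cfsg.IsOfTypeII T) :
    1 / (Nat.card W₂ : ℚ) + 1 / (Nat.card W₁ : ℚ) - 1 / ((Nat.card W₂ : ℚ) * Nat.card W₁) =
      (∑ i : TypeIClass G, ((Nat.card (Cfsg.fittingHall i.rep) : ℚ) - 1) /
          ((Nat.card (Cfsg.fittingHall i.rep) : ℚ) * (Cfsg.fittingHall i.rep).index) +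
        ((Nat.card V : ℚ) - 1) / ((Nat.card V : ℚ) * Nat.card W₂)) +
        (1 - 1 / (Nat.card (Cfsg.fittingHallOf S) : ℚ)) / ((Nat.card U : ℚ) * Nat.card W₁) +
        (1 - 1 / (Nat.card (Cfsg.fittingHallOf T) : ℚ)) / ((Nat.card V : ℚ) * Nat.card W₂) +
        1 / (Nat.card G : ℚ) := by
  obtain ⟨e, hd⟩ := partConj_sigma_split hG F hT hTP hfrob hTII
  have h := cover_identity hG F hfrob hS hT hSP hTP hII
  rw [e, Set.ncard_union_eq hd, Nat.cast_add, add_div, core_weight hG F hT hTP hfrob,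
    derived_weight hG F hT hTP hfrob hTII] at h
  linarith

end Pair

/-! ### `C ≠ 1` -/

section SuppC

omit hG F

variable {S U W₁ W₂ L E : Subgroup G} (D : Supp S U W₁ W₂ L E)
  (hC : (U ⊓ centralizer (Cfsg.fittingHallOf S : Set G)) ≠ ⊥)
include D hC

/-- The elements of `P C` outside `P` lie in the set of `L`. -/
theorem core_C_subset_omega :
    (↑(Cfsg.fittingHallOf S ⊔ (U ⊓ centralizer (Cfsg.fittingHallOf S : Set G))) : Set G) \
      ↑(Cfsg.fittingHallOf S) ⊆ omega L := by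
  rintro g ⟨hg, hgP⟩
  obtain ⟨x, hx, c, hc, rfl⟩ := (Coprime.mem_sup_iff
    ((inf_le_left.trans (TypeP.U_le D.hP)).trans (TypeP.le_normalizer_core S))).1 hg
  have hc1 : c ≠ 1 := fun e => hgP (by rw [e, mul_one]; exact hx)
  refine ⟨c, ⟨D.overN.U_le hc.1, hc1⟩, x, ?_, 1, ?_⟩
  · rw [(D.supports hC hc hc1).2.2.2]
    exact hx
  · rw [mem_centralizer_singleton_iff.1 (D.core_le_centralizer hc hx)]
    group

/-- Inside `P C` the set of `L` is a union of cosets of `P`. -/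
theorem omega_mul_core {c x : G}
    (hc : c ∈ U ⊓ centralizer (Cfsg.fittingHallOf S : Set G)) (hc1 : c ≠ 1)
    (hx : x ∈ Cfsg.fittingHallOf S) : c * x ∈ omega L :=
  ⟨c, ⟨D.overN.U_le hc.1, hc1⟩, x, by rw [(D.supports hC hc hc1).2.2.2]; exact hx, 1, by group⟩

/-- The conjugates of `P C ∖ C` meet only the conjugates of `P ∖ 1` and the set of `L`. -/
theorem partConj_core_C_subset :
    partConj ((↑(Cfsg.fittingHallOf S ⊔ (U ⊓ centralizer (Cfsg.fittingHallOf S : Set G))) : Set G) \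
      ↑(U ⊓ centralizer (Cfsg.fittingHallOf S : Set G))) ⊆
      partConj ((Cfsg.fittingHallOf S : Set G) \ {1}) ∪ omega L := by
  rintro _ ⟨a, ⟨ha, haC⟩, y, rfl⟩
  by_cases h : a ∈ Cfsg.fittingHallOf S
  · refine Or.inl ⟨a, ⟨h, fun e => haC ?_⟩, y, rfl⟩
    rw [Set.mem_singleton_iff.1 e]
    exact one_mem _
  · obtain ⟨b, hb, r, hr, z, e⟩ := core_C_subset_omega D hC ⟨ha, h⟩
    exact Or.inr ⟨b, hb, r, hr, y * z, by rw [e]; group⟩

end SuppC

end Cfsg.Agent.OddOrder.PF14
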