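import Cfsg.Agent.OddOrder.PF14.SideInst
import Cfsg.Agent.OddOrder.PF14.SideShare
import Cfsg.Agent.OddOrder.PF14.TypeIIIBlock
import Cfsg.Agent.OddOrder.PF14.NumGroup
import Cfsg.Agent.OddOrder.PF14.Partition

/-!
# Peterfalvi section 14: the side of a subgroup `T` of Type III

With `q = |W₁|`, `p = |W₂|`, `|T_F| = q ^ p` and `C_V(T_F) = 1` the side `K = T_F`, `N₀ = 1` of `T` is
covered by the characters of `coveredChars`, and the block `T' / T_F` is clear of the sides of `S`
and `T`.
-/

set_option autoImplicit false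
set_option linter.unusedSectionVars false

namespace Cfsg.Agent.OddOrder.PF14

open Subgroup
open Cfsg.Agent Cfsg.Agent.OddOrder

universe u

variable {G : Type u} [Group G]

/-- The set of the block as a set of conjugates. -/
theorem omegaT_eq_partConj (T : Subgroup G) :
    omegaT T = partConj (((⁅T, T⁆ : Subgroup G) : Set G) \ (Cfsg.fittingHallOf T : Set G)) := by
  ext g
  constructor
  · rintro ⟨x, t, ht, htQ, e⟩
    exact ⟨t, ⟨ht, htQ⟩, x⁻¹, by rw [← e]; group⟩
  · rintro ⟨a, ⟨ha, haQ⟩, y, rfl⟩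
    exact ⟨y⁻¹, a, ha, haQ, by group⟩

namespace SideData

variable [Fintype G] {S W₁ U W₂ : Subgroup G} (d : SideData S W₁ U W₂)

local notation "P[" S "]" => Cfsg.fittingHallOf S

include d

/-- With `C_U(S_F) = 1` the side `K = S_F` is covered. -/
theorem covered_sideP (hC : U ⊓ centralizer (P[S] : Set G) = ⊥) :
    d.sideP.Covered (d.theta d.pair_core) where
  reg := d.regular_sideP hC
  stable := d.stable_theta d.pair_core
  good_mem _ hg := d.good_mem_theta d.pair_core hg
  free_mem θ hf := by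
    refine (d.mem_theta d.pair_core).2 ⟨hf.triv, d.mem_covered.2
      ⟨d.res_ne_one d.pair_core hf.triv hf.ne_one, fun u hu e => ?_⟩⟩
    have h1 : (u : G) ∈ P[S] := hf.stab u
      (d.res_inj d.pair_core (d.triv_tw d.pair_core u hf.triv) hf.triv
        ((d.res_tw d.pair_core u θ).trans e))
    have h2 : (u : G) ∈ P[S] ⊓ U := ⟨h1, hu⟩
    rw [d.hP.U_compl.2.2.1, mem_bot] at h2
    rw [h2]
    exact one_mem _
  cases _ hθ := d.theta_cases d.pair_core hC.le hθ

end SideData

variable [Fintype G] {T V W₁ W₂ : Subgroup G}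
  (hG : Cfsg.IsMinSimpleOddOrder G) (F : BG16.SectionFacts G)
  (hfrob : ∀ L : Subgroup G, IsCoatom L → IsTypeI L → ∀ x ∈ Cfsg.fittingHallOf L, x ≠ 1 →
    L ⊓ centralizer ({x} : Set G) ≤ Cfsg.fittingHallOf L)
  (hT : IsCoatom T) (hTP : Cfsg.IsTypePWith T W₂ V W₁) (hIII : Cfsg.IsOfTypeIII T)

section

variable (hq : (Nat.card W₁).Prime)
  (hcard : Nat.card (Cfsg.fittingHallOf T) = Nat.card W₁ ^ Nat.card W₂)

include hTP hIII hq hcard in
theorem sideFactsT : SideFacts T W₂ V W₁ (Nat.card W₁) (Nat.card W₂) :=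
  sideFacts_of_card hTP (typeIII_facts hTP hIII).1 (typeIII_facts hTP hIII).2.2.1 hq hcard

include hG F hfrob hT hTP hIII hq hcard in
/-- The side data of `T`: use `(sideDataT ..).sideP`, `theta`, `covered_sideP`, `relIndex_sideP`,
`relIndex_H_sideP`, `card_theta`. -/
theorem sideDataT : SideData T W₂ V W₁ :=
  sideData_of_typeP hG F hfrob hT hTP (typeIII_facts hTP hIII).2.1 (sideFactsT hTP hIII hq hcard)

include hG hTP hIII hq hcard in
/-- The numerical data of the side of `T`. -/
theorem sideNumT (hC : V ⊓ centralizer (Cfsg.fittingHallOf T : Set G) = ⊥) :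
    SideNum (Nat.card W₁) (Nat.card W₂) (Nat.card V)
      ((Nat.card (coveredChars (Cfsg.fittingHallOf T) V) : ℚ) + 1) :=
  (sideFactsT hTP hIII hq hcard).sideNum hG.1 hC (typeIII_facts hTP hIII).1

/-- The block is clear of the side `K = T_F` of `T`. -/
theorem clear_T (d : SideData T W₂ V W₁) :
    d.sideP.Clear (blockT hG F hfrob hT hTP hIII) where
  avoid := (blockT_avoid hG F hfrob hT hTP hIII).1
  notMem _ hk hk0 :=
    blockT_notMem_core hG F hfrob hT hTP hIII hk fun e => hk0 (e ▸ one_mem (⊥ : Subgroup G))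

/-- The block is clear of the sides of `S`. -/
theorem clear_S {S U K N : Subgroup G} (d : SideData S W₁ U W₂) (h : SidePair S U K N) :
    (d.side h).Clear (blockT hG F hfrob hT hTP hIII) where
  avoid := (blockT_avoid hG F hfrob hT hTP hIII).2
  notMem _ hk hkN :=
    blockT_notMem_sup hG F hfrob hT hTP hIII d.facts.pow_P (h.le_C.trans inf_le_right)
      (d.core_inf_N h) (h.eq_sup.le hk) hkN

end

end Cfsg.Agent.OddOrder.PF14
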