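import Cfsg.Agent.OddOrder.PF14.SetupInst
import Cfsg.Agent.OddOrder.PF14.TypeIII
import Cfsg.Agent.OddOrder.Assemble

/-!
# Peterfalvi section 14: the configuration theorem from its remaining inputs

`configTheorem_of_inputs`: the coherence for Type I, the conclusions of sections 10 and 11 for a
maximal subgroup of type P not of Type II, and `C = 1` on a side of Type II give `ConfigTheorem`.
-/

set_option autoImplicit false
set_option linter.unusedSectionVars false
set_option linter.style.haveILetI false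

namespace Cfsg.Agent.OddOrder.PF14

open Subgroup
open Cfsg.Agent Cfsg.Agent.OddOrder

universe u

variable {G : Type u} [Group G] [Fintype G] (hG : Cfsg.IsMinSimpleOddOrder G) (F : BG16.SectionFacts G)
  (hfrob : ∀ L : Subgroup G, IsCoatom L → IsTypeI L → ∀ x ∈ Cfsg.fittingHallOf L, x ≠ 1 →
    L ⊓ centralizer ({x} : Set G) ≤ Cfsg.fittingHallOf L)
  (hcoh : ∀ L : Subgroup G, IsCoatom L → IsTypeI L →
    letI := Fintype.ofFinite L
    Cfsg.IsCoherent (Cfsg.inducedIrrAbove (Cfsg.fittingHall L) ⊥) {1}ᶜ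
      (Cfsg.dadeIsometry (setA L) L (Cfsg.supportR L)))
  (hnonII : ∀ (M A B C : Subgroup G), IsCoatom M → Cfsg.IsTypePWith M A B C →
    ¬ Cfsg.IsOfTypeII M →
      Cfsg.IsOfTypeIII M ∧ (Nat.card C).Prime ∧ Nat.card C < Nat.card A ∧
        Nat.card (Cfsg.fittingHallOf M) = Nat.card C ^ Nat.card A ∧
        B ⊓ centralizer (Cfsg.fittingHallOf M : Set G) = ⊥)
  (hC1 : ∀ (S T U V W₁ W₂ : Subgroup G), IsCoatom S → IsCoatom T →
    Cfsg.IsTypePWith S W₁ U W₂ → Cfsg.IsTypePWith T W₂ V W₁ → Cfsg.IsOfTypeII S →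
    (Cfsg.IsOfTypeII T ∨ Cfsg.IsOfTypeIII T) → SideData S W₁ U W₂ → SideData T W₂ V W₁ →
      U ⊓ centralizer (Cfsg.fittingHallOf S : Set G) = ⊥)

include hG F hfrob hcoh hnonII hC1

/-- There is no pair `S`, `T` with `|W₁| < |W₂|`. -/
theorem false_of_pair {S T U V W₁ W₂ : Subgroup G} (hS : IsCoatom S) (hT : IsCoatom T)
    (hSP : Cfsg.IsTypePWith S W₁ U W₂) (hTP : Cfsg.IsTypePWith T W₂ V W₁)
    (hor : Cfsg.IsOfTypeII S ∨ Cfsg.IsOfTypeII T) (hqp : Nat.card W₁ < Nat.card W₂) : False := by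
  by_cases hII : Cfsg.IsOfTypeII S
  · obtain ⟨-, hq, -⟩ := PF13.typeII_facts hSP hII
    by_cases hTII : Cfsg.IsOfTypeII T
    · obtain ⟨-, hp, -⟩ := PF13.typeII_facts hTP hTII
      have d := exists_sideData hG F hfrob hS hT hSP hTP hII hp
      have d' := exists_sideData hG F hfrob hT hS hTP hSP hTII hq
      exact false_typeII hG F hfrob hS hT hSP hTP hcoh hII hTII d d'
        (hC1 S T U V W₁ W₂ hS hT hSP hTP hII (Or.inl hTII) d d')
        (hC1 T S V U W₂ W₁ hT hS hTP hSP hTII (Or.inl hII) d' d) hqp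
    · obtain ⟨hIII, -, -, hcard, hCT⟩ := hnonII T W₂ V W₁ hT hTP hTII
      have hp := (typeIII_facts hTP hIII).2.2.1
      have d := exists_sideData hG F hfrob hS hT hSP hTP hII hp
      have d' := sideDataT hG F hfrob hT hTP hIII hq hcard
      exact false_typeIII hG F hfrob hS hT hSP hTP hcoh hII hIII d d'
        (hC1 S T U V W₁ W₂ hS hT hSP hTP hII (Or.inr hIII) d d') hCT hqp
  · obtain ⟨-, -, hlt, -⟩ := hnonII S W₁ U W₂ hS hSP hII
    exact absurd hlt (by omega)

/-- Peterfalvi (14). -/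
theorem configTheorem_of_inputs : ConfigTheorem G :=
  fun _S _T _W₁ _W₂ _U _V hS hT hSP hTP _ hor _ _ hlt =>
    (false_of_pair hG F hfrob hcoh hnonII hC1 hS hT hSP hTP hor hlt).elim

end Cfsg.Agent.OddOrder.PF14
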