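import Mathlib
import Cfsg.Agent.S1546

/-!
Arithmetic used in Peterfalvi section 14.
-/

set_option autoImplicit false

namespace Cfsg.Agent.OddOrder.PF14

/-- `(p ^ q - 1) / (p - 1)`. -/
abbrev normCard (p q : ℕ) : ℕ := (p ^ q - 1) / (p - 1)

theorem normCard_eq {p : ℕ} (hp : 2 ≤ p) (q : ℕ) : normCard p q = ∑ i ∈ Finset.range q, p ^ i :=
  (Nat.geomSum_eq hp q).symm

theorem normCard_mul {p : ℕ} (hp : 2 ≤ p) (q : ℕ) : normCard p q * (p - 1) + 1 = p ^ q := by
  rw [normCard, Nat.div_mul_cancel (by simpa using Nat.sub_dvd_pow_sub_pow p 1 q)]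
  exact Nat.sub_add_cancel (Nat.one_le_pow _ _ (by omega))

theorem normCard_gt {p : ℕ} (hp : 2 ≤ p) {q : ℕ} (hq : 2 ≤ q) :
    p ^ (q - 1) < normCard p q := by
  rw [normCard_eq hp]
  obtain ⟨k, rfl⟩ : ∃ k, q = k + 2 := ⟨q - 2, by omega⟩
  rw [Finset.sum_range_succ]
  have : 0 < ∑ i ∈ Finset.range (k + 1), p ^ i :=
    Finset.sum_pos (fun i _ => pow_pos (by omega) i) ⟨0, by simp⟩
  show p ^ (k + 1) < _
  omega

theorem normCard_modEq {p : ℕ} (hp : 2 ≤ p) {q : ℕ} (hq : 1 ≤ q) : normCard p q % p = 1 := by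
  obtain ⟨k, rfl⟩ : ∃ k, p = k + 2 := ⟨p - 2, by omega⟩
  rw [normCard_eq hp, Finset.sum_nat_mod]
  obtain ⟨j, rfl⟩ : ∃ j, q = j + 1 := ⟨q - 1, by omega⟩
  rw [Finset.sum_range_succ']
  simp [Nat.pow_mod]

/-- The cofactor of a proper divisor of `normCard p q` which is `1` modulo `q`. -/
theorem cofactor_cases {p q u : ℕ} (hp : p.Prime) (hq : q.Prime) (hp2 : p ≠ 2) (hq2 : q ≠ 2)
    (hu : u ∣ normCard p q) (hne : u ≠ normCard p q) (hu1 : u % q = 1) :
    (p % q = 1 ∧ u * q = normCard p q) ∨ ∃ m, 2 * q + 1 ≤ m ∧ u * m = normCard p q := by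
  obtain ⟨hodd, h1, h2⟩ := S1546.result p q hp hq hp2 hq2
  obtain ⟨m, hm⟩ := hu
  change Odd (normCard p q) at hodd
  rw [hm] at hodd
  have hmodd : Odd m := (Nat.odd_mul.mp hodd).2
  have hm1 : m ≠ 1 := fun e => hne (by rw [hm, e, mul_one])
  have hm0 : m ≠ 0 := fun e => by simp [e] at hmodd
  have hq3 : 3 ≤ q := lt_of_le_of_ne hq.two_le (Ne.symm hq2)
  by_cases hpq : p % q = 1
  · have hqm : q ∣ m := by
      have := h1 hpq
      rw [show (p ^ q - 1) / (p - 1) = u * m from hm] at this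
      refine (hq.dvd_mul.mp this).resolve_left fun h => ?_
      rw [Nat.mod_eq_zero_of_dvd h] at hu1 <;> omega
    obtain ⟨t, rfl⟩ := hqm
    obtain ⟨-, k, rfl⟩ := Nat.odd_mul.mp hmodd
    rcases Nat.eq_zero_or_pos k with rfl | hk
    · exact Or.inl ⟨hpq, by rw [hm]; ring⟩
    · refine Or.inr ⟨_, ?_, hm.symm⟩
      nlinarith
  · refine Or.inr ⟨m, ?_, hm.symm⟩
    have h3 := (h2 hpq).2 m ⟨u, by rw [mul_comm]; exact hm⟩
    obtain ⟨k, hk⟩ := hmodd
    have h4 := Nat.div_add_mod m q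
    rw [h3] at h4
    have h5 : m / q ≠ 0 := fun e => by rw [e] at h4; omega
    have h6 : m / q ≠ 1 := fun e => by
      rw [e] at h4
      obtain ⟨j, hj⟩ := hq.odd_of_ne_two hq2
      omega
    have h7 : q * 2 ≤ q * (m / q) := Nat.mul_le_mul_left q ((Nat.two_le_iff _).mpr ⟨h5, h6⟩)
    omega

theorem succ_pow_le {p n : ℕ} (hp : 1 ≤ p) (hn : n ≤ p) : (p + 1) ^ n ≤ 3 * p ^ n := by
  have h2 : ((1 : ℝ) + 1 / p) ^ n ≤ 3 := by
    refine le_trans (pow_le_pow_right₀ ?_ hn) ?_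
    · have : (0 : ℝ) ≤ 1 / p := by positivity
      linarith
    · calc ((1 : ℝ) + 1 / p) ^ p ≤ Real.exp (1 / p) ^ p := by
            gcongr
            have := Real.add_one_le_exp (1 / (p : ℝ))
            linarith
        _ = Real.exp 1 := by
            rw [← Real.exp_nat_mul]
            congr 1
            have : (p : ℝ) ≠ 0 := by exact_mod_cast (show p ≠ 0 by omega)
            field_simp
        _ ≤ 3 := by
            have := Real.exp_one_lt_d9
            linarith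
  have hp0 : (0 : ℝ) < p := by exact_mod_cast hp
  have h3 : ((p : ℝ) + 1) ^ n ≤ 3 * (p : ℝ) ^ n := by
    calc ((p : ℝ) + 1) ^ n = (1 + 1 / (p : ℝ)) ^ n * (p : ℝ) ^ n := by
          rw [← mul_pow]; congr 1; field_simp
      _ ≤ 3 * (p : ℝ) ^ n := by gcongr
  exact_mod_cast h3

/-- For `3 ≤ q < p`, both odd: `p ^ (q + 1) < q ^ (p + 1)`. -/
theorem pow_succ_lt {p q : ℕ} (hq : 3 ≤ q) (hqp : q + 2 ≤ p) : p ^ (q + 1) < q ^ (p + 1) := by
  induction p, hqp using Nat.le_induction with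
  | base =>
    rcases lt_trichotomy q 3 with h | rfl | h
    · omega
    · norm_num
    · have h1 := succ_pow_le (p := q + 1) (n := q + 1) (by omega) le_rfl
      have h2 := succ_pow_le (p := q) (n := q) (by omega) le_rfl
      have h4 : 0 < q ^ (q + 1) := pow_pos (by omega) _
      have h5 : q * (q + 2) ^ (q + 1) < q * q ^ (q + 2 + 1) := by
        calc q * (q + 2) ^ (q + 1) ≤ q * (3 * (q + 1) ^ (q + 1)) := Nat.mul_le_mul_left _ h1
          _ = 3 * ((q + 1) * q) * (q + 1) ^ q := by ring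
          _ ≤ 3 * ((q + 1) * q) * (3 * q ^ q) := Nat.mul_le_mul_left _ h2
          _ = 9 * (q + 1) * q ^ (q + 1) := by ring
          _ < q * q * q * q ^ (q + 1) := by
              refine Nat.mul_lt_mul_of_pos_right ?_ h4
              nlinarith
          _ = q * q ^ (q + 2 + 1) := by ring
      exact Nat.lt_of_mul_lt_mul_left h5
  | succ p hp ih =>
    calc (p + 1) ^ (q + 1) ≤ 3 * p ^ (q + 1) := succ_pow_le (by omega) (by omega)
      _ < 3 * q ^ (p + 1) := by omega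
      _ ≤ q ^ (p + 1) * q := by rw [mul_comm]; exact Nat.mul_le_mul_left _ hq
      _ = q ^ (p + 1 + 1) := (pow_succ _ _).symm

theorem sq_lt_three_pow {p : ℕ} (hp : 5 ≤ p) : p ^ 2 < 3 ^ (p - 2) := by
  induction p, hp using Nat.le_induction with
  | base => norm_num
  | succ p hp ih =>
    rw [show p + 1 - 2 = p - 2 + 1 by omega, pow_succ 3]
    nlinarith

theorem sq_mul_lt_pow {p q : ℕ} (hq : 3 ≤ q) (hp : 5 ≤ p) : p ^ 2 * q < q ^ (p - 1) := by
  rw [show p - 1 = p - 2 + 1 by omega, pow_succ]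
  exact Nat.mul_lt_mul_of_pos_right
    ((sq_lt_three_pow hp).trans_le (Nat.pow_le_pow_left hq _)) (by omega)

theorem nine_sq_lt_three_pow {p : ℕ} (hp : 7 ≤ p) : 9 * p ^ 2 ≤ 3 ^ (p - 1) := by
  induction p, hp using Nat.le_induction with
  | base => norm_num
  | succ p hp ih =>
    rw [show p + 1 - 1 = p - 1 + 1 by omega, pow_succ 3]
    nlinarith

/-- `p² q (q - 1) + 1 < q ^ (p - 1)` except for `(p, q) = (5, 3)`. -/
theorem sq_mul_mul_lt_pow {p q : ℕ} (hq : 3 ≤ q) (hqp : q + 2 ≤ p) (hne : ¬(p = 5 ∧ q = 3))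
    (hp6 : p ≠ 6) : p ^ 2 * (q * q) ≤ q ^ (p - 1) := by
  rw [show p - 1 = p - 3 + 2 by omega, pow_add, sq q]
  refine Nat.mul_le_mul_right _ ?_
  have h7 : 7 ≤ p := by omega
  have h1 := nine_sq_lt_three_pow h7
  rw [show p - 1 = p - 3 + 2 by omega, pow_add] at h1
  have h2 : p ^ 2 ≤ 3 ^ (p - 3) := by omega
  exact h2.trans (Nat.pow_le_pow_left hq _)

end Cfsg.Agent.OddOrder.PF14
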