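import Cfsg.Agent.OddOrder.PF14.SideGroup
import Cfsg.Agent.OddOrder.PF14.NumLemmas
import Cfsg.Agent.OddOrder.PF13.TypeIINormalizer
import Cfsg.Agent.OddOrder.PF10.CoverMass
import Cfsg.Agent.OddOrder.PF8.Sets
import Cfsg.Agent.S1472

/-!
# Peterfalvi section 14: group facts behind `NumData`, and the final contradiction

`card_dvd_pred_of_cyclic`, `mod_of_cyclic`, `primes_dvd_of_square` are the fields `hcyclicM`,
`hcyclicL`, `hprimes` of `NumData`; `final_false` turns the conclusion of `NumData.main` into the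
configuration of Appendix C.
-/

set_option autoImplicit false
set_option linter.style.haveILetI false
set_option linter.unusedSectionVars false

universe u

namespace Cfsg.Agent.OddOrder.PF14

open Subgroup

variable {G : Type u} [Group G] [Finite G] {S T W₁ W₂ U V L H E : Subgroup G} {p q : ℕ}

/-- Elements normalizing a cyclic group normalize each of its subgroups. -/
theorem le_normalizer_of_cyclic (hH : IsCyclic H) (hU : U ≤ H)
    (hE : E ≤ normalizer (H : Set G)) : E ≤ normalizer (U : Set G) := fun e he =>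
  Coprime.mem_normalizer_of_map_conj (H41.eq_of_card_eq_of_le_cyclic hH
    ((map_mono hU).trans (Coprime.map_conj_eq (hE he)).le) hU (Coprime.card_map_conj e U))

/-- A fixed-point-free group acting on a cyclic group has order dividing `r - 1`. -/
theorem card_dvd_pred_of_cyclic (hH : IsCyclic H) (hE : E ≤ normalizer (H : Set G))
    (hfpf : ∀ e ∈ E, e ≠ 1 → H ⊓ centralizer ({e} : Set G) = ⊥) {r : ℕ} (hr : r.Prime)
    (hd : r ∣ Nat.card H) : Nat.card E ∣ r - 1 := by
  haveI := Fact.mk hr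
  obtain ⟨⟨x, hx⟩, ho⟩ := exists_prime_orderOf_dvd_card' r hd
  rw [Subgroup.orderOf_mk] at ho
  have h := PF10.card_dvd_card_sub_one (le_normalizer_of_cyclic hH (zpowers_le.2 hx) hE)
    fun e he he1 => le_bot_iff.1 ((inf_le_inf_right _ (zpowers_le.2 hx)).trans_eq (hfpf e he he1))
  rwa [Nat.card_zpowers, ho] at h

/-- `|U| ≡ 1 (mod p)` when a fixed-point-free group of order divisible by `p` acts on a cyclic
group containing `U`. -/
theorem mod_of_cyclic (hH : IsCyclic H) (hU : U ≤ H) (hE : E ≤ normalizer (H : Set G))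
    (hfpf : ∀ e ∈ E, e ≠ 1 → H ⊓ centralizer ({e} : Set G) = ⊥) (hpE : p ∣ Nat.card E)
    (hp : 2 ≤ p) : Nat.card U % p = 1 := by
  obtain ⟨k, hk⟩ := hpE.trans (PF10.card_dvd_card_sub_one (le_normalizer_of_cyclic hH hU hE)
    fun e he he1 => le_bot_iff.1 ((inf_le_inf_right _ hU).trans_eq (hfpf e he he1)))
  have h1 : 0 < Nat.card U := Nat.card_pos
  rw [show Nat.card U = p * k + 1 by omega, Nat.mul_add_mod, Nat.mod_eq_of_lt (by omega)]

section Side

variable (s : SideFacts S W₁ U W₂ p q)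
  (hC : U ⊓ centralizer (Cfsg.fittingHallOf S : Set G) = ⊥)

include s hC

/-- With `C = 1` the index of `C` in `U` is `|U|`. -/
theorem relIndex_C :
    (U ⊓ centralizer (Cfsg.fittingHallOf S : Set G)).relIndex U = Nat.card U := by
  rw [hC, relIndex_bot_left]

/-- The Galois alternative holds when `|U| = (p^q - 1)/(p - 1)`. -/
theorem galois_of_card (hU : U ≠ ⊥) {L H : Subgroup G} (hL : OverNormalizer S U L H)
    (hu : Nat.card U = normCard p q) :
    CoreGalois S W₁ U W₂ ⊥ p ∧ IsCyclic U ∧ (normCard p q).Coprime (p - 1) := by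
  have hq' : (Nat.card W₁).Prime := s.q_eq ▸ s.q_prime
  obtain ⟨H₀, hk⟩ := exists_coreKernel s.hP hU
  obtain rfl := coreKernel_eq_bot s.hP hU hq' (s.p_eq ▸ s.p_prime) hL hk
  obtain ⟨p', -, -, -, hW2, hcase⟩ := core_chief s.hP hq' hk
  rw [relIndex_bot_left, s.p_eq] at hW2
  subst hW2
  have hsec : ∀ b ∈ U, b ∈ sectionCent (Cfsg.fittingHallOf S) (⊥ : Subgroup G) → b = 1 := by
    intro b hb hsc
    rw [← mem_bot, ← hC]
    refine ⟨hb, mem_centralizer_iff.2 fun h hh => ?_⟩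
    have h1 := mem_bot.1 (hsc.2.2 h hh)
    rw [mul_inv_eq_one, mul_inv_eq_iff_eq_mul] at h1
    exact h1.symm
  have hrel : (sectionCent (Cfsg.fittingHallOf S) (⊥ : Subgroup G)).relIndex U = Nat.card U := by
    rw [← inf_relIndex_right, show sectionCent (Cfsg.fittingHallOf S) (⊥ : Subgroup G) ⊓ U = ⊥ from
      eq_bot_iff.2 fun b hb => mem_bot.2 (hsec b hb.2 hb.1), relIndex_bot_left]
  rcases hcase with hg | hs
  · refine ⟨hg, ?_⟩
    obtain ⟨F, iF, iFin, f, ψ, σ, -, -, -, -, -, -, -, -, -, -, -, -, hcop, a, ha, hgen⟩ := hg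
    rw [hrel, hu] at hcop
    refine ⟨(Subgroup.isCyclic_iff_exists_zpowers_eq_top U).2 ⟨a, le_antisymm (zpowers_le.2 ha) fun b hb => ?_⟩, hcop⟩
    obtain ⟨i, hi⟩ := hgen b hb
    have h1 := hsec _ (mul_mem (inv_mem (pow_mem ha i)) hb) hi
    rw [inv_mul_eq_one] at h1
    exact h1 ▸ pow_mem (mem_zpowers a) i
  · exfalso
    obtain ⟨N, a, -, -, -, -, -, hap, ha1, -, hdvd⟩ := hs
    rw [hrel, hu, s.q_eq] at hdvd
    have hp2 := s.p_prime.two_le
    have h1 : a ^ (q - 1) ≤ p ^ (q - 1) := Nat.pow_le_pow_left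
      ((Nat.le_of_dvd (by omega) hap).trans (Nat.sub_le _ _)) _
    have h2 := normCard_gt hp2 s.q_prime.two_le
    have h3 := Nat.le_of_dvd (pow_pos (by omega) _) hdvd
    omega

/-- For `q = 3`, `2 b + 1 = p` and `|U| = b²` some element of `U ∖ 1` centralizes an element of
`P ∖ 1`. -/
theorem exists_centralizer_of_square (hodd : Odd (Nat.card G)) (hq3 : q = 3) (hu1 : 1 < Nat.card U)
    {b : ℕ} (hbodd : Odd b) (hbp : 2 * b + 1 = p) (hb : Nat.card U = b ^ 2) :
    ∃ x ∈ U, x ≠ 1 ∧ ∃ h ∈ Cfsg.fittingHallOf S, h ≠ 1 ∧ x * h = h * x := by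
  by_contra hno
  push Not at hno
  have hcent : ∀ x ∈ U, x ∈ centralizer (Cfsg.fittingHallOf S : Set G) → x = 1 := fun x hx hc => by
    rw [← mem_bot, ← hC]; exact ⟨hx, hc⟩
  have hb1 : b ≠ 1 := fun e => by rw [hb, e] at hu1; omega
  obtain ⟨r, hr, hrb⟩ := Nat.exists_prime_and_dvd hb1
  have hb0 : b ≠ 0 := fun e => by rw [hb, e] at hu1; omega
  rcases s.cases with ⟨hdvd, -⟩ | ⟨⟨a, hap, ha1, hexp, -⟩, -⟩
  · rw [relIndex_C s hC, hb, hq3] at hdvd
    have hN : (p ^ 3 - 1) / (p - 1) = 4 * b ^ 2 + 6 * b + 3 := by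
      rw [show (p ^ 3 - 1) / (p - 1) = normCard p 3 from rfl, normCard_eq (by omega),
        Finset.sum_range_succ, Finset.sum_range_succ, Finset.sum_range_one, ← hbp]
      ring
    rw [hN] at hdvd
    have h3 : b ∣ 3 := by
      have h1 : b ∣ 4 * b ^ 2 + 6 * b + 3 := (dvd_pow_self b two_ne_zero).trans hdvd
      rwa [show 4 * b ^ 2 + 6 * b + 3 = b * (4 * b + 6) + 3 by ring,
        Nat.dvd_add_right (dvd_mul_right _ _)] at h1
    obtain rfl : b = 3 := (Nat.prime_three.eq_one_or_self_of_dvd b h3).resolve_left hb1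
    norm_num at hdvd
  · haveI := Fact.mk hr
    obtain ⟨R⟩ : Nonempty (Sylow r U) := inferInstance
    set R' : Subgroup G := (R : Subgroup U).map U.subtype with hR'
    have hRU : R' ≤ U := map_subtype_le _
    have hfix : ∀ x ∈ U, x ≠ 1 →
        Cfsg.fittingHallOf S ⊓ centralizer ({x} : Set G) = ⊥ := by
      intro x hx hx1
      refine eq_bot_iff.2 fun h hh => mem_bot.2 ?_
      by_contra h1
      exact hno x hx hx1 h hh.1 h1 (mem_centralizer_singleton_iff.1 hh.2).symm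
    have hP1 : Cfsg.fittingHallOf S ≠ ⊥ := fun e => by
      have h := s.card_P
      rw [e, card_bot] at h
      exact (one_lt_pow₀ s.p_prime.one_lt s.q_prime.pos.ne').ne h
    haveI hcyc : IsCyclic R' := PF13.isCyclic_of_fpf hodd hP1
      ((TypeP.U_le s.hP).trans (TypeP.le_normalizer_core S))
      (TypeP.coprime_core_U s.hP).symm hfix hRU (R.isPGroup'.map U.subtype)
    have hcard : Nat.card R' = r ^ (Nat.card U).factorization r := by
      rw [hR', Cores.card_map_eq _ U.subtype_injective, R.card_eq_multiplicity]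
    have h1 : Nat.card R' ∣ a := by
      rw [← hcyc.exponent_eq_card]
      refine Monoid.exponent_dvd_of_forall_pow_eq_one fun x => Subtype.ext ?_
      simpa using hcent _ (pow_mem (hRU x.2) a) (hexp x (hRU x.2))
    have h2 : r ^ (Nat.card U).factorization r ∣ 2 * b := by
      rw [← hcard, show 2 * b = p - 1 by omega]
      exact h1.trans hap
    have hr2 : r ≠ 2 := by
      rintro rfl
      exact (Nat.not_even_iff_odd.2 hbodd) (even_iff_two_dvd.2 hrb)
    have h3 : r ^ (Nat.card U).factorization r ∣ b :=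
      ((Nat.coprime_primes hr Nat.prime_two).2 hr2).pow_left _ |>.dvd_of_dvd_mul_left h2
    rw [hb, Nat.factorization_pow, Finsupp.smul_apply, smul_eq_mul,
      hr.pow_dvd_iff_le_factorization hb0] at h3
    have h4 : 0 < b.factorization r := hr.factorization_pos_of_dvd hb0 hrb
    omega

/-- The field `hprimes`. -/
theorem primes_dvd_of_square (hodd : Odd (Nat.card G)) (hq3 : q = 3) (hu1 : 1 < Nat.card U)
    (hI : ¬ IsTypeI S) (hII : Cfsg.IsOfTypeII S)
    (hcent : ∀ x ∈ setA0 S, centralizer ({x} : Set G) ≤ S)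
    {L H : Subgroup G} (hL : OverNormalizer S U L H) (hHn : Group.IsNilpotent H)
    (hqH : ¬ q ∣ Nat.card H)
    (hb : ∃ b : ℕ, Odd b ∧ 2 * b + 1 = p ∧ Nat.card U = b ^ 2) :
    ∀ r : ℕ, r.Prime → r ∣ Nat.card H → r ∣ Nat.card U := by
  intro r hr hrH
  by_contra hrU
  obtain ⟨b, hbodd, hbp, hb⟩ := hb
  obtain ⟨x, hx, hx1, h, hh, hh1, hxh⟩ :=
    exists_centralizer_of_square s hC hodd hq3 hu1 hbodd hbp hb
  have hxA : x ∈ setA0 S := by
    refine Or.inl ?_
    rw [setA, if_neg hI]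
    exact ⟨TypeP.U_le_derived s.hP hx, hx1, h,
      by rw [PF8.typeCore_eq_core (Or.inr hII)]; exact hh, hh1, hxh⟩
  haveI := Fact.mk hr
  obtain ⟨⟨y, hy⟩, ho⟩ := exists_prime_orderOf_dvd_card' r hrH
  rw [Subgroup.orderOf_mk] at ho
  have hyx : y * x = x * y := H41.commute_of_coprime_of_isNilpotent hHn hy (hL.U_le hx)
    (ho ▸ (hr.coprime_iff_not_dvd.2 fun hd => hrU (hd.trans (U.orderOf_dvd_natCard hx))))
  have hyS : y ∈ S := hcent x hxA (mem_centralizer_singleton_iff.2 hyx)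
  have hd : r ∣ Nat.card S := ho ▸ S.orderOf_dvd_natCard hyS
  rw [TypeP.card_eq s.hP, TypeP.card_derived s.hP, s.q_eq] at hd
  rcases hr.dvd_mul.1 hd with hd | hd
  · rcases hr.dvd_mul.1 hd with hd | hd
    · exact hr.not_dvd_one (hL.coprime ▸ Nat.dvd_gcd hrH hd)
    · exact hrU hd
  · rw [Nat.prime_dvd_prime_iff_eq hr s.q_prime] at hd
    exact hqH (hd ▸ hrH)

end Side

/-- `U` is normalized by a conjugate of `W₂` by an element of `T_F`. -/
theorem exists_conj_W₂_le (hodd : Odd (Nat.card G)) (hSP : Cfsg.IsTypePWith S W₁ U W₂)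
    (hTP : Cfsg.IsTypePWith T W₂ V W₁) (hq : (Nat.card W₁).Prime) (hp : (Nat.card W₂).Prime)
    (hU : U ≠ ⊥) (hel : Cfsg.IsElementaryAbelian (Nat.card W₁) (Cfsg.fittingHallOf T))
    (hCT : V ⊓ centralizer (Cfsg.fittingHallOf T : Set G) = ⊥)
    (hN : normalizer (W₁ : Set G) ≤ T) (hsol : Group.IsSolvable L)
    (hNU : normalizer (U : Set G) ≤ L) (hL1 : Cfsg.fittingHallOf L ≠ ⊥)
    (hfrob : ∀ x ∈ Cfsg.fittingHallOf L, x ≠ 1 →
      L ⊓ centralizer ({x} : Set G) ≤ Cfsg.fittingHallOf L)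
    (hidx : (Cfsg.fittingHall L).index = Nat.card W₂ * Nat.card W₁)
    (hchar : U = Cfsg.fittingHallOf L ∨ IsCyclic (Cfsg.fittingHallOf L)) :
    ∃ y ∈ Cfsg.fittingHallOf T,
      W₂.map (MulAut.conj y).toMonoidHom ≤ normalizer (U : Set G) := by
  have hN' := PF13.normalizer_W₂ hTP hodd hel.1 hCT hN
  obtain ⟨hUH, h⟩ := PF13.frobenius_over_normalizer hodd hSP hq hU hp hsol hNU hL1 hfrob hel hTP
    (hN'.1.trans hN'.2)
  have hLH : L ≤ normalizer (Cfsg.fittingHallOf L : Set G) := TypeP.le_normalizer_core L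
  rcases h with ⟨h1, h2⟩ | ⟨y, hy, -, h2⟩
  · exfalso
    have hW : W₁ ≤ L := h2 ▸ le_sup_right
    have h3 := (Cfsg.fittingHall L).card_mul_index
    have h4 : Nat.card (Cfsg.fittingHallOf L) = Nat.card (Cfsg.fittingHall L) :=
      Cores.card_map_eq _ L.subtype_injective
    have h5 : Nat.card L = Nat.card (Cfsg.fittingHallOf L) * Nat.card W₁ := by
      rw [← Coprime.card_sup (hW.trans hLH) h1, h2]
    rw [← h4, h5, hidx] at h3
    have h6 : Nat.card W₂ = 1 :=
      (mul_eq_right₀ hq.ne_zero).1 (Nat.eq_of_mul_eq_mul_left Nat.card_pos h3)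
    exact hp.ne_one h6
  · refine ⟨y, hy, ?_⟩
    have hW : W₂.map (MulAut.conj y).toMonoidHom ≤ L :=
      h2 ▸ le_sup_right.trans' le_sup_right
    rcases hchar with e | hc
    · rw [e]; exact hW.trans hLH
    · exact le_normalizer_of_cyclic hc hUH (hW.trans hLH)

/-- The conclusion of `NumData.main` is contradictory. -/
theorem final_false (hodd : Odd (Nat.card G)) (s : SideFacts S W₁ U W₂ p q) (hqp : q < p)
    (hTP : Cfsg.IsTypePWith T W₂ V W₁) (hU : U ≠ ⊥)
    (hel : Cfsg.IsElementaryAbelian q (Cfsg.fittingHallOf T))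
    (hC : U ⊓ centralizer (Cfsg.fittingHallOf S : Set G) = ⊥)
    (hCT : V ⊓ centralizer (Cfsg.fittingHallOf T : Set G) = ⊥)
    (hN : normalizer (W₁ : Set G) ≤ T) (hsol : Group.IsSolvable L)
    (hL : OverNormalizer S U L (Cfsg.fittingHallOf L)) (hL1 : Cfsg.fittingHallOf L ≠ ⊥)
    (hu : Nat.card U = normCard p q) (hidx : (Cfsg.fittingHall L).index = p * q)
    (hchar : U = Cfsg.fittingHallOf L ∨ IsCyclic (Cfsg.fittingHallOf L)) : False := by
  have hp := s.p_prime
  have hq := s.q_prime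
  haveI := Fact.mk hp
  haveI := Fact.mk hq
  set P := Cfsg.fittingHallOf S with hPdef
  set Q := Cfsg.fittingHallOf T with hQdef
  obtain ⟨hg, -, hA⟩ := galois_of_card s hC hU hL hu
  obtain ⟨F, iF, iFin, f, ψ, σ, hcard, hsurj, hadd, hzero, hequ, -, -, hfix, hψ, -, -, -, -⟩ := hg
  letI := iF
  haveI := iFin
  letI := Fintype.ofFinite F
  obtain ⟨y, hy, hyU⟩ := exists_conj_W₂_le hodd s.hP hTP (s.q_eq ▸ hq) (s.p_eq ▸ hp) hU
    (s.q_eq.symm ▸ hel) hCT hN hsol hL.norm_le hL1 hL.frob (by rw [s.p_eq, s.q_eq]; exact hidx)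
    hchar
  classical
  have hUP : U ≤ normalizer (P : Set G) := (TypeP.U_le s.hP).trans (TypeP.le_normalizer_core S)
  let f' : G → F := fun g => if h : g ∈ P then f ⟨g, h⟩ else 0
  let ψ' : G → F := fun g => if h : g ∈ U then (ψ ⟨g, h⟩ : F) else 1
  have hf' : ∀ g (h : g ∈ P), f' g = f ⟨g, h⟩ := fun g h => dif_pos h
  have hψ' : ∀ g (h : g ∈ U), ψ' g = (ψ ⟨g, h⟩ : F) := fun g h => dif_pos h
  have hf1 : f 1 = 0 := by simpa using hadd 1 1
  have hinv : ∀ a, f a⁻¹ = -f a := fun a => by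
    have := hadd a⁻¹ a
    rw [inv_mul_cancel, hf1] at this
    exact eq_neg_of_add_eq_zero_left this.symm
  have hW2 : ∀ x ∈ P, f' x ^ p = f' x → x ∈ W₂ := fun x hx e => by
    rw [hf' x hx] at e
    simpa using (hfix ⟨x, hx⟩).2 e
  have hW2T : W₂ ≤ normalizer (Q : Set G) :=
    (TypeP.W₁_le hTP).trans (TypeP.le_normalizer_core T)
  have hQp : (Nat.card Q).Coprime p := s.p_eq ▸ TypeP.coprime_core_W₁ hTP
  have key : p ≤ q := S1472.result p q (by simpa using hA) F
    (by rw [← Nat.card_eq_fintype_card, hcard, s.q_eq]) P U Q f' ψ'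
    ⟨fun _ _ => Set.mem_univ _, fun a ha b hb e => by
      rw [hf' a ha, hf' b hb] at e
      have h1 := (hzero ((⟨a, ha⟩ : P)⁻¹ * ⟨b, hb⟩)).1 (by rw [hadd, hinv, e, neg_add_cancel])
      simpa [inv_mul_eq_one] using h1,
    fun z _ => by
      obtain ⟨⟨a, ha⟩, e⟩ := hsurj z
      exact ⟨a, ha, (hf' a ha).trans e⟩⟩
    (fun x hx z hz => by rw [hf' _ (mul_mem hx hz), hf' x hx, hf' z hz, ← hadd]; rfl)
    hUP
    (fun a ha => by
      rw [hψ' a ha]
      refine ⟨Units.ne_zero _, fun x hx => ?_⟩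
      rw [hf' _ (Coprime.conj_mem (hUP ha) hx), hf' x hx]
      exact hequ ⟨a, ha⟩ ⟨x, hx⟩ _ rfl)
    (fun a ha b hb => by
      rw [hψ' _ (mul_mem ha hb), hψ' a ha, hψ' b hb, ← Units.val_mul, ← map_mul]; rfl)
    (fun a ha b hb e => by
      rw [hψ' a ha, hψ' b hb] at e
      have h1 : ψ ((⟨a, ha⟩ : U)⁻¹ * ⟨b, hb⟩) = 1 := by
        rw [map_mul, map_inv, Units.ext e, inv_mul_cancel]
      have h2 := (hψ _).1 h1
      simp only [Subgroup.coe_mul, Subgroup.coe_inv] at h2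
      have h3 : a⁻¹ * b ∈ U ⊓ centralizer (P : Set G) := by
        refine ⟨U.mul_mem (U.inv_mem ha) hb, mem_centralizer_iff.2 fun h hh => ?_⟩
        have h4 := mem_bot.1 (h2.2.2 h hh)
        rw [mul_inv_eq_one, mul_inv_eq_iff_eq_mul] at h4
        exact h4.symm
      rw [hC, mem_bot, inv_mul_eq_one] at h3
      exact h3)
    (by have := normCard_mul hp.two_le q; rw [hu]; omega)
    hel.1 hQp (fun x hx e => hW2T (hW2 x hx e)) y hy
    (fun x hx e => hyU (mem_map_of_mem _ (hW2 x hx e)))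
  omega

/-- A group `H ⊇ U` of order `|U| = (p^q - 1)/(p - 1)` over `N(U)` is cyclic. -/
theorem isCyclic_of_card_eq (s : SideFacts S W₁ U W₂ p q) (hU : U ≠ ⊥)
    (hC : U ⊓ centralizer (Cfsg.fittingHallOf S : Set G) = ⊥) (hL : OverNormalizer S U L H)
    (hu : Nat.card U = normCard p q) (hh : Nat.card H = Nat.card U) : U = H ∧ IsCyclic H := by
  have e : U = H := eq_of_le_of_card_ge hL.U_le hh.le
  exact ⟨e, e ▸ (galois_of_card s hC hU hL hu).2.1⟩

end Cfsg.Agent.OddOrder.PF14
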