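import Cfsg.Agent.OddOrder.PF14.Num

/-!
Peterfalvi section 14: the numerical conclusion.
-/

set_option autoImplicit false

namespace Cfsg.Agent.OddOrder.PF14.NumData

variable {ι : Type*} [Fintype ι] [DecidableEq ι] (d : NumData ι)

theorem budget_sum_nonneg (X : ι) :
    0 ≤ ∑ Y ∈ Finset.univ.erase X, d.A X Y ^ 2 * (d.F Y : ℤ) :=
  Finset.sum_nonneg fun Y _ => by positivity

theorem etaNorm_le (X : ι) : etaNorm d.p d.q (d.a X) (d.c X) ≤ (d.e X : ℤ) - 1 := by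
  linarith [d.budget X, d.budget_sum_nonneg X]

theorem etaNorm_ge_of_c {a c : ℤ} (hc : c ≠ 0) : (d.p : ℤ) - 1 ≤ etaNorm d.p d.q a c := by
  have hp := d.p_ge
  have hq := d.hq3
  have h1 : 1 ≤ c ^ 2 := by nlinarith [Int.one_le_abs hc, sq_abs c]
  have h2 : 0 ≤ ((d.q : ℤ) - 1) * a ^ 2 := mul_nonneg (by omega) (sq_nonneg a)
  have h3 : 0 ≤ ((d.p : ℤ) - 1) * ((d.q : ℤ) - 1) * (a + c - 1) ^ 2 :=
    mul_nonneg (mul_nonneg (by omega) (by omega)) (sq_nonneg _)
  have h4 : ((d.p : ℤ) - 1) * 1 ≤ ((d.p : ℤ) - 1) * c ^ 2 := mul_le_mul_of_nonneg_left h1 (by omega)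
  rw [etaNorm]
  linarith

theorem etaNorm_ge (a c : ℤ) : (d.q : ℤ) - 1 ≤ etaNorm d.p d.q a c := by
  have hp := d.p_ge
  have hq := d.hq3
  by_cases hc : c = 0
  · subst hc
    by_cases ha : a = 0
    · subst ha
      simp only [etaNorm]
      norm_num
      nlinarith
    · have h1 : 1 ≤ a ^ 2 := by nlinarith [Int.one_le_abs ha, sq_abs a]
      have h4 : ((d.q : ℤ) - 1) * 1 ≤ ((d.q : ℤ) - 1) * a ^ 2 :=
        mul_le_mul_of_nonneg_left h1 (by omega)
      have h3 : 0 ≤ ((d.p : ℤ) - 1) * ((d.q : ℤ) - 1) * (a + 0 - 1) ^ 2 :=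
        mul_nonneg (mul_nonneg (by omega) (by omega)) (sq_nonneg _)
      rw [etaNorm]
      linarith [show ((d.p : ℤ) - 1) * (0 : ℤ) ^ 2 = 0 by ring]
  · have := d.etaNorm_ge_of_c (a := a) hc
    have := d.hqp
    omega

theorem A_sq_mul_F_le {X Y : ι} (h : Y ≠ X) :
    d.A X Y ^ 2 * (d.F Y : ℤ) ≤ (d.e X : ℤ) - 1 - etaNorm d.p d.q (d.a X) (d.c X) := by
  have h1 := Finset.single_le_sum (f := fun Y => d.A X Y ^ 2 * (d.F Y : ℤ))
    (fun Y _ => by positivity) (Finset.mem_erase.mpr ⟨h, Finset.mem_univ Y⟩)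
  linarith [d.budget X]

theorem F_le {X Y : ι} (h : Y ≠ X) (hA : Odd (d.A X Y)) :
    (d.F Y : ℤ) ≤ (d.e X : ℤ) - 1 - etaNorm d.p d.q (d.a X) (d.c X) := by
  have h1 : (1 : ℤ) ≤ d.A X Y ^ 2 := by
    have hne : d.A X Y ≠ 0 := fun e => by simp [e] at hA
    nlinarith [Int.one_le_abs hne, sq_abs (d.A X Y)]
  have h2 := d.A_sq_mul_F_le h
  nlinarith

theorem A_eq_zero {X Y : ι} (h : Y ≠ X)
    (he : (d.e X : ℤ) - 1 ≤ etaNorm d.p d.q (d.a X) (d.c X)) : d.A X Y = 0 := by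
  by_contra hA
  have h1 : (1 : ℤ) ≤ d.A X Y ^ 2 := by nlinarith [Int.one_le_abs hA, sq_abs (d.A X Y)]
  have h2 := d.A_sq_mul_F_le h
  have h3 : (1 : ℤ) ≤ d.F Y := by exact_mod_cast d.F_pos Y
  nlinarith

/-- When `X` has no room, all other blocks see the family of `X`. -/
theorem weight_le_of_full {X : ι}
    (he : (d.e X : ℤ) - 1 ≤ etaNorm d.p d.q (d.a X) (d.c X)) :
    ∑ Y ∈ Finset.univ.erase X, d.w Y +
      (d.q * d.aS X : ℚ) ^ 2 * ((1 - 1 / d.DS) / (d.u * d.q)) ≤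
        (d.e X : ℚ) / (d.F X * d.e X + 1) := by
  refine le_trans ?_ (d.iphi X)
  have hT : 0 ≤ (d.p * d.aT X : ℚ) ^ 2 * ((1 - 1 / d.DT) / (d.v * d.p)) := by
    refine mul_nonneg (sq_nonneg _) (div_nonneg (sub_nonneg.mpr ?_) (by positivity))
    rw [div_le_one d.DT_pos]
    have hq : (3 : ℚ) ≤ d.q := by exact_mod_cast d.hq3
    exact le_trans (one_le_pow₀ (by linarith)) d.DT_bounds.1
  have hsum : ∑ Y ∈ Finset.univ.erase X, d.w Y ≤ ∑ Y ∈ Finset.univ.erase X,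
      (d.F Y : ℚ) / (d.F Y * d.e Y + 1) * (d.A Y X : ℚ) ^ 2 := by
    refine Finset.sum_le_sum fun Y hY => ?_
    have hYX := (Finset.mem_erase.mp hY).1
    have hodd := d.parity X Y hYX.symm
    rw [d.A_eq_zero hYX he, zero_add] at hodd
    have hne : d.A Y X ≠ 0 := fun e => by simp [e] at hodd
    have h1 : (1 : ℚ) ≤ (d.A Y X : ℚ) ^ 2 := by
      exact_mod_cast (show (1 : ℤ) ≤ d.A Y X ^ 2 by nlinarith [Int.one_le_abs hne, sq_abs (d.A Y X)])
    exact le_mul_of_one_le_right (d.w_nonneg Y) h1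
  linarith

/-- The complement of the Fitting Hall subgroup of `L` is not of order `q`. -/
theorem eL_eq : d.e d.L = d.p * d.q := by
  refine d.eL.resolve_left fun he => ?_
  have hp5 := d.p_ge
  have hq3 := d.hq3
  have hqp := d.hqp
  have hf := d.etaNorm_le d.L
  rw [he] at hf
  have hc : d.c d.L = 0 := by
    by_contra hc
    have := d.etaNorm_ge_of_c (a := d.a d.L) hc
    omega
  have hfull : (d.e d.L : ℤ) - 1 ≤ etaNorm d.p d.q (d.a d.L) (d.c d.L) := by
    rw [he]; exact d.etaNorm_ge _ _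
  have h := d.weight_le_of_full hfull
  rw [he] at h
  have hodd : Odd (d.aS d.L) := by simpa [hc] using d.parityS d.L
  have haS : (1 : ℚ) ≤ (d.aS d.L : ℚ) ^ 2 := by
    have hne : d.aS d.L ≠ 0 := fun e => by simp [e] at hodd
    exact_mod_cast (show (1 : ℤ) ≤ d.aS d.L ^ 2 by
      nlinarith [Int.one_le_abs hne, sq_abs (d.aS d.L)])
  have hu0 : (0 : ℚ) < d.u := by exact_mod_cast (show 0 < d.u by have := d.u_ge; omega)
  have hq : (3 : ℚ) ≤ d.q := by exact_mod_cast hq3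
  have hDS := d.DS_pos
  have hDS1 : 1 / d.DS ≤ 1 / 2 := by
    refine one_div_le_one_div_of_le (by norm_num) (le_trans ?_ d.DS_bounds.1)
    have hp : (5 : ℚ) ≤ d.p := by exact_mod_cast hp5
    exact le_trans (by linarith) (le_self_pow₀ (by linarith) (by omega : d.q ≠ 0))
  have hP : (d.q : ℚ) / d.u * (1 - 1 / d.DS) ≤
      (d.q * d.aS d.L : ℚ) ^ 2 * ((1 - 1 / d.DS) / (d.u * d.q)) := by
    rw [show (d.q * d.aS d.L : ℚ) ^ 2 * ((1 - 1 / d.DS) / (d.u * d.q)) =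
      (d.aS d.L : ℚ) ^ 2 * ((d.q : ℚ) / d.u * (1 - 1 / d.DS)) by field_simp]
    exact le_mul_of_one_le_left (mul_nonneg (by positivity) (by linarith)) haS
  have hsum0 : 0 ≤ ∑ Y ∈ Finset.univ.erase d.L, d.w Y := Finset.sum_nonneg fun Y _ => d.w_nonneg Y
  have hh0 : (0 : ℚ) < d.F d.L * (d.q : ℚ) + 1 := by positivity
  -- `h = u`
  have hhu : d.F d.L * d.q + 1 = d.u := by
    obtain ⟨k, hk⟩ := d.L_dvd
    rw [he] at hk
    have hk' : (d.F d.L : ℚ) * d.q + 1 = d.u * k := by exact_mod_cast hk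
    rw [hk'] at h hh0
    have h1 : (d.q : ℚ) / d.u * (1 - 1 / d.DS) * k ≤ d.q / d.u := by
      have hk0 : (0 : ℚ) < k := by nlinarith
      have := (hP.trans (le_add_of_nonneg_left hsum0)).trans h
      rw [← div_div, le_div_iff₀ hk0] at this
      exact this
    have h2 : (1 - 1 / d.DS) * k ≤ (1 : ℚ) := by
      rw [mul_assoc] at h1
      exact le_of_mul_le_mul_left (by linarith) (show (0 : ℚ) < d.q / d.u by positivity)
    rcases k with _ | _ | _ | k
    · omega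
    · omega
    · have h3 := d.h_odd d.L
      rw [he, hk] at h3
      obtain ⟨-, i, hi⟩ := Nat.odd_mul.mp h3
      omega
    · exfalso
      push_cast at h2
      nlinarith
  have hhu' : (d.F d.L : ℚ) * d.q + 1 = d.u := by exact_mod_cast hhu
  rw [hhu'] at h
  have hwL : d.p * d.q * d.w d.L = d.p - d.p / d.u := by
    rw [w, he, hhu', ← hhu']
    field_simp
    ring
  have hrest : d.p * d.q * ∑ Y ∈ Finset.univ.erase d.L, d.w Y ≤
      (d.q : ℚ) ^ 2 * (d.p / (d.u * d.DS)) := by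
    have := mul_le_mul_of_nonneg_left (show ∑ Y ∈ Finset.univ.erase d.L, d.w Y ≤
      d.q / (d.u * d.DS) by
        have e : (d.q : ℚ) / (d.u * d.DS) = d.q / d.u - d.q / d.u * (1 - 1 / d.DS) := by
          field_simp; ring
        linarith) (show (0 : ℚ) ≤ d.p * d.q by positivity)
    rw [show (d.p * d.q : ℚ) * (d.q / (d.u * d.DS)) = (d.q : ℚ) ^ 2 * (d.p / (d.u * d.DS)) by ring]
      at this
    exact this
  have hsplit : d.p * d.q * ∑ X, d.w X =
      d.p * d.q * d.w d.L + d.p * d.q * ∑ Y ∈ Finset.univ.erase d.L, d.w Y := by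
    rw [← mul_add, Finset.add_sum_erase _ _ (Finset.mem_univ d.L)]
  have hv : (d.q : ℚ) / d.v ≤ d.q / 11 := by
    have : (11 : ℚ) ≤ d.v := by exact_mod_cast (show 11 ≤ d.v by have := d.v_ge; omega)
    exact div_le_div_of_nonneg_left (by positivity) (by norm_num) this
  have hS : (d.q : ℚ) ^ 2 * (d.p / (d.u * d.DS)) ≤ d.q / 4 := by
    have hu7 : (2 * d.q + 1 : ℚ) ≤ d.u := by exact_mod_cast d.u_ge
    have hp : (5 : ℚ) ≤ d.p := by exact_mod_cast hp5
    have h1 : ((d.p : ℚ) - 1) ^ 3 ≤ d.DS :=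
      le_trans (pow_le_pow_right₀ (by linarith) hq3) d.DS_bounds.1
    have h2 : (d.p : ℚ) * 2 ≤ ((d.p : ℚ) - 1) ^ 3 := by
      have h4 : (4 : ℚ) ^ 2 ≤ ((d.p : ℚ) - 1) ^ 2 := pow_le_pow_left₀ (by norm_num) (by linarith) _
      rw [pow_succ]
      exact le_trans (by linarith) (mul_le_mul_of_nonneg_right h4 (by linarith))
    rw [← mul_div_assoc, div_le_iff₀ (mul_pos hu0 hDS)]
    calc (d.q : ℚ) ^ 2 * d.p ≤ d.q / 4 * ((2 * d.q + 1) * (d.p * 2)) := by nlinarith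
      _ ≤ d.q / 4 * (d.u * d.DS) := by
        refine mul_le_mul_of_nonneg_left (mul_le_mul hu7 (h2.trans h1) (by positivity) hu0.le)
          (by positivity)
  linarith [d.total, d.small_g]

theorem q_pow_gt : d.p ^ 2 * d.q < d.v :=
  lt_trans (sq_mul_lt_pow d.hq3 d.p_ge) d.v_gt

theorem u_le : d.u ≤ normCard d.p d.q := by
  have hN : 0 < normCard d.p d.q :=
    lt_of_le_of_lt (Nat.zero_le _) (normCard_gt d.hp.two_le (by have := d.hq3; omega))
  rcases d.u_cases with h | ⟨-, h⟩ | ⟨hq, b, -, hb, h⟩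
  · exact h.le
  · exact h ▸ Nat.le_mul_of_pos_right _ d.hq.pos
  · have h1 := normCard_gt (p := d.p) (q := d.q) d.hp.two_le (by omega)
    rw [hq] at h1 ⊢
    rw [h]
    exact le_trans (Nat.pow_le_pow_left (by omega) 2) h1.le

/-- The complement of the Fitting Hall subgroup of `M` is not of order `p`. -/
theorem eM_eq : d.e d.M = d.p * d.q := by
  refine d.eM.resolve_left fun he => ?_
  have hp5 := d.p_ge
  have hq3 := d.hq3
  have hqp := d.hqp
  have hLM : d.L ≠ d.M := fun h => by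
    have h1 := d.eL_eq
    rw [h, he] at h1
    have := Nat.le_mul_of_pos_right d.p d.hq.pos
    nlinarith
  have hf := d.etaNorm_le d.M
  rw [he] at hf
  have hv : d.v ≤ d.F d.M * d.p + 1 := by
    have := Nat.le_of_dvd (by positivity) d.M_dvd
    rwa [he] at this
  by_cases hc : d.c d.M = 0
  · -- the family of `M` is seen from `S`
    have hodd : Odd (d.aS d.M) := by simpa [hc] using d.parityS d.M
    have h1 : (1 : ℤ) ≤ d.aS d.M ^ 2 := by
      have hne : d.aS d.M ≠ 0 := fun e => by simp [e] at hodd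
      nlinarith [Int.one_le_abs hne, sq_abs (d.aS d.M)]
    have h2 : (d.F d.M : ℤ) * d.q ≤ (d.u : ℤ) - 1 := by
      refine le_trans ?_ d.budgetS
      refine mul_le_mul_of_nonneg_right ?_ (by omega)
      refine le_trans ?_ (Finset.single_le_sum (f := fun X => d.aS X ^ 2 * (d.F X : ℤ))
        (fun X _ => by positivity) (Finset.mem_univ d.M))
      nlinarith
    have h2' : d.F d.M * d.q + 1 ≤ d.u := by exact_mod_cast (show (d.F d.M : ℤ) * d.q + 1 ≤ d.u by
      linarith)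
    have hq1 := normCard_mul (p := d.q) d.hq.two_le d.p
    have hp1 := normCard_mul (p := d.p) d.hp.two_le d.q
    rw [← d.v_eq] at hq1
    have h3 := pow_succ_lt hq3 d.q_add_two_le
    obtain ⟨N, hN0, hN, hp1⟩ : ∃ N, 1 ≤ N ∧ d.u ≤ N ∧ N * (d.p - 1) + 1 = d.p ^ d.q :=
      ⟨normCard d.p d.q, le_trans (by have := d.u_ge; omega) d.u_le, d.u_le, hp1⟩
    -- `q (v - 1) ≤ p (u - 1)`
    have h4 : d.q * d.v + d.p ≤ d.p * N + d.q := by
      calc d.q * d.v + d.p ≤ d.q * (d.F d.M * d.p + 1) + d.p := by gcongr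
        _ = d.p * (d.F d.M * d.q + 1) + d.q := by ring
        _ ≤ d.p * N + d.q := by gcongr; exact h2'.trans hN
    have hqz : (d.v : ℤ) * ((d.q : ℤ) - 1) + 1 = (d.q : ℤ) ^ d.p := by
      have := congrArg (fun n : ℕ => (n : ℤ)) hq1
      push_cast [Nat.cast_sub (show 1 ≤ d.q by omega)] at this
      exact this
    have hpz : (N : ℤ) * ((d.p : ℤ) - 1) + 1 = (d.p : ℤ) ^ d.q := by
      have := congrArg (fun n : ℕ => (n : ℤ)) hp1
      push_cast [Nat.cast_sub (show 1 ≤ d.p by omega)] at this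
      exact this
    have h4z : (d.q : ℤ) * d.v - d.q ≤ d.p * N - d.p := by
      have := (Nat.cast_le (α := ℤ)).mpr h4
      push_cast at this
      linarith
    have h3z : (d.p : ℤ) ^ (d.q + 1) < (d.q : ℤ) ^ (d.p + 1) := by exact_mod_cast h3
    set s : ℤ := ((d.q : ℤ) * d.v - d.q) * ((d.q : ℤ) - 1) with hs
    set t : ℤ := ((d.p : ℤ) * N - d.p) * ((d.p : ℤ) - 1) with ht
    have hst : t < s := by
      have e1 : s = (d.q : ℤ) ^ (d.p + 1) - (d.q : ℤ) ^ 2 := by rw [hs, pow_succ, ← hqz]; ring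
      have e2 : t = (d.p : ℤ) ^ (d.q + 1) - (d.p : ℤ) ^ 2 := by rw [ht, pow_succ, ← hpz]; ring
      have e3 : (d.q : ℤ) ^ 2 < (d.p : ℤ) ^ 2 := by exact_mod_cast Nat.pow_lt_pow_left hqp two_ne_zero
      linarith
    have ht0 : 0 ≤ t := by
      refine mul_nonneg ?_ (by omega)
      have : (1 : ℤ) ≤ N := by
        exact_mod_cast hN0
      nlinarith
    have h5 : s * ((d.p : ℤ) - 1) ≤ t * ((d.q : ℤ) - 1) := by
      rw [hs, ht]
      calc ((d.q : ℤ) * d.v - d.q) * ((d.q : ℤ) - 1) * ((d.p : ℤ) - 1)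
          = ((d.q : ℤ) * d.v - d.q) * (((d.q : ℤ) - 1) * ((d.p : ℤ) - 1)) := by ring
        _ ≤ ((d.p : ℤ) * N - d.p) * (((d.q : ℤ) - 1) * ((d.p : ℤ) - 1)) :=
          mul_le_mul_of_nonneg_right h4z (mul_nonneg (by omega) (by omega))
        _ = _ := by ring
    have h6 : t * ((d.q : ℤ) - 1) < s * ((d.p : ℤ) - 1) :=
      mul_lt_mul' hst.le (by omega) (by omega) (lt_of_le_of_lt ht0 hst)
    omega
  · have hfull : (d.e d.M : ℤ) - 1 ≤ etaNorm d.p d.q (d.a d.M) (d.c d.M) := by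
      rw [he]; exact d.etaNorm_ge_of_c hc
    have h0 := d.A_eq_zero hLM hfull
    have hodd := d.parity d.M d.L hLM.symm
    rw [h0, zero_add] at hodd
    have h1 := d.F_le hLM.symm hodd
    have h2 := d.etaNorm_ge (d.a d.L) (d.c d.L)
    rw [d.eL_eq] at h1
    push_cast at h1
    have h3 : d.F d.M + 2 ≤ d.p * d.q := by
      exact_mod_cast (show (d.F d.M : ℤ) + 2 ≤ d.p * d.q by omega)
    have h4 := d.q_pow_gt
    have h5 := Nat.mul_le_mul_right d.p h3
    nlinarith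

end Cfsg.Agent.OddOrder.PF14.NumData
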