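import Cfsg.Agent.OddOrder.PF10.CoverInst
import Cfsg.Agent.OddOrder.PF13.TypeIIAssembly
import Cfsg.Agent.OddOrder.PF14.SideGroup
import Cfsg.Agent.CharInduce.Induce
import Cfsg.Agent.OddOrder.PF3.Family

/-!
# Peterfalvi section 14: the setting

Types of the maximal subgroups, the sets `A₀(M)` of the type-P maximal subgroups, the pair `S, T`, and a
maximal subgroup over `N(U)`.  The local analysis enters through `BG16.SectionFacts`, Peterfalvi (12.7)
through `hfrob`.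
-/

set_option autoImplicit false
set_option linter.unusedSectionVars false
set_option linter.style.haveILetI false

namespace Cfsg.Agent.OddOrder.PF14

open Subgroup
open Cfsg.Agent Cfsg.Agent.OddOrder

universe u

variable {G : Type u} [Group G]

/-- With trivial `R` the Dade map is induction. -/
theorem dade_eq_indFun_of_bot [Fintype G] {A : Set G} {L : Subgroup G} [Fintype L] {R : G → Subgroup G}
    (hD : Cfsg.DadeHypothesis A L R) (hR : ∀ a ∈ A, R a = ⊥) {α : L → ℂ}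
    (hα : Cfsg.IsClassFunction L α) (hαA : ∀ x : L, (x : G) ∉ A → α x = 0) :
    Cfsg.dadeIsometry A L R α = Cfsg.indFun L α := by
  classical
  funext g
  have hz : ∀ x : G, x⁻¹ * g * x ∉ A → Cfsg.extendByZero L α (x⁻¹ * g * x) = 0 := by
    intro x hx
    by_cases h : x⁻¹ * g * x ∈ L
    · rw [CharInduce.extendByZero_of_mem _ h]
      exact hαA _ hx
    · exact CharInduce.extendByZero_of_not_mem _ h
  by_cases hg : ∃ a : L, (a : G) ∈ A ∧ ∃ x : G, ∃ u ∈ R (a : G), x * g * x⁻¹ = (a : G) * u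
  · obtain ⟨a, ha, x, u, hu, hx⟩ := hg
    rw [H43.dade_apply hD hα ha hu hx]
    rw [hR _ ha, mem_bot] at hu
    rw [hu, mul_one] at hx
    rw [← CharInduce.isClassFunction_indFun L α g x, hx]
    have key : ∀ y : G, Cfsg.extendByZero L α (y⁻¹ * (a : G) * y) = if y ∈ L then α a else 0 := by
      intro y
      split_ifs with hy
      · have := CharInduce.extendByZero_conj hα (inv_mem hy) (a : G)
        rw [inv_inv, CharInduce.extendByZero_coe] at this
        exact this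
      · by_cases h : y⁻¹ * (a : G) * y ∈ L
        · rw [CharInduce.extendByZero_of_mem _ h]
          refine hαA _ fun hA => hy ?_
          obtain ⟨l, hl, he⟩ := hD.fusion _ ha y⁻¹ (by rwa [inv_inv])
          rw [inv_inv] at he
          have hc : y * l ∈ centralizer ({(a : G)} : Set G) := by
            refine mem_centralizer_singleton_iff.2 ?_
            calc y * l * (a : G) = y * (l * a * l⁻¹) * l := by group
              _ = y * (y⁻¹ * a * y) * l := by rw [he]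
              _ = (a : G) * (y * l) := by group
          have hcL : y * l ∈ L := by
            have h' := hD.sup_eq _ ha
            rw [hR _ ha, bot_sup_eq] at h'
            exact (h'.ge hc).1
          simpa using mul_mem hcL (inv_mem hl)
        · exact CharInduce.extendByZero_of_not_mem _ h
    simp only [CharInduce.indFun_apply, key]
    rw [← Finset.sum_filter, Finset.sum_const, nsmul_eq_mul, ← Fintype.card_subtype,
      ← Nat.card_eq_fintype_card, ← mul_assoc, inv_mul_cancel₀ (CharInduce.card_ne_zero_complex _),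
      one_mul]
  · rw [H43.dade_apply_zero hg, CharInduce.indFun_apply, Finset.sum_eq_zero fun x _ => hz x fun h => ?_,
      mul_zero]
    exact hg ⟨⟨_, hD.subset h⟩, h, x⁻¹, 1, one_mem _, by simp⟩

/-- A conjugacy `X = Y^x` carried to conjugates of `X`. -/
theorem map_conj_back {X Y : Subgroup G} {x : G} (e : X = Y.map (MulAut.conj x).toMonoidHom) (z : G) :
    Y.map (MulAut.conj z).toMonoidHom = X.map (MulAut.conj (z * x⁻¹)).toMonoidHom := by
  rw [e, Coprime.map_conj_map_conj, inv_mul_cancel_right]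

variable [Finite G]

/-- A maximal subgroup containing the centralizer of the only element set contains the normalizer. -/
theorem normalizer_le_of_unique {T W : Subgroup G} (hT : IsCoatom T) (hsimple : IsSimpleGroup G)
    (hT1 : T ≠ ⊥) (hC : centralizer (W : Set G) ≤ T)
    (hu : ∀ L : Subgroup G, IsCoatom L → centralizer (W : Set G) ≤ L → L = T) :
    normalizer (W : Set G) ≤ T := by
  intro n hn
  have hle : centralizer (W : Set G) ≤ T.map (MulAut.conj n).toMonoidHom := by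
    intro c hc
    rw [Coprime.mem_map_conj]
    refine hC (mem_centralizer_iff.2 fun w hw => ?_)
    have h := mem_centralizer_iff.1 hc (n * w * n⁻¹) (Coprime.conj_mem hn hw)
    calc w * (n⁻¹ * c * n) = n⁻¹ * ((n * w * n⁻¹) * c) * n := by group
      _ = n⁻¹ * (c * (n * w * n⁻¹)) * n := by rw [h]
      _ = n⁻¹ * c * n * w := by group
  have hnN : n ∈ normalizer (T : Set G) :=
    Coprime.mem_normalizer_of_map_conj (hu _ (OddOrder.isCoatom_map _ hT) hle)
  obtain ⟨⟨t, ht⟩, ht1⟩ := (Subgroup.ne_bot_iff_exists_ne_one).1 hT1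
  have hN := PF8.normalizer_eq_of_subset (A := (T : Set G)) hT subset_rfl
    ⟨t, ht, fun e => ht1 (Subtype.ext e)⟩ fun m hm a ha => mul_mem (mul_mem hm ha) (inv_mem hm)
  exact hN ▸ hnN

variable (hG : Cfsg.IsMinSimpleOddOrder G) (F : BG16.SectionFacts G)

section TypeP

variable {M U W₁ W₂ : Subgroup G} (hM : IsCoatom M)

include hG F hM

theorem kappa_nonempty (hP : Cfsg.IsTypePWith M W₁ U W₂) : (Cfsg.kappa M).Nonempty := by
  rcases (Cfsg.kappa M).eq_empty_or_nonempty with h | h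
  · exact absurd ⟨W₁, U, W₂, hP⟩ (BG16.typeI_not_typeP ((BG16.typeI_iff hG F hM).2 h))
  · exact h

theorem not_typeI (hP : Cfsg.IsTypePWith M W₁ U W₂) : ¬ IsTypeI M := fun h =>
  BG16.typeI_not_typeP h ⟨W₁, U, W₂, hP⟩

/-- `(W₁, U')` is a factorisation of `M` and `K* = W₂`. -/
theorem decomp_of_typeP (hP : Cfsg.IsTypePWith M W₁ U W₂) :
    (∃ U' : Subgroup G, Cfsg.IsSigmaDecomposition M W₁ U') ∧
      Cfsg.sigmaCore M ⊓ centralizer (W₁ : Set G) = W₂ ∧
      Cfsg.IsPiHallOf (Cfsg.kappa M) W₁ M ∧ IsCyclic W₁ := by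
  obtain ⟨K, V, hd⟩ := BG16.decomposition_exists F hM
  have hK : K ≠ ⊥ := (BG16.K_ne_bot_iff hd).2 (kappa_nonempty hG F hM hP)
  have hder : ⁅M, M⁆ = V ⊔ Cfsg.sigmaCore M := BG16.derived_eq F hM hd hK
  have hcard : Nat.card W₁ = Nat.card K := by
    have e1 := TypeP.card_eq hP
    rw [hder, BG16.card_US hd, BG16.card_M hd, mul_comm (Nat.card K)] at e1
    exact (Nat.eq_of_mul_eq_mul_left (Nat.mul_pos Nat.card_pos Nat.card_pos) e1).symm
  have hW : W₁ ≤ M := TypeP.W₁_le hP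
  have hrel : W₁.relIndex M = K.relIndex M := by
    have e1 := relIndex_mul_relIndex ⊥ W₁ M bot_le hW
    have e2 := relIndex_mul_relIndex ⊥ K M bot_le hd.hall.1
    rw [relIndex_bot_left, relIndex_bot_left] at e1 e2
    rw [hcard, ← e2] at e1
    exact Nat.eq_of_mul_eq_mul_left Nat.card_pos e1
  have hHall : Cfsg.IsPiHallOf (Cfsg.kappa M) W₁ M :=
    ⟨hW, fun p hp h => hd.hall.2.1 p hp (hcard ▸ h), fun p hp h => hrel ▸ hd.hall.2.2 p hp h⟩
  refine ⟨(F.s1352 M hM W₁ hP.W₁_cyclic hHall).1, ?_, hHall, hP.W₁_cyclic⟩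
  refine le_antisymm ?_ (le_inf ?_ ?_)
  · rw [← TypeP.derived_inf_centralizer_W₁ hP]
    exact inf_le_inf_right _ (F.s1355 M hM).2.2.1
  · exact (TypeP.W₂_le_core hP).trans (F.s1355 M hM).2.1
  · exact (TypeP.derived_inf_centralizer_W₁ hP).ge.trans inf_le_right

/-- For Type II, `M_σ = M_F`. -/
theorem sigmaCore_typeII (hII : Cfsg.IsOfTypeII M) : Cfsg.sigmaCore M = Cfsg.fittingHallOf M := by
  rw [← BG16.typeCore_eq hG F hM, PF8.typeCore_eq_core (Or.inr hII)]

end TypeP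

section Frob

variable (hfrob : ∀ L : Subgroup G, IsCoatom L → IsTypeI L → ∀ x ∈ Cfsg.fittingHallOf L, x ≠ 1 →
  L ⊓ centralizer ({x} : Set G) ≤ Cfsg.fittingHallOf L)

/-- `A(L) = A₁(L) = L_F ∖ 1` for `L` of Type I. -/
theorem setA_typeI (hfrob : ∀ L : Subgroup G, IsCoatom L → IsTypeI L → ∀ x ∈ Cfsg.fittingHallOf L, x ≠ 1 →
      L ⊓ centralizer ({x} : Set G) ≤ Cfsg.fittingHallOf L)
    {L : Subgroup G} (hL : IsCoatom L) (hI : IsTypeI L) :
    setA L = (Cfsg.fittingHallOf L : Set G) \ {1} ∧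
      Cfsg.typeA1 L = (Cfsg.fittingHallOf L : Set G) \ {1} ∧ setA0 L = setA L := by
  have h1 : setA L = (Cfsg.fittingHallOf L : Set G) \ {1} := by
    ext a
    rw [setA, if_pos hI]
    refine ⟨fun ⟨haL, ha1, x, hx, hx1, hax⟩ =>
      ⟨hfrob L hL hI x hx hx1 ⟨haL, mem_centralizer_singleton_iff.2 hax⟩, ha1⟩, fun h => ?_⟩
    exact ⟨TypeP.core_le L h.1, h.2, a, h.1, h.2, rfl⟩
  refine ⟨h1, by rw [Cfsg.typeA1, PF8.typeCore_eq_core (Or.inl hI)], ?_⟩
  ext a
  exact ⟨fun h => h.elim id fun h' => absurd hI h'.1, fun h => Or.inl h⟩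

include hG F hfrob

/-- The centralizers of the elements of `A₀(M)` for `M` of type P. -/
theorem centralizer_le_of_typeP {M : Subgroup G} (hM : IsCoatom M) (hκ : (Cfsg.kappa M).Nonempty)
    {x : G} (hx : x ∈ setA0 M) : centralizer ({x} : Set G) ≤ M := by
  by_contra hn
  have S := PF10.support_of_facts hG F hM
  obtain ⟨hx1, hu⟩ := S.unique x hx hn
  obtain ⟨L, hL, hxL⟩ := hu.exists
  obtain ⟨-, -, -, -, ⟨hA, hA1⟩, hty⟩ := S.supporting x hx hn L hL hxL
  rcases hty with hI | hII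
  · obtain ⟨h1, h2, -⟩ := setA_typeI hfrob hL hI
    exact hA1 (h2 ▸ h1 ▸ hA)
  · obtain ⟨W₁, U, W₂, hP, -⟩ := id hII
    obtain ⟨hxσ, hx1'⟩ := (BG16.mem_typeA1_iff hG F hM).1 hx1
    exact hκ.ne_empty (F.s1376 M hM x hxσ hx1' hn L hL hxL (kappa_nonempty hG F hL hP)).1

theorem supportR_eq_bot_of_typeP {M : Subgroup G} (hM : IsCoatom M) (hκ : (Cfsg.kappa M).Nonempty)
    {x : G} (hx : x ∈ setA0 M) : Cfsg.supportR M x = ⊥ :=
  PF8.supportR_eq_bot (centralizer_le_of_typeP hG F hfrob hM hκ hx)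

/-- `A₀(M)` is a TI-subset with normaliser `M`. -/
theorem setA0_ti {M : Subgroup G} (hM : IsCoatom M) (hκ : (Cfsg.kappa M).Nonempty) :
    Cfsg.IsTISubset (setA0 M) ∧ normalizer (setA0 M) = M := by
  haveI := hG.2.1
  have S := PF10.support_of_facts hG F hM
  obtain ⟨h1, h2, h3, -⟩ := F.s1355 M hM
  obtain ⟨hA0, hne, hinv⟩ := PF8.sets_spec h1 (h2.trans h3) (A := setA0 M) (Or.inr (Or.inr rfl))
  have hN : normalizer (setA0 M) = M :=
    PF8.normalizer_eq_of_subset hM (PF8.typeA0_subset M) hne hinv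
  refine ⟨fun g hg x hx hgx => absurd ?_ (hN ▸ hg), hN⟩
  obtain ⟨m, hm, e⟩ := S.fusion x hx g hgx
  have : m⁻¹ * g ∈ centralizer ({x} : Set G) := by
    refine mem_centralizer_singleton_iff.2 ?_
    calc m⁻¹ * g * x = m⁻¹ * (g * x * g⁻¹) * g := by group
      _ = m⁻¹ * (m * x * m⁻¹) * g := by rw [e]
      _ = x * (m⁻¹ * g) := by group
  simpa using mul_mem hm (centralizer_le_of_typeP hG F hfrob hM hκ hx this)

/-- The set `tilde` of a type-P maximal subgroup consists of the conjugates of `M_σ ∖ 1`. -/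
theorem tilde_typeP {M : Subgroup G} (hM : IsCoatom M) (hκ : (Cfsg.kappa M).Nonempty) :
    Cfsg.tildeOf M ((Cfsg.sigmaCore M : Set G) \ {1}) =
      {g : G | ∃ a ∈ (Cfsg.sigmaCore M : Set G) \ {1}, ∃ y : G, g = y * a * y⁻¹} := by
  have hsub : (Cfsg.sigmaCore M : Set G) \ {1} ⊆ setA0 M := fun a ha =>
    PF8.typeA1_subset_typeA0 ((F.s1355 M hM).2.1.trans (F.s1355 M hM).2.2.1)
      ((BG16.mem_typeA1_iff hG F hM).2 ⟨ha.1, ha.2⟩)
  ext g
  constructor
  · rintro ⟨a, ha, r, hr, y, rfl⟩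
    rw [supportR_eq_bot_of_typeP hG F hfrob hM hκ (hsub ha), mem_bot] at hr
    exact ⟨a, ha, y, by rw [hr, mul_one]⟩
  · rintro ⟨a, ha, y, rfl⟩
    exact ⟨a, ha, 1, one_mem _, y, by rw [mul_one]⟩

omit [Finite G] in
variable [Fintype G] in
/-- On class functions supported in `A₀(M)` the Dade map is induction. -/
theorem dade_typeP_eq_indFun {M : Subgroup G} [Fintype M] (hM : IsCoatom M)
    (hκ : (Cfsg.kappa M).Nonempty) {α : M → ℂ} (hα : Cfsg.IsClassFunction M α)
    (hαA : ∀ x : M, (x : G) ∉ setA0 M → α x = 0) :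
    Cfsg.dadeIsometry (setA0 M) M (Cfsg.supportR M) α = Cfsg.indFun M α :=
  dade_eq_indFun_of_bot (PF10.dade_of_facts hG F hM)
    (fun _ ha => supportR_eq_bot_of_typeP hG F hfrob hM hκ ha) hα hαA

end Frob

section Pair

variable {S T U V W₁ W₂ : Subgroup G}

include hG F

/-- The mate: `W₁ = T_σ ⊓ C(W₂)`; every maximal subgroup is of Type I or conjugate to `S` or `T`. -/
theorem maximal_cases (hS : IsCoatom S) (hT : IsCoatom T) (hSP : Cfsg.IsTypePWith S W₁ U W₂)
    (hTP : Cfsg.IsTypePWith T W₂ V W₁) {M : Subgroup G} (hM : IsCoatom M) :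
    IsTypeI M ∨ ∃ g : G,
      M = S.map (MulAut.conj g).toMonoidHom ∨ M = T.map (MulAut.conj g).toMonoidHom := by
  obtain ⟨⟨U', hd⟩, hk, -, -⟩ := decomp_of_typeP hG F hS hSP
  obtain ⟨-, hkT, -, -⟩ := decomp_of_typeP hG F hT hTP
  rcases (Cfsg.kappa M).eq_empty_or_nonempty with h | h
  · exact Or.inl ((BG16.typeI_iff hG F hM).2 h)
  · refine Or.inr ((BG14.two_classes (BG14.inputs hG) hS hd hSP.W₁_ne hT ?_).2 M hM h)
    rw [show BG14.kStar S W₁ = W₂ from hk, hkT]

/-- `N(W₁) ≤ T` for `|W₁|` prime. -/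
theorem normalizer_W₁_le (hS : IsCoatom S) (hT : IsCoatom T) (hSP : Cfsg.IsTypePWith S W₁ U W₂)
    (hTP : Cfsg.IsTypePWith T W₂ V W₁) (hq : (Nat.card W₁).Prime) :
    normalizer (W₁ : Set G) ≤ T := by
  obtain ⟨⟨U', hd⟩, hk, -, -⟩ := decomp_of_typeP hG F hS hSP
  obtain ⟨-, hkT, -, -⟩ := decomp_of_typeP hG F hT hTP
  have I := BG14.inputs hG
  obtain ⟨P, -⟩ := BG14.pair_of_star I hS hd hSP.W₁_ne hT (by
    rw [show BG14.kStar S W₁ = W₂ from hk, hkT])
  obtain ⟨h1, h2⟩ := P.unique_maximal' I (le_refl W₁) hq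
  refine normalizer_le_of_unique hT hG.2.1 (fun e => hTP.W₁_ne ?_) h1 h2
  exact le_bot_iff.1 ((TypeP.W₁_le hTP).trans e.le)

/-- Unless all maximal subgroups are of Type I there is a pair `S, T` with `S` of Type II. -/
theorem exists_pair (h : ∃ M : Subgroup G, IsCoatom M ∧ ¬ IsTypeI M) :
    ∃ S T W₁ W₂ U V : Subgroup G, IsCoatom S ∧ IsCoatom T ∧ Cfsg.IsTypePWith S W₁ U W₂ ∧
      Cfsg.IsTypePWith T W₂ V W₁ ∧ S ⊓ T = W₁ ⊔ W₂ ∧ Cfsg.IsOfTypeII S ∧
      (Cfsg.IsOfTypeII T ∨ Cfsg.IsOfTypeIII T ∨ Cfsg.IsOfTypeIV T ∨ Cfsg.IsOfTypeV T) := by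
  obtain ⟨M, hM, hI⟩ := h
  obtain ⟨K, V, hd⟩ := BG16.decomposition_exists F hM
  have hK : K ≠ ⊥ := fun e => hI ((BG16.typeI_iff hG F hM).2 ((BG16.K_eq_bot_iff hd).1 e))
  obtain ⟨N, ⟨hN, h1, h2⟩, -⟩ := F.s1366 M hM K V hd hK
  obtain ⟨hMN, -⟩ := F.s1368 M hM K V hd hK N hN h1 h2
  obtain ⟨hor, -⟩ := F.s1369 M hM K V hd hK N hN h1 h2
  obtain ⟨hcyc, hne, -, -⟩ := F.s1364 M hM K V hd hK
  obtain ⟨V', hd'⟩ := (F.s1352 N hN _ hcyc h2).1
  obtain ⟨D, hP, -⟩ := BG16.exists_typePWith hG F hM hd hK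
  obtain ⟨D', hP', -⟩ := BG16.exists_typePWith hG F hN hd' hne
  rw [coe_inf] at hP'
  simp only [Set.inf_eq_inter] at h1
  rw [← h1] at hP'
  have c1 := BG16.type_P_cases hG F hM hd hK
  have c2 := BG16.type_P_cases hG F hN hd' hne
  rcases hor with h | h
  · exact ⟨M, N, K, _, D, D', hM, hN, hP, hP', hMN,
      (BG16.classification hG F hM hd).2.1.2 ⟨hK, h⟩, c2⟩
  · exact ⟨N, M, _, K, D', D, hN, hM, hP', hP, by rw [inf_comm, hMN, sup_comm],
      (BG16.classification hG F hN hd').2.1.2 ⟨hne, h V' hd'⟩, c1⟩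

/-- The orders of `L_F` and `M_σ` are coprime for `L` of Type I and `M` of type P. -/
theorem coprime_typeI_typeP {L M : Subgroup G} (hL : IsCoatom L) (hI : IsTypeI L) (hM : IsCoatom M)
    (hP : Cfsg.IsTypePWith M W₁ U W₂) :
    (Nat.card (Cfsg.fittingHallOf L)).Coprime (Nat.card (Cfsg.sigmaCore M)) := by
  refine Nat.coprime_of_dvd fun r hr h1 h2 => ?_
  have e : Cfsg.sigmaCore L = Cfsg.fittingHallOf L := by
    rw [← BG16.typeCore_eq hG F hL, PF8.typeCore_eq_core (Or.inl hI)]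
  have hrL : r ∈ Cfsg.sigma L := OddOrder.sigmaCore_isPiNumber L r hr (e ▸ h1)
  have hrM : r ∈ Cfsg.sigma M := OddOrder.sigmaCore_isPiNumber M r hr h2
  obtain ⟨g, hg⟩ := F.s1378.2 L M hL hM ⟨r, hrL, hrM⟩
  refine (kappa_nonempty hG F hM hP).ne_empty ?_
  rw [hg, PF8.kappa_map]
  exact (BG16.typeI_iff hG F hL).1 hI

/-- A maximal subgroup over `N(U)` is of Type I; `U ≤ L_F` and `W₁` lies in a complement normalising it. -/
theorem exists_over_normalizer
    (hfrob : ∀ L : Subgroup G, IsCoatom L → IsTypeI L → ∀ x ∈ Cfsg.fittingHallOf L, x ≠ 1 →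
      L ⊓ centralizer ({x} : Set G) ≤ Cfsg.fittingHallOf L)
    (hS : IsCoatom S) (hT : IsCoatom T) (hSP : Cfsg.IsTypePWith S W₁ U W₂)
    (hTP : Cfsg.IsTypePWith T W₂ V W₁) (hII : Cfsg.IsOfTypeII S) :
    (∃ L : Subgroup G, IsCoatom L ∧ normalizer (U : Set G) ≤ L) ∧
      ∀ L : Subgroup G, IsCoatom L → normalizer (U : Set G) ≤ L →
        IsTypeI L ∧ W₁ ≤ L ∧ ¬ Nat.card W₁ ∣ Nat.card (Cfsg.fittingHallOf L) ∧
        OverNormalizer S U L (Cfsg.fittingHallOf L) ∧
        (Nat.card (Cfsg.fittingHallOf L)).Coprime (Nat.card (Cfsg.fittingHallOf T)) ∧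
        ∃ E : Subgroup G, W₁ ≤ E ∧ E ≤ L ∧ E ≤ normalizer (W₁ : Set G) ∧
          Cfsg.fittingHallOf L ⊓ E = ⊥ ∧ Cfsg.fittingHallOf L ⊔ E = L ∧
          (Nat.card E).Coprime (Nat.card (Cfsg.fittingHallOf L)) ∧
          (Cfsg.fittingHall L).index = Nat.card E ∧
          ∀ e ∈ E, e ≠ 1 → Cfsg.fittingHallOf L ⊓ centralizer ({e} : Set G) = ⊥ := by
  haveI := hG.2.1
  obtain ⟨hU, hq, hnN⟩ := PF13.typeII_facts hSP hII
  have hUtop : U ≠ ⊤ := fun e => hS.1 (top_le_iff.1 (e ▸ TypeP.U_le hSP))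
  obtain ⟨L₀, hL₀, hle₀⟩ := BG11.exists_coatom_ge (BG11.normalizer_ne_top' hG hU hUtop)
  refine ⟨⟨L₀, hL₀, hle₀⟩, fun L hL hNU => ?_⟩
  have hI : IsTypeI L := by
    refine (maximal_cases hG F hS hT hSP hTP hL).resolve_right ?_
    rintro ⟨g, rfl | rfl⟩
    · exact PF13.not_le_conj_self hSP hnN g hNU
    · exact PF13.not_le_conj_other hSP hTP hU hq g hNU
  set q := Nat.card W₁ with hqdef
  haveI := Fact.mk hq
  set H := Cfsg.fittingHallOf L with hH
  have hsol : Group.IsSolvable L := hI.1.1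
  haveI := hsol
  have hH1 : H ≠ ⊥ := fun h =>
    hI.1.2.2.1 ((map_eq_bot_iff_of_injective _ L.subtype_injective).mp h)
  have hHL : H ≤ L := TypeP.core_le L
  have hLH : L ≤ normalizer (H : Set G) := TypeP.le_normalizer_core L
  have hHn : Group.IsNilpotent H := TypeP.core_nilpotent L
  have hW1L : W₁ ≤ L := hSP.U_normal.trans hNU
  have hUL : U ≤ L := le_normalizer.trans hNU
  have hqH : ¬ q ∣ Nat.card H := by
    intro h
    have hWH : W₁ ≤ H := fun w hw => BG16.mem_of_coprime_relIndex hHL hLH (hW1L hw)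
      ((BG16.fittingHallOf_coprime L).coprime_dvd_left ((W₁.orderOf_dvd_natCard hw).trans h))
    refine hU (eq_bot_iff.mpr ?_)
    rw [← PF13.commutator_U_W₁ hSP]
    refine (le_inf (Coprime.commutator_le_left_of_normalizer hSP.U_normal) ?_).trans
      (show U ⊓ H ≤ ⊥ from fun u hu => mem_bot.mpr (PF13.eq_one_of_nilpotent hSP hHn hWH hu.1 hu.2))
    exact (commutator_mono le_rfl hWH).trans ((commutator_comm U H).le.trans
      (Coprime.commutator_le_left_of_normalizer (hUL.trans hLH)))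
  obtain ⟨E, hE, -, hWE⟩ := Coprime.exists_invariant_hall_ge (A := (⊥ : Subgroup G)) (K := L)
    bot_le (by rw [card_bot]; exact Nat.coprime_one_left _) hsol
    (U := W₁) hW1L bot_le (π := {r : ℕ | ¬ r ∣ Nat.card H}) (fun r hr hd => by
      rw [← hqdef, Nat.prime_dvd_prime_iff_eq hr hq] at hd
      exact hd ▸ hqH)
  have hEH : E ≤ normalizer (H : Set G) := hE.1.trans hLH
  have hcop : (Nat.card E).Coprime (Nat.card H) :=
    Nat.coprime_of_dvd fun r hr h1 h2 => hE.2.1 r hr h1 h2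
  have hdis : H ⊓ E = ⊥ := Coprime.inf_eq_bot hcop.symm
  have hsup : H ⊔ E = L := by
    refine eq_of_le_of_card_ge (sup_le hHL hE.1) ?_
    rw [Coprime.card_sup hEH hdis]
    have h1 : Nat.card H * H.relIndex L = Nat.card L := by
      rw [← relIndex_bot_left, ← relIndex_bot_left (H := L), relIndex_mul_relIndex _ _ _ bot_le hHL]
    have h2 : Nat.card E * E.relIndex L = Nat.card L := by
      rw [← relIndex_bot_left, ← relIndex_bot_left (H := L), relIndex_mul_relIndex _ _ _ bot_le hE.1]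
    have h3 : H.relIndex L ∣ Nat.card E := by
      refine (Nat.coprime_of_dvd fun r hr ha hb => ?_ :
        (H.relIndex L).Coprime (E.relIndex L)).dvd_of_dvd_mul_right
        (h2.symm ▸ h1 ▸ dvd_mul_left _ _)
      by_cases hrH : r ∣ Nat.card H
      · exact hr.not_dvd_one ((BG16.fittingHallOf_coprime L) ▸ Nat.dvd_gcd hrH ha)
      · exact hE.2.2 r hr hrH hb
    rw [← h1]
    exact Nat.mul_le_mul_left _ (Nat.le_of_dvd Nat.card_pos h3)
  have hfr := hfrob L hL hI
  have hfpf : ∀ e ∈ E, e ≠ 1 → H ⊓ centralizer ({e} : Set G) = ⊥ := by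
    intro e he he1
    refine eq_bot_iff.mpr fun x hx => mem_bot.mpr ?_
    by_contra hx1
    have h1 : e ∈ H ⊓ E := ⟨hfr x hx.1 hx1 ⟨hE.1 he,
      mem_centralizer_singleton_iff.mpr (mem_centralizer_singleton_iff.mp hx.2).symm⟩, he⟩
    rw [hdis] at h1
    exact he1 (mem_bot.mp h1)
  have hEW : E ≤ normalizer (W₁ : Set G) := PF13.normal_of_prime_fpf hG.1 hHn hH1
    (Coprime.isSolvable_of_le hE.1 hsol) hEH hcop hfpf hWE hqdef.symm
  have hUH : U ≤ H := by
    have hLW : L ≤ normalizer ((H ⊔ W₁ : Subgroup G) : Set G) := by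
      rw [← hsup]
      refine sup_le (le_sup_left.trans le_normalizer) fun e he => ?_
      refine Coprime.mem_normalizer_of_map_conj ?_
      rw [Subgroup.map_sup, Coprime.map_conj_eq (hEH he), Coprime.map_conj_eq (hEW he)]
    have h1 : ⁅U, W₁⁆ ≤ H ⊔ W₁ := (commutator_mono le_rfl le_sup_right).trans
      ((commutator_comm U (H ⊔ W₁)).le.trans
        (Coprime.commutator_le_left_of_normalizer (hUL.trans hLW)))
    rw [PF13.commutator_U_W₁ hSP] at h1
    intro u hu
    refine BG16.mem_of_coprime_relIndex le_sup_left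
      (sup_le le_normalizer (hW1L.trans hLH)) (h1 hu) ?_
    have h2 : H.relIndex (H ⊔ W₁) ∣ q := by
      have h := Coprime.card_sup (hW1L.trans hLH)
        (Coprime.inf_eq_bot ((hq.coprime_iff_not_dvd.mpr hqH).symm :
          (Nat.card H).Coprime (Nat.card W₁)))
      rw [← relIndex_bot_left (H := H ⊔ W₁),
        ← relIndex_mul_relIndex ⊥ H (H ⊔ W₁) bot_le le_sup_left, relIndex_bot_left] at h
      exact (Nat.eq_of_mul_eq_mul_left Nat.card_pos h).dvd
    exact ((TypeP.coprime_U_W₁ hSP).coprime_dvd_left (U.orderOf_dvd_natCard hu)).coprime_dvd_right h2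
  have hcopS := (coprime_typeI_typeP hG F hL hI hS hSP).coprime_dvd_right
    (card_dvd_of_le (F.s1355 S hS).2.1)
  have hcopT := (coprime_typeI_typeP hG F hL hI hT hTP).coprime_dvd_right
    (card_dvd_of_le (F.s1355 T hT).2.1)
  have hidx : (Cfsg.fittingHall L).index = Nat.card E := by
    have h1 := (Cfsg.fittingHall L).card_mul_index
    have h2 : Nat.card H = Nat.card (Cfsg.fittingHall L) := Cores.card_map_eq _ L.subtype_injective
    have h3 : Nat.card L = Nat.card H * Nat.card E := by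
      rw [← Coprime.card_sup hEH hdis, hsup]
    rw [← h2, h3] at h1
    exact Nat.eq_of_mul_eq_mul_left Nat.card_pos h1
  exact ⟨hI, hW1L, hqH, ⟨hNU, hUH, hfr, hcopS⟩, hcopT, E, hWE, hE.1, hEW, hdis, hsup, hcop, hidx, hfpf⟩

/-- `[L : L_F] ∈ {q, pq}` when `T_F` is elementary abelian and `C_V(T_F) = 1`. -/
theorem index_over_normalizer
    (hfrob : ∀ L : Subgroup G, IsCoatom L → IsTypeI L → ∀ x ∈ Cfsg.fittingHallOf L, x ≠ 1 →
      L ⊓ centralizer ({x} : Set G) ≤ Cfsg.fittingHallOf L)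
    (hS : IsCoatom S) (hT : IsCoatom T) (hSP : Cfsg.IsTypePWith S W₁ U W₂)
    (hTP : Cfsg.IsTypePWith T W₂ V W₁) (hII : Cfsg.IsOfTypeII S) (hp : (Nat.card W₂).Prime)
    (hel : Cfsg.IsElementaryAbelian (Nat.card W₁) (Cfsg.fittingHallOf T))
    (hC : V ⊓ centralizer (Cfsg.fittingHallOf T : Set G) = ⊥)
    {L : Subgroup G} (hL : IsCoatom L) (hNU : normalizer (U : Set G) ≤ L) :
    (Cfsg.fittingHall L).index = Nat.card W₁ ∨
      (Cfsg.fittingHall L).index = Nat.card W₂ * Nat.card W₁ := by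
  obtain ⟨hU, hq, -⟩ := PF13.typeII_facts hSP hII
  obtain ⟨hI, -, -, -, -, -⟩ := (exists_over_normalizer hG F hfrob hS hT hSP hTP hII).2 L hL hNU
  have hN := PF13.normalizer_W₂ hTP hG.1 hel.1 hC (normalizer_W₁_le hG F hS hT hSP hTP hq)
  obtain ⟨-, h⟩ := PF13.frobenius_over_normalizer hG.1 hSP hq hU hp hI.1.1 hNU
    (fun h => hI.1.2.2.1 ((map_eq_bot_iff_of_injective _ L.subtype_injective).mp h))
    (hfrob L hL hI) hel hTP (hN.1.trans hN.2)
  have key : ∀ E : Subgroup G, E ≤ L → Cfsg.fittingHallOf L ⊓ E = ⊥ →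
      Cfsg.fittingHallOf L ⊔ E = L → (Cfsg.fittingHall L).index = Nat.card E := by
    intro E hEL hdis hsup
    have h1 := (Cfsg.fittingHall L).card_mul_index
    have h2 : Nat.card (Cfsg.fittingHallOf L) = Nat.card (Cfsg.fittingHall L) :=
      Cores.card_map_eq _ L.subtype_injective
    have h3 : Nat.card L = Nat.card (Cfsg.fittingHallOf L) * Nat.card E := by
      rw [← Coprime.card_sup (hEL.trans (TypeP.le_normalizer_core L)) hdis, hsup]
    rw [← h2, h3] at h1
    exact Nat.eq_of_mul_eq_mul_left Nat.card_pos h1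
  rcases h with ⟨h1, h2⟩ | ⟨y, hy, h1, h2⟩
  · exact Or.inl (key W₁ (h2 ▸ le_sup_right) h1 h2)
  · refine Or.inr ((key _ (h2 ▸ le_sup_right) h1 h2).trans ?_)
    have hc : y ∈ centralizer (W₁ : Set G) := by
      rw [hN.2]; exact mem_sup_left hy
    have e : W₁.map (MulAut.conj y).toMonoidHom = W₁ :=
      Coprime.map_conj_eq (centralizer_le_normalizer _ hc)
    conv_lhs => rw [← e]
    rw [← Subgroup.map_sup, Coprime.card_map_conj, sup_comm, PF3.card_sup hTP.selfNormalizing]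

end Pair

end Cfsg.Agent.OddOrder.PF14
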