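import Cfsg.Agent.OddOrder.PF14.SideBounds
import Cfsg.Agent.OddOrder.PF14.Setting

/-!
# Peterfalvi section 14: the instances of a side

For `S` of Type II with `P = S_F` and `C = C_U(P)` the two sides `K = P C`, `N₀ = C` and `K = P`,
`N₀ = 1`, both produced by `SideData.side` from an admissible pair `K, N`.  The linear characters of
`P` are moved to `K` by `lift`; `theta` is the preimage of `coveredChars`; its members are conjugates
of fixed characters or, for `N = C`, free.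
-/

set_option autoImplicit false
set_option linter.unusedSectionVars false
set_option linter.style.haveILetI false

namespace Cfsg.Agent.OddOrder.PF14

open Subgroup
open Cfsg.Agent Cfsg.Agent.OddOrder
open scoped IsMulCommutative

universe u

variable {G : Type u} [Group G] [Finite G]

local notation "P[" S "]" => Cfsg.fittingHallOf S
local notation "C[" S ", " U "]" => (U ⊓ Subgroup.centralizer (Cfsg.fittingHallOf S : Set _))

/-- What the side instances need from `S`. -/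
structure SideData (S W₁ U W₂ : Subgroup G) : Prop where
  odd : Odd (Nat.card G)
  facts : SideFacts S W₁ U W₂ (Nat.card W₂) (Nat.card W₁)
  U_comm : IsMulCommutative U
  not_typeI : ¬ IsTypeI S
  ti : ∀ g : G, g ∉ S → ∀ a ∈ setA0 S, g⁻¹ * a * g ∉ setA0 S

/-- An admissible pair: `N ≤ C_U(P)` normal in `S` and `K = P N`. -/
structure SidePair (S U K N : Subgroup G) : Prop where
  eq_sup : K = P[S] ⊔ N
  le_C : N ≤ C[S, U]
  normal : S ≤ normalizer (N : Set G)

variable {S W₁ U W₂ : Subgroup G}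

/-- The data for a maximal subgroup of type P with abelian `U` (Type II or III). -/
theorem sideData_of_typeP (hG : Cfsg.IsMinSimpleOddOrder G) (F : BG16.SectionFacts G)
    (hfrob : ∀ L : Subgroup G, IsCoatom L → IsTypeI L → ∀ x ∈ Cfsg.fittingHallOf L, x ≠ 1 →
      L ⊓ centralizer ({x} : Set G) ≤ Cfsg.fittingHallOf L)
    (hS : IsCoatom S) (hSP : Cfsg.IsTypePWith S W₁ U W₂) (hUc : IsMulCommutative U)
    (facts : SideFacts S W₁ U W₂ (Nat.card W₂) (Nat.card W₁)) : SideData S W₁ U W₂ := by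
  obtain ⟨hTI, hN⟩ := setA0_ti hG F hfrob hS (kappa_nonempty hG F hS hSP)
  refine ⟨hG.1, facts, hUc, not_typeI hG F hS hSP, ?_⟩
  intro g hg a ha hga
  have := hTI (g⁻¹) (by rw [hN]; exact fun h => hg (by simpa using inv_mem h)) a ha
  exact PF8.one_not_mem_typeA0 S (this (by rwa [inv_inv]) ▸ ha)

/-- The data from the setting of section 14. -/
theorem sideData_of_setting (hG : Cfsg.IsMinSimpleOddOrder G) (F : BG16.SectionFacts G)
    (hfrob : ∀ L : Subgroup G, IsCoatom L → IsTypeI L → ∀ x ∈ Cfsg.fittingHallOf L, x ≠ 1 →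
      L ⊓ centralizer ({x} : Set G) ≤ Cfsg.fittingHallOf L)
    (hS : IsCoatom S) (hSP : Cfsg.IsTypePWith S W₁ U W₂) (hII : Cfsg.IsOfTypeII S)
    (facts : SideFacts S W₁ U W₂ (Nat.card W₂) (Nat.card W₁)) : SideData S W₁ U W₂ := by
  refine sideData_of_typeP hG F hfrob hS hSP ?_ facts
  obtain ⟨W₁', U', W₂', hP', -, -, -, hc, -⟩ := id hII
  obtain ⟨m, -, -, hU', -⟩ := TypeP.conj_data hSP hP'
  refine ⟨⟨fun a b => Subtype.ext ((MulAut.conj m).injective ?_)⟩⟩
  rw [hU'] at hc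
  have := congrArg Subtype.val (hc.is_comm.comm
    (⟨_, mem_map_of_mem (MulAut.conj m).toMonoidHom a.2⟩ : U.map (MulAut.conj m).toMonoidHom)
    ⟨_, mem_map_of_mem (MulAut.conj m).toMonoidHom b.2⟩)
  simp only [coe_mul, ← map_mul] at this
  exact this

/-- The data from the setting, with the facts of `sideFacts`. -/
theorem exists_sideData (hG : Cfsg.IsMinSimpleOddOrder G) (F : BG16.SectionFacts G)
    (hfrob : ∀ L : Subgroup G, IsCoatom L → IsTypeI L → ∀ x ∈ Cfsg.fittingHallOf L, x ≠ 1 →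
      L ⊓ centralizer ({x} : Set G) ≤ Cfsg.fittingHallOf L)
    {T V : Subgroup G} (hS : IsCoatom S) (hT : IsCoatom T) (hSP : Cfsg.IsTypePWith S W₁ U W₂)
    (hTP : Cfsg.IsTypePWith T W₂ V W₁) (hII : Cfsg.IsOfTypeII S) (hp : (Nat.card W₂).Prime) :
    SideData S W₁ U W₂ := by
  obtain ⟨hU, hq, -⟩ := PF13.typeII_facts hSP hII
  obtain ⟨⟨L, hL, hNU⟩, hall⟩ := exists_over_normalizer hG F hfrob hS hT hSP hTP hII
  obtain ⟨-, -, -, hover, -⟩ := hall L hL hNU
  exact sideData_of_setting hG F hfrob hS hSP hII (sideFacts hSP hU hq hp hover)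

/-- Conjugation by an element of `S` on the linear characters of `S_F`. -/
def twP (x : S) : (P[S] →* ℂˣ) →* (P[S] →* ℂˣ) where
  toFun θ :=
    { toFun := fun h => θ ⟨(x : G)⁻¹ * h * x,
        Coprime.conj_mem' (TypeP.le_normalizer_core S x.2) h.2⟩
      map_one' := by rw [← map_one θ]; congr 1; exact Subtype.ext (by simp)
      map_mul' := fun a b => by rw [← map_mul θ]; congr 1; exact Subtype.ext (by simp [mul_assoc]) }
  map_one' := rfl
  map_mul' _ _ := rfl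

theorem twP_apply (x : S) (θ : P[S] →* ℂˣ) (h h' : P[S]) (e : (h' : G) = (x : G)⁻¹ * h * x) :
    twP x θ h = θ h' := congrArg θ (Subtype.ext e.symm)

theorem twP_mul (x y : S) (θ : P[S] →* ℂˣ) : twP (x * y) θ = twP x (twP y θ) :=
  MonoidHom.ext fun h => congrArg θ (Subtype.ext (by simp [mul_assoc]))

theorem twP_one (θ : P[S] →* ℂˣ) : twP (1 : S) θ = θ :=
  MonoidHom.ext fun h => congrArg θ (Subtype.ext (by simp))

theorem twP_inv (x : S) (θ : P[S] →* ℂˣ) : twP x θ⁻¹ = (twP x θ)⁻¹ := rfl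

theorem twP_injective (x : S) {θ θ' : P[S] →* ℂˣ} (h : twP x θ = twP x θ') : θ = θ' := by
  have := congrArg (twP x⁻¹) h
  rwa [← twP_mul, ← twP_mul, inv_mul_cancel, twP_one, twP_one] at this

/-- Elements centralising `S_F` fix its characters. -/
theorem twP_of_centralizer {x : S} (hx : (x : G) ∈ centralizer (P[S] : Set G))
    (θ : P[S] →* ℂˣ) : twP x θ = θ := by
  refine MonoidHom.ext fun h => twP_apply x θ h h ?_
  rw [mul_assoc, mem_centralizer_iff.1 hx h h.2, inv_mul_cancel_left]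

/-- Fixed by `W₁`. -/
def FixW (W₁ : Subgroup G) (θ : P[S] →* ℂˣ) : Prop := ∀ w : S, (w : G) ∈ W₁ → twP w θ = θ

namespace SideData

variable (d : SideData S W₁ U W₂)

include d

theorem hP : Cfsg.IsTypePWith S W₁ U W₂ := d.facts.hP

theorem core_le_typeCore : P[S] ≤ Cfsg.typeCore S := by
  unfold Cfsg.typeCore
  split_ifs
  · exact TypeP.core_le_derived d.hP
  · exact le_rfl

theorem core_le_centralizer_core : P[S] ≤ centralizer (P[S] : Set G) := fun x hx =>
  mem_centralizer_iff.2 fun y hy =>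
    congrArg Subtype.val (d.facts.comm_P.is_comm.comm (⟨y, hy⟩ : P[S]) ⟨x, hx⟩)

theorem C_normal : S ≤ normalizer ((C[S, U] : Subgroup G) : Set G) :=
  d.facts.le_normalizer_C d.U_comm

theorem pair_sup : SidePair S U (P[S] ⊔ C[S, U]) C[S, U] := ⟨rfl, le_rfl, d.C_normal⟩

theorem pair_core : SidePair S U P[S] ⊥ :=
  ⟨(sup_bot_eq _).symm, bot_le, fun _ _ => by rw [normalizer_eq_top]; exact mem_top _⟩

variable {K N : Subgroup G}

theorem K_le_derived (h : SidePair S U K N) : K ≤ ⁅S, S⁆ :=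
  h.eq_sup.trans_le (sup_le (TypeP.core_le_derived d.hP)
    ((h.le_C.trans inf_le_left).trans (TypeP.U_le_derived d.hP)))

theorem core_le_K (h : SidePair S U K N) : P[S] ≤ K := h.eq_sup.symm ▸ le_sup_left

theorem N_le_K (h : SidePair S U K N) : N ≤ K := h.eq_sup.symm ▸ le_sup_right

theorem N_le_normalizer (h : SidePair S U K N) : N ≤ normalizer (P[S] : Set G) :=
  ((h.le_C.trans inf_le_left).trans (TypeP.U_le d.hP)).trans (TypeP.le_normalizer_core S)

theorem core_inf_N (h : SidePair S U K N) : P[S] ⊓ N = ⊥ :=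
  le_bot_iff.1 ((inf_le_inf_left _ ((h.le_C.trans inf_le_left).trans le_sup_left)).trans_eq
    (TypeP.core_inf_compl d.hP))

theorem K_decomp (h : SidePair S U K N) {k : G} (hk : k ∈ K) :
    ∃ a ∈ P[S], ∃ c ∈ N, k = a * c := by
  rw [h.eq_sup] at hk
  obtain ⟨a, ha, c, hc, e⟩ := (Coprime.mem_sup_iff (d.N_le_normalizer h)).1 hk
  exact ⟨a, ha, c, hc, e.symm⟩

theorem K_le_centralizer (h : SidePair S U K N) : K ≤ centralizer (P[S] : Set G) :=
  h.eq_sup.trans_le (sup_le d.core_le_centralizer_core (h.le_C.trans inf_le_right))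

theorem K_le_S (h : SidePair S U K N) : K ≤ S := (d.K_le_derived h).trans (TypeP.derived_le S)

theorem K_normal (h : SidePair S U K N) {s k : G} (hs : s ∈ S) (hk : k ∈ K) :
    s * k * s⁻¹ ∈ K := by
  obtain ⟨a, ha, c, hc, rfl⟩ := d.K_decomp h hk
  have e : s * (a * c) * s⁻¹ = (s * a * s⁻¹) * (s * c * s⁻¹) := by group
  rw [e]
  exact mul_mem (d.core_le_K h (Coprime.conj_mem (TypeP.le_normalizer_core S hs) ha))
    (d.N_le_K h (Coprime.conj_mem (h.normal hs) hc))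

/-- The side of an admissible pair. -/
@[reducible] def side (h : SidePair S U K N) : Side G where
  S := S
  W₁ := W₁
  W₂ := W₂
  K := K
  N₀ := N
  A := setA0 S
  hW := d.hP.selfNormalizing
  hq := d.facts.q_prime
  hp := d.facts.p_prime
  coprime := ((TypeP.coprime_core_W₁ d.hP).coprime_dvd_left
    (Subgroup.card_dvd_of_le (TypeP.W₂_le_core d.hP))).symm
  odd := d.odd
  K_le := d.K_le_S h
  K_normal := fun _ hs _ hk => d.K_normal h hs hk
  W₁_le := TypeP.W₁_le d.hP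
  W₂_le := (TypeP.W₂_le_core d.hP).trans (d.core_le_K h)
  inf_eq := le_bot_iff.1 ((inf_le_inf_right _ (d.K_le_derived h)).trans_eq d.hP.W₁_compl.2.2.1)
  fix_eq := fun x hx hx1 k hk e =>
    (TypeP.derived_inf_centralizer d.hP hx hx1).le
      ⟨d.K_le_derived h hk, mem_centralizer_singleton_iff.2 e⟩
  one_notMem := PF8.one_not_mem_typeA0 S
  ti := d.ti
  conj_mem := fun _ hs _ ha => PF8.conj_mem_typeA0 hs ha
  V_mem := fun w hw h1 h2 =>
    Or.inr ⟨d.not_typeI, W₁, U, W₂, d.hP, 1, one_mem _, w, hw, h1, h2, by simp⟩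
  A_mem := fun k hk hn => by
    obtain ⟨a, ha, c, hc, rfl⟩ := d.K_decomp h hk
    refine Or.inl ?_
    rw [setA, if_neg d.not_typeI]
    refine ⟨d.K_le_derived h hk, fun e => hn ?_, a, d.core_le_typeCore ha, fun e => hn ?_, ?_⟩
    · rw [e]; exact one_mem _
    · rw [e, one_mul]; exact hc
    · exact (mem_centralizer_iff.1 (d.K_le_centralizer h hk) a ha).symm

/-- The side `K = P C`, `N₀ = C`. -/
abbrev sideK : Side G := d.side d.pair_sup

/-- The side `K = P`, `N₀ = 1`. -/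
abbrev sideP : Side G := d.side d.pair_core

theorem coprime_W₂_W₁ : (Nat.card W₂).Coprime (Nat.card W₁) :=
  (TypeP.coprime_core_W₁ d.hP).coprime_dvd_left
    (Subgroup.card_dvd_of_le (TypeP.W₂_le_core d.hP))

theorem exists_compl {x : G} (hx : x ∈ S) : ∃ a ∈ P[S], ∃ k ∈ U ⊔ W₁, x = a * k := by
  obtain ⟨a, ha, k, hk, e⟩ := (Coprime.mem_sup_iff
    ((TypeP.compl_le d.hP).trans (TypeP.le_normalizer_core S))).1 ((TypeP.core_sup_compl d.hP).ge hx)
  exact ⟨a, ha, k, hk, e.symm⟩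

theorem exists_U_W₁ {k : G} (hk : k ∈ U ⊔ W₁) : ∃ u ∈ U, ∃ w ∈ W₁, k = u * w := by
  obtain ⟨u, hu, w, hw, e⟩ := (Coprime.mem_sup_iff d.hP.U_normal).1 hk
  exact ⟨u, hu, w, hw, e.symm⟩

theorem twP_core_mul {a k : G} (ha : a ∈ P[S]) (hk : k ∈ S) (θ : P[S] →* ℂˣ) :
    twP (⟨a * k, mul_mem (TypeP.core_le S ha) hk⟩ : S) θ = twP (⟨k, hk⟩ : S) θ := by
  rw [show (⟨a * k, mul_mem (TypeP.core_le S ha) hk⟩ : S) = ⟨a, TypeP.core_le S ha⟩ * ⟨k, hk⟩
    from rfl, twP_mul]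
  exact twP_of_centralizer (d.core_le_centralizer_core ha) _

/-- A character fixed by a nontrivial element of `W₁` is fixed by `W₁`. -/
theorem fixW_of_fixed {w : S} (hw : (w : G) ∈ W₁) (hw1 : w ≠ 1) {θ : P[S] →* ℂˣ}
    (h : twP w θ = θ) : FixW W₁ θ := by
  intro v hv
  haveI := Fact.mk d.facts.q_prime
  have hmem : (v : G) ∈ zpowers (w : G) := by
    have h1 : zpowers (w : G) = W₁ := line_zpowers d.facts.q_prime rfl hw
      fun e => hw1 (Subtype.ext e)
    rwa [h1]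
  obtain ⟨i, hi⟩ := (isOfFinOrder_of_finite (w : G)).mem_powers_iff_mem_zpowers.2 hmem
  have hv' : v = w ^ i := Subtype.ext hi.symm
  rw [hv']
  clear hi hv' hv hmem
  induction i with
  | zero => rw [pow_zero, twP_one]
  | succ i ih => rw [pow_succ, twP_mul, h, ih]

/-- The stabiliser condition of `coveredChars`. -/
theorem mem_covered {θ : P[S] →* ℂˣ} :
    θ ∈ coveredChars P[S] U ↔ θ ≠ 1 ∧ ∀ (u : S), (u : G) ∈ U → twP u θ = θ →
      (u : G) ∈ centralizer (P[S] : Set G) := by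
  refine and_congr_right fun _ => ⟨fun h u hu e => h u hu fun a b hab => ?_, fun h u hu e => ?_⟩
  · rw [← twP_apply u θ b a (by rw [hab]; group), e]
  · refine h ⟨u, TypeP.U_le d.hP hu⟩ hu (MonoidHom.ext fun b => ?_)
    let a : P[S] := ⟨u⁻¹ * b * u,
      Coprime.conj_mem' (TypeP.le_normalizer_core S (TypeP.U_le d.hP hu)) b.2⟩
    rw [twP_apply ⟨u, TypeP.U_le d.hP hu⟩ θ b a rfl]
    exact (e a b (by simp [a, mul_assoc])).symm

/-- Characters fixed by `W₁` have trivial stabiliser in `U` modulo `C`. -/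
theorem covered_of_fixW {θ : P[S] →* ℂˣ} (hθ : θ ≠ 1) (hfix : FixW W₁ θ) :
    θ ∈ coveredChars P[S] U := by
  refine d.mem_covered.2 ⟨hθ, fun u hu e => ?_⟩
  let U₀ : Subgroup G :=
    { carrier := {v | v ∈ U ∧ ∀ hv : v ∈ S, twP (⟨v, hv⟩ : S) θ = θ}
      one_mem' := ⟨one_mem _, fun _ => twP_one θ⟩
      mul_mem' := fun {a b} ha hb => ⟨mul_mem ha.1 hb.1, fun _ => by
        have := twP_mul (⟨a, TypeP.U_le d.hP ha.1⟩ : S) ⟨b, TypeP.U_le d.hP hb.1⟩ θ
        rw [hb.2, ha.2] at this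
        exact this⟩
      inv_mem' := fun {a} ha => ⟨inv_mem ha.1, fun _ => by
        have := twP_mul (⟨a, TypeP.U_le d.hP ha.1⟩ : S)⁻¹ ⟨a, TypeP.U_le d.hP ha.1⟩ θ
        rw [ha.2, inv_mul_cancel, twP_one] at this
        exact this.symm⟩ }
  have hU₀ : U₀ ≤ U := fun v hv => hv.1
  have hW : W₁ ≤ normalizer (U₀ : Set G) := Subgroup.le_normalizer_iff.2 fun w hw v hv =>
    ⟨Coprime.conj_mem (d.hP.U_normal hw) hv.1, fun hm => by
      have e1 : (⟨w * v * w⁻¹, hm⟩ : S) = (⟨w, TypeP.W₁_le d.hP hw⟩ : S) *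
          ⟨v, TypeP.U_le d.hP hv.1⟩ * (⟨w, TypeP.W₁_le d.hP hw⟩ : S)⁻¹ := rfl
      rw [e1, twP_mul, twP_mul, hfix (⟨w, TypeP.W₁_le d.hP hw⟩ : S)⁻¹ (inv_mem hw), hv.2,
        hfix ⟨w, TypeP.W₁_le d.hP hw⟩ hw]⟩
  set V := P[S] ⊓ centralizer (U₀ : Set G) with hV
  have hWV : W₁ ≤ normalizer (V : Set G) := by
    intro w hw
    refine Coprime.mem_normalizer_of_map_conj ?_
    rw [hV, Subgroup.map_inf _ _ _ (MulAut.conj w).injective, TypeP.centralizer_map_conj,
      Coprime.map_conj_eq (TypeP.le_normalizer_core S (TypeP.W₁_le d.hP hw)),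
      Coprime.map_conj_eq (hW hw)]
  have key : ∀ A K' : Subgroup G, (hK' : K' ≤ P[S]) → A ≤ normalizer (K' : Set G) →
      (∀ a ∈ A, ∀ h : a ∈ S, twP (⟨a, h⟩ : S) θ = θ) → A ≤ S →
      ∀ z, (hz : z ∈ (⁅K', A⁆ : Subgroup G)) → ∀ hzP : z ∈ P[S], θ ⟨z, hzP⟩ = 1 := by
    intro A K' hK' hA hAfix hAS z hz
    have hle : (⁅K', A⁆ : Subgroup G) ≤ (θ.ker.map (P[S]).subtype) := by
      refine commutator_le.2 fun k hk a ha => ?_
      have hm : a * k⁻¹ * a⁻¹ ∈ P[S] :=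
        Coprime.conj_mem (TypeP.le_normalizer_core S (hAS ha)) (inv_mem (hK' hk))
      refine ⟨⟨k, hK' hk⟩ * ⟨a * k⁻¹ * a⁻¹, hm⟩, ?_, ?_⟩
      · rw [SetLike.mem_coe, MonoidHom.mem_ker, map_mul]
        have := twP_apply (⟨a, hAS ha⟩ : S) θ ⟨a * k⁻¹ * a⁻¹, hm⟩ (⟨k, hK' hk⟩⁻¹)
          (by simp [mul_assoc])
        rw [hAfix a ha] at this
        rw [this, map_inv, mul_inv_cancel]
      · simp [commutatorElement_def, mul_assoc]
    intro hzP
    obtain ⟨z', hz', rfl⟩ := hle hz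
    exact hz'
  have hsolP := TypeP.core_solvable S
  have hsplit : ∀ A K' : Subgroup G, K' ≤ P[S] → A ≤ normalizer (K' : Set G) →
      (Nat.card A).Coprime (Nat.card K') → K' = ⁅K', A⁆ ⊔ (K' ⊓ centralizer (A : Set G)) :=
    fun A K' hK' hA hc => (Coprime.commutator_sup_centralizer hA hc
      (Or.inr (Coprime.isSolvable_of_le hK' hsolP))).symm
  have hUP : U₀ ≤ normalizer (P[S] : Set G) :=
    (hU₀.trans (TypeP.U_le d.hP)).trans (TypeP.le_normalizer_core S)
  have h1 := hsplit U₀ P[S] le_rfl hUP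
    ((TypeP.coprime_core_U d.hP).symm.coprime_dvd_left (Subgroup.card_dvd_of_le hU₀))
  have h2 := hsplit W₁ V inf_le_left hWV
    ((TypeP.coprime_core_W₁ d.hP).symm.coprime_dvd_right (Subgroup.card_dvd_of_le inf_le_left))
  have hW₂V : W₂ ≤ V := by
    by_contra hn
    refine hθ (MonoidHom.ext fun z => ?_)
    have hbot : V ⊓ centralizer (W₁ : Set G) = ⊥ := by
      have hle : V ⊓ centralizer (W₁ : Set G) ≤ W₂ :=
        (inf_le_inf_right _ inf_le_left).trans_eq (TypeP.core_inf_centralizer_W₁ d.hP)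
      rcases (Nat.dvd_prime d.facts.p_prime).1 (Subgroup.card_dvd_of_le hle) with h | h
      · exact Subgroup.card_eq_one.1 h
      · exact absurd ((Subgroup.eq_of_le_of_card_ge hle h.ge).ge.trans inf_le_left) hn
    rw [hbot, sup_bot_eq] at h2
    have hle : P[S] ≤ θ.ker.map (P[S]).subtype := by
      refine h1.trans_le (sup_le (fun x hx => ?_) ?_)
      · exact ⟨⟨x, (Coprime.commutator_le_left_of_normalizer hUP) hx⟩,
          key U₀ P[S] le_rfl hUP (fun a ha => ha.2) (hU₀.trans (TypeP.U_le d.hP)) x hx _, rfl⟩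
      · rw [← hV]
        intro x hx
        refine ⟨⟨x, hx.1⟩, key W₁ V inf_le_left hWV
          (fun a ha h => hfix ⟨a, h⟩ ha) (TypeP.W₁_le d.hP) x (h2 ▸ hx) _, rfl⟩
    obtain ⟨z', hz', e'⟩ := hle z.2
    rw [← (Subtype.ext e' : z' = z)]
    exact hz'
  refine d.facts.fix_W₂ u hu (mem_centralizer_iff.2 fun w hw => ?_)
  exact (mem_centralizer_iff.1 (hW₂V hw).2 u ⟨hu, fun _ => e⟩).symm

/-- Conjugate fixed characters differ by an element of `P C W₁`. -/
theorem mem_of_fixW {θ θ' : P[S] →* ℂˣ} (hθ : θ ≠ 1) (hf : FixW W₁ θ) (hf' : FixW W₁ θ') {x : S}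
    (e : twP x θ = θ') : (x : G) ∈ P[S] ⊔ C[S, U] ⊔ W₁ := by
  obtain ⟨a, ha, k, hk, hx⟩ := d.exists_compl x.2
  obtain ⟨u, hu, w, hw, rfl⟩ := d.exists_U_W₁ hk
  have huS := TypeP.U_le d.hP hu
  have hwS := TypeP.W₁_le d.hP hw
  have e1 : twP (⟨u, huS⟩ : S) θ = θ' := by
    rw [← e, show x = (⟨a * (u * w), mul_mem (TypeP.core_le S ha) (mul_mem huS hwS)⟩ : S) from
      Subtype.ext hx, d.twP_core_mul ha (mul_mem huS hwS), show (⟨u * w, mul_mem huS hwS⟩ : S) = ⟨u, huS⟩ * ⟨w, hwS⟩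
      from rfl, twP_mul, hf ⟨w, hwS⟩ hw]
  have huC : u ∈ C[S, U] := by
    obtain ⟨c, hc, hcn⟩ := Coprime.exists_centralizer_mem_coset (A := W₁) (K := U)
      d.hP.U_normal (TypeP.coprime_U_W₁ d.hP).symm (Or.inr (TypeP.U_solvable d.hP))
      (N := C[S, U]) inf_le_left ((TypeP.W₁_le d.hP).trans d.C_normal) hu (fun v hv => by
        have hvS := TypeP.W₁_le d.hP hv
        have hm : u⁻¹ * (v * u * v⁻¹) ∈ U :=
          mul_mem (inv_mem hu) (Coprime.conj_mem (d.hP.U_normal hv) hu)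
        have hc := (d.mem_covered.1 (d.covered_of_fixW hθ hf)).2
          ((⟨u, huS⟩ : S)⁻¹ * (⟨v, hvS⟩ * ⟨u, huS⟩ * (⟨v, hvS⟩ : S)⁻¹)) hm (by
            rw [twP_mul, twP_mul, twP_mul, hf (⟨v, hvS⟩ : S)⁻¹ (inv_mem hv), e1,
              hf' ⟨v, hvS⟩ hv, ← e1, ← twP_mul, inv_mul_cancel, twP_one])
        exact Subgroup.mem_inf.2 ⟨hm, hc⟩)
    obtain ⟨hcU, hcW⟩ := Subgroup.mem_inf.1 hc
    obtain ⟨⟨v, hv⟩, hv1⟩ := Subgroup.ne_bot_iff_exists_ne_one.1 d.hP.W₁_ne
    have hc1 : c = 1 := TypeP.fpf_U d.hP hv (fun h => hv1 (Subtype.ext h)) hcU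
      (mem_centralizer_iff.1 hcW v hv)
    rw [hc1, mul_one] at hcn
    simpa using inv_mem hcn
  rw [hx, ← mul_assoc]
  exact mul_mem_sup (mul_mem_sup ha huC) hw

/-- A covered character is conjugate to a fixed one or has stabiliser in `P C`. -/
theorem covered_cases {θ : P[S] →* ℂˣ} (hθ : θ ∈ coveredChars P[S] U) :
    (∃ x : S, FixW W₁ (twP x θ)) ∨
      ∀ x : S, twP x θ = θ → (x : G) ∈ P[S] ⊔ C[S, U] := by
  refine or_iff_not_imp_right.2 fun hn => ?_
  push Not at hn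
  obtain ⟨x, hxθ, hxK⟩ := hn
  obtain ⟨a, ha, k, hk, hx⟩ := d.exists_compl x.2
  have hkS := TypeP.compl_le d.hP hk
  have hkθ : twP (⟨k, hkS⟩ : S) θ = θ := by
    rw [← d.twP_core_mul ha hkS]
    exact (congrArg (fun y => twP y θ) (Subtype.ext hx.symm)).trans hxθ
  have hkU : k ∉ U := fun hkU => hxK (hx ▸ mul_mem_sup ha
    (Subgroup.mem_inf.2 ⟨hkU, (d.mem_covered.1 hθ).2 ⟨k, hkS⟩ hkU hkθ⟩))
  set n := Nat.card U
  set y := k ^ n with hy
  have hcard := TypeP.card_compl d.hP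
  have hkord : k ^ (n * Nat.card W₁) = 1 := by
    rw [← hcard]
    exact congrArg Subtype.val (pow_card_eq_one' (x := (⟨k, hk⟩ : ↥(U ⊔ W₁))))
  have hyU : y ∉ U := by
    intro hyU
    obtain ⟨u, hu, w, hw, hkuw⟩ := d.exists_U_W₁ hk
    have key : ∀ i : ℕ, k ^ i * (w ^ i)⁻¹ ∈ U := by
      intro i
      induction i with
      | zero => simp
      | succ i ih =>
        have e1 : k ^ (i + 1) * (w ^ (i + 1))⁻¹ = (k ^ i * (w ^ i)⁻¹) * (w ^ i * u * (w ^ i)⁻¹) := by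
          rw [pow_succ, pow_succ, hkuw]; group
        rw [e1]
        exact mul_mem ih (Coprime.conj_mem (d.hP.U_normal (pow_mem hw i)) hu)
    have h1 : w ^ n ∈ U ⊓ W₁ := by
      refine Subgroup.mem_inf.2 ⟨?_, pow_mem hw n⟩
      have := mul_mem (inv_mem (key n)) hyU
      simpa [y] using this
    rw [TypeP.inf_U_W₁ d.hP, mem_bot] at h1
    have hw1 : w = 1 := orderOf_eq_one_iff.1 (Nat.eq_one_of_dvd_coprimes
      (TypeP.coprime_U_W₁ d.hP) (orderOf_dvd_of_pow_eq_one h1) (W₁.orderOf_dvd_natCard hw))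
    exact hkU (by rw [hkuw, hw1, mul_one]; exact hu)
  have hy1 : y ≠ 1 := fun h => hyU (h ▸ one_mem _)
  have hyord : orderOf y = Nat.card W₁ := by
    haveI := Fact.mk d.facts.q_prime
    exact orderOf_eq_prime (by rw [hy, ← pow_mul]; exact hkord) hy1
  obtain ⟨u, hu, he⟩ := Coprime.exists_conj_of_le_sup (N := U) (H₁ := W₁) (H₂ := zpowers y)
    d.hP.U_normal (zpowers_le.2 (pow_mem hk n)) (by rw [Nat.card_zpowers, hyord])
    (TypeP.coprime_U_W₁ d.hP).symm (Or.inr (TypeP.U_solvable d.hP))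
  obtain ⟨w, hw, hwy⟩ := he.le (mem_zpowers y)
  change u * w * u⁻¹ = y at hwy
  have hw1 : w ≠ 1 := fun h => hy1 (by rw [← hwy, h]; group)
  have huS := TypeP.U_le d.hP hu
  have hwS := TypeP.W₁_le d.hP hw
  refine ⟨(⟨u, huS⟩ : S)⁻¹, d.fixW_of_fixed (w := ⟨w, hwS⟩) hw
    (fun h => hw1 (congrArg Subtype.val h)) ?_⟩
  have hyθ : twP (⟨y, pow_mem hkS n⟩ : S) θ = θ := by
    have hpow : ∀ i : ℕ, twP ((⟨k, hkS⟩ : S) ^ i) θ = θ := by
      intro i
      induction i with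
      | zero => rw [pow_zero, twP_one]
      | succ i ih => rw [pow_succ, twP_mul, hkθ, ih]
    exact hpow n
  have e1 : (⟨w, hwS⟩ : S) * (⟨u, huS⟩ : S)⁻¹ = (⟨u, huS⟩ : S)⁻¹ * ⟨y, pow_mem hkS n⟩ :=
    Subtype.ext (by show w * u⁻¹ = u⁻¹ * y; rw [← hwy]; group)
  rw [← twP_mul, e1, twP_mul, hyθ]

theorem twP_covered (x : S) {θ : P[S] →* ℂˣ} (hθ : θ ∈ coveredChars P[S] U) :
    twP x θ ∈ coveredChars P[S] U := by
  rw [d.mem_covered] at hθ ⊢
  refine ⟨fun e => hθ.1 (twP_injective x (e.trans (map_one _).symm)), fun u hu e => ?_⟩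
  obtain ⟨a, ha, k, hk, hx⟩ := d.exists_compl x.2
  have hkS := TypeP.compl_le d.hP hk
  have hkU : k ∈ normalizer (U : Set G) :=
    (sup_le le_normalizer d.hP.U_normal : U ⊔ W₁ ≤ normalizer (U : Set G)) hk
  have hxk : twP x θ = twP (⟨k, hkS⟩ : S) θ := by
    rw [← d.twP_core_mul ha hkS]
    exact congrArg (fun y => twP y θ) (Subtype.ext hx)
  rw [hxk] at e
  have h1 := hθ.2 ((⟨k, hkS⟩ : S)⁻¹ * u * ⟨k, hkS⟩) (Coprime.conj_mem' hkU hu) (by
    rw [twP_mul, twP_mul, e, ← twP_mul, inv_mul_cancel, twP_one])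
  change k⁻¹ * (u : G) * k ∈ centralizer (P[S] : Set G) at h1
  refine mem_centralizer_iff.2 fun z hz => ?_
  have h2 := mem_centralizer_iff.1 h1 (k⁻¹ * z * k)
    (Coprime.conj_mem' (TypeP.le_normalizer_core S hkS) hz)
  calc z * (u : G) = k * ((k⁻¹ * z * k) * (k⁻¹ * u * k)) * k⁻¹ := by group
    _ = u * z := by rw [h2]; group

theorem inv_covered {θ : P[S] →* ℂˣ} (hθ : θ ∈ coveredChars P[S] U) :
    θ⁻¹ ∈ coveredChars P[S] U := by
  haveI := d.facts.comm_P
  rw [d.mem_covered] at hθ ⊢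
  exact ⟨fun e => hθ.1 (MonoidHom.ext fun z => inv_eq_one.1 (DFunLike.congr_fun e z)),
    fun u hu e => hθ.2 u hu (MonoidHom.ext fun z => inv_injective (DFunLike.congr_fun e z))⟩

theorem exists_fixW : ∃ θ : P[S] →* ℂˣ, θ ≠ 1 ∧ FixW W₁ θ := by
  classical
  haveI := d.facts.comm_P
  haveI := Fintype.ofFinite W₁
  obtain ⟨⟨a, ha⟩, ha1⟩ := Subgroup.ne_bot_iff_exists_ne_one.1
    (show W₂ ≠ ⊥ from d.hP.selfNormalizing.2.1)
  let a' : P[S] := ⟨a, TypeP.W₂_le_core d.hP ha⟩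
  haveI : NeZero (Monoid.exponent P[S] : ℂ) :=
    ⟨Nat.cast_ne_zero.2 Monoid.exponent_ne_zero_of_finite⟩
  obtain ⟨θ₀, hθ₀⟩ := CommGroup.exists_apply_ne_one_of_hasEnoughRootsOfUnity P[S] ℂ (a := a')
    fun e => ha1 (Subtype.ext (congrArg Subtype.val e :))
  let f : W₁ → (P[S] →* ℂˣ) := fun w => twP (⟨w, TypeP.W₁_le d.hP w.2⟩ : S) θ₀
  refine ⟨∏ w : W₁, f w, fun e => ?_, fun v hv => ?_⟩
  · have hfa : ∀ w : W₁, f w a' = θ₀ a' := fun w => twP_apply _ θ₀ a' a' (by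
      show a = (w : G)⁻¹ * a * w
      rw [mul_assoc, ← TypeP.W₂_commute d.hP w.2 ha, inv_mul_cancel_left])
    have h1 := DFunLike.congr_fun e a'
    rw [MonoidHom.finsetProd_apply, Finset.prod_congr rfl fun w _ => hfa w, Finset.prod_const,
      Finset.card_univ, ← Nat.card_eq_fintype_card, MonoidHom.one_apply] at h1
    refine hθ₀ (orderOf_eq_one_iff.1 (Nat.eq_one_of_dvd_coprimes d.coprime_W₂_W₁ ?_
      (orderOf_dvd_of_pow_eq_one h1)))
    refine (orderOf_map_dvd θ₀ a').trans ?_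
    rw [← Subgroup.orderOf_coe]
    exact W₂.orderOf_dvd_natCard ha
  · rw [map_prod]
    refine Fintype.prod_equiv (Equiv.mulLeft (⟨v, hv⟩ : W₁)) _ _ fun w => ?_
    show twP v (f w) = f (⟨v, hv⟩ * w)
    rw [← twP_mul]
    rfl

variable (h : SidePair S U K N)

/-- Restriction to `S_F`. -/
def res (θ : (d.side h).K →* ℂˣ) : P[S] →* ℂˣ := θ.comp (inclusion (d.core_le_K h))

theorem res_tw (x : S) (θ : (d.side h).K →* ℂˣ) :
    d.res h ((d.side h).tw x θ) = twP x (d.res h θ) := rfl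

/-- The component in `S_F` of an element of `K`. -/
noncomputable def proj : (d.side h).K →* P[S] where
  toFun k := ⟨(d.K_decomp h k.2).choose, (d.K_decomp h k.2).choose_spec.1⟩
  map_one' := by
    obtain ⟨a, ⟨hm, c, hc, e⟩, ha⟩ :=
      (⟨_, (d.K_decomp h (one_mem (d.side h).K)).choose_spec, rfl⟩ :
        ∃ a, (a ∈ P[S] ∧ ∃ c ∈ N, (1 : G) = a * c) ∧
        (d.K_decomp h (one_mem (d.side h).K)).choose = a)
    refine Subtype.ext (ha.trans (mem_bot.1 ((d.core_inf_N h).le (Subgroup.mem_inf.2 ⟨hm, ?_⟩))))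
    rw [eq_inv_of_mul_eq_one_left e.symm]
    exact inv_mem hc
  map_mul' k l := by
    obtain ⟨a₁, ⟨hm₁, c₁, hc₁, e₁⟩, ha₁⟩ :=
      (⟨_, (d.K_decomp h k.2).choose_spec, rfl⟩ : ∃ a, (a ∈ P[S] ∧ ∃ c ∈ N, (k : G) = a * c) ∧
        (d.K_decomp h k.2).choose = a)
    obtain ⟨a₂, ⟨hm₂, c₂, hc₂, e₂⟩, ha₂⟩ :=
      (⟨_, (d.K_decomp h l.2).choose_spec, rfl⟩ : ∃ a, (a ∈ P[S] ∧ ∃ c ∈ N, (l : G) = a * c) ∧
        (d.K_decomp h l.2).choose = a)
    obtain ⟨a, ⟨hm, c, hc, e⟩, ha⟩ :=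
      (⟨_, (d.K_decomp h (k * l).2).choose_spec, rfl⟩ :
        ∃ a, (a ∈ P[S] ∧ ∃ c ∈ N, ((k * l : (d.side h).K) : G) = a * c) ∧
        (d.K_decomp h (k * l).2).choose = a)
    refine Subtype.ext ?_
    show (d.K_decomp h (k * l).2).choose
      = (d.K_decomp h k.2).choose * (d.K_decomp h l.2).choose
    rw [ha, ha₁, ha₂]
    have hcom : c₁ * a₂ = a₂ * c₁ := (mem_centralizer_iff.1 (h.le_C hc₁).2 a₂ hm₂).symm
    have h2 : a * c = (a₁ * a₂) * (c₁ * c₂) := by
      rw [← e, Subgroup.coe_mul, e₁, e₂]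
      calc a₁ * c₁ * (a₂ * c₂) = a₁ * (c₁ * a₂) * c₂ := by group
        _ = _ := by rw [hcom]; group
    have h3 : (a₁ * a₂)⁻¹ * a = (c₁ * c₂) * c⁻¹ := by
      rw [eq_mul_inv_iff_mul_eq, mul_assoc, h2, inv_mul_cancel_left]
    have h4 : (a₁ * a₂)⁻¹ * a ∈ P[S] ⊓ N := Subgroup.mem_inf.2
      ⟨mul_mem (inv_mem (mul_mem hm₁ hm₂)) hm, h3 ▸ mul_mem (mul_mem hc₁ hc₂) (inv_mem hc)⟩
    rw [d.core_inf_N h, mem_bot, inv_mul_eq_one] at h4
    exact h4.symm

theorem proj_spec (k : (d.side h).K) :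
    ∃ c ∈ N, (k : G) = ((d.proj h k : P[S]) : G) * c :=
  (d.K_decomp h k.2).choose_spec.2

/-- A character of `S_F` read on `K`, trivially on `N`. -/
noncomputable def lift (η : P[S] →* ℂˣ) : (d.side h).K →* ℂˣ := η.comp (d.proj h)

theorem proj_inclusion (a : P[S]) : d.proj h (inclusion (d.core_le_K h) a) = a := by
  obtain ⟨c, hc, e⟩ := d.proj_spec h (inclusion (d.core_le_K h) a)
  set b : P[S] := d.proj h (inclusion (d.core_le_K h) a)
  have e' : (a : G) = (b : G) * c := e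
  have h1 : c ∈ P[S] ⊓ N := Subgroup.mem_inf.2 ⟨by
    have := mul_mem (inv_mem b.2) a.2
    rwa [e', inv_mul_cancel_left] at this, hc⟩
  rw [d.core_inf_N h, mem_bot] at h1
  rw [h1, mul_one] at e'
  exact Subtype.ext e'.symm

theorem res_lift (η : P[S] →* ℂˣ) : d.res h (d.lift h η) = η :=
  MonoidHom.ext fun a => congrArg η (d.proj_inclusion h a)

theorem lift_triv (η : P[S] →* ℂˣ) : (d.side h).Triv (d.lift h η) := by
  intro k hk
  obtain ⟨c, hc, e⟩ := d.proj_spec h k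
  have h1 : ((d.proj h k : P[S]) : G) ∈ P[S] ⊓ N := Subgroup.mem_inf.2 ⟨(d.proj h k).2, by
    rw [show ((d.proj h k : P[S]) : G) = k * c⁻¹ by rw [e, mul_inv_cancel_right]]
    exact mul_mem hk (inv_mem hc)⟩
  rw [d.core_inf_N h, mem_bot] at h1
  show η _ = 1
  rw [show d.proj h k = 1 from Subtype.ext h1, map_one]

theorem lift_res {θ : (d.side h).K →* ℂˣ} (ht : (d.side h).Triv θ) :
    d.lift h (d.res h θ) = θ := by
  refine MonoidHom.ext fun k => ?_
  obtain ⟨c, hc, e⟩ := d.proj_spec h k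
  have hk : k = inclusion (d.core_le_K h) (d.proj h k) * ⟨c, d.N_le_K h hc⟩ := Subtype.ext e
  conv_rhs => rw [hk, map_mul, ht ⟨c, d.N_le_K h hc⟩ hc, mul_one]
  rfl

theorem triv_tw (x : S) {θ : (d.side h).K →* ℂˣ} (ht : (d.side h).Triv θ) :
    (d.side h).Triv ((d.side h).tw x θ) := fun _ hk => ht _ (Coprime.conj_mem' (h.normal x.2) hk)

theorem res_inj {θ θ' : (d.side h).K →* ℂˣ} (ht : (d.side h).Triv θ) (ht' : (d.side h).Triv θ')
    (e : d.res h θ = d.res h θ') : θ = θ' := by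
  rw [← d.lift_res h ht, ← d.lift_res h ht', e]

theorem tw_lift (x : S) (η : P[S] →* ℂˣ) :
    (d.side h).tw x (d.lift h η) = d.lift h (twP x η) :=
  d.res_inj h (d.triv_tw h x (d.lift_triv h η)) (d.lift_triv h _)
    (by rw [d.res_tw, d.res_lift, d.res_lift])

theorem res_ne_one {θ : (d.side h).K →* ℂˣ} (ht : (d.side h).Triv θ) (hne : θ ≠ 1) :
    d.res h θ ≠ 1 := fun e => hne (d.res_inj h ht (fun _ _ => rfl) (e.trans rfl))

theorem good_lift {η : P[S] →* ℂˣ} (hne : η ≠ 1) (hfix : FixW W₁ η) :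
    (d.side h).Good (d.lift h η) where
  triv := d.lift_triv h η
  fix w hw := by rw [d.tw_lift, hfix w hw]
  ne_one e := hne (by rw [← d.res_lift h η, e]; rfl)

theorem fixW_res {θ : (d.side h).K →* ℂˣ} (hg : (d.side h).Good θ) : FixW W₁ (d.res h θ) :=
  fun w hw => by rw [← d.res_tw, hg.fix w hw]

theorem exists_good : ∃ θ, (d.side h).Good θ := by
  obtain ⟨η, hne, hfix⟩ := d.exists_fixW
  exact ⟨_, d.good_lift h hne hfix⟩

/-- `K = P C` gives a regular side. -/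
theorem regular (hC : C[S, U] ≤ N) : (d.side h).Regular where
  exists_good := d.exists_good h
  stab θ θ' hg hg' x e := by
    have h1 := d.mem_of_fixW (d.res_ne_one h hg.triv hg.ne_one) (d.fixW_res h hg) (d.fixW_res h hg')
      (x := x) (by rw [← d.res_tw, e])
    refine (sup_le (sup_le ?_ ?_) le_sup_right : P[S] ⊔ C[S, U] ⊔ W₁ ≤ (d.side h).H) h1
    · exact (d.core_le_K h).trans le_sup_left
    · exact (hC.trans (d.N_le_K h)).trans le_sup_left

theorem regular_sideK : d.sideK.Regular := d.regular d.pair_sup le_rfl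

theorem regular_sideP (hC : C[S, U] = ⊥) : d.sideP.Regular := d.regular d.pair_core hC.le

theorem finite_covered : (coveredChars P[S] U).Finite := by
  haveI := d.facts.comm_P
  haveI : Finite (P[S] →* ℂˣ) :=
    Nat.finite_of_card_ne_zero (by rw [card_hom_units]; exact Nat.card_pos.ne')
  exact Set.toFinite _

open scoped Classical in
/-- The covered characters on `K`. -/
noncomputable def theta : Finset ((d.side h).K →* ℂˣ) :=
  d.finite_covered.toFinset.image (d.lift h)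

theorem mem_theta {θ : (d.side h).K →* ℂˣ} :
    θ ∈ d.theta h ↔ (d.side h).Triv θ ∧ d.res h θ ∈ coveredChars P[S] U := by
  classical
  rw [theta, Finset.mem_image]
  constructor
  · rintro ⟨η, hη, rfl⟩
    exact ⟨d.lift_triv h η, by rw [d.res_lift]; exact d.finite_covered.mem_toFinset.1 hη⟩
  · exact fun ⟨ht, hr⟩ => ⟨_, d.finite_covered.mem_toFinset.2 hr, d.lift_res h ht⟩

theorem card_theta : (d.theta h).card = Nat.card (coveredChars P[S] U) := by
  classical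
  rw [theta, Finset.card_image_of_injective _ fun a b e => by
    rw [← d.res_lift h a, e, d.res_lift], Nat.card_coe_set_eq, Set.ncard_eq_toFinset_card _
    d.finite_covered]

theorem stable_theta : (d.side h).Stable (d.theta h) where
  triv θ hθ := ((d.mem_theta h).1 hθ).1
  ne_one θ hθ e := ((d.mem_theta h).1 hθ).2.1 (by rw [e]; rfl)
  tw_mem x θ hθ := by
    obtain ⟨ht, hr⟩ := (d.mem_theta h).1 hθ
    exact (d.mem_theta h).2 ⟨d.triv_tw h x ht, d.res_tw h x θ ▸ d.twP_covered x hr⟩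

theorem inv_mem_theta {θ : (d.side h).K →* ℂˣ} (hθ : θ ∈ d.theta h) : θ⁻¹ ∈ d.theta h := by
  obtain ⟨ht, hr⟩ := (d.mem_theta h).1 hθ
  exact (d.mem_theta h).2 ⟨fun k hk => by simp [ht k hk], d.inv_covered hr⟩

theorem good_mem_theta {θ : (d.side h).K →* ℂˣ} (hg : (d.side h).Good θ) : θ ∈ d.theta h :=
  (d.mem_theta h).2 ⟨hg.triv, d.covered_of_fixW (d.res_ne_one h hg.triv hg.ne_one) (d.fixW_res h hg)⟩

/-- Every member of `theta` is conjugate to a fixed character, or free. -/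
theorem theta_cases (hC : C[S, U] ≤ N) {θ : (d.side h).K →* ℂˣ} (hθ : θ ∈ d.theta h) :
    (∃ x : S, (d.side h).Good ((d.side h).tw x θ)) ∨ (d.side h).Free θ := by
  obtain ⟨ht, hr⟩ := (d.mem_theta h).1 hθ
  rcases d.covered_cases hr with ⟨x, hx⟩ | hfree
  · refine Or.inl ⟨x, ?_⟩
    have := d.good_lift h (d.twP_covered x hr).1 hx
    rwa [← d.res_tw, d.lift_res h (d.triv_tw h x ht)] at this
  · refine Or.inr ⟨ht, (d.stable_theta h).ne_one θ hθ, fun x e => ?_⟩
    refine (sup_le (d.core_le_K h) (hC.trans (d.N_le_K h)) : P[S] ⊔ C[S, U] ≤ K) (hfree x ?_)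
    rw [← d.res_tw, e]

/-- Two fixed characters in different orbits. -/
theorem exists_two_good (hC : C[S, U] ≤ N) :
    ∃ θ θ', (d.side h).Good θ ∧ (d.side h).Good θ' ∧ θ ≠ θ' ∧ (d.side h).NConj θ θ' := by
  obtain ⟨θ, hg⟩ := d.exists_good h
  have hg' : (d.side h).Good θ⁻¹ :=
    ⟨fun k hk => by simp [hg.triv k hk], fun w hw => by rw [(d.side h).tw_inv, hg.fix w hw],
      fun e => hg.ne_one (MonoidHom.ext fun z => inv_eq_one.1 (DFunLike.congr_fun e z))⟩
  have hne : θ ≠ θ⁻¹ := by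
    intro e
    refine hg.ne_one (MonoidHom.ext fun k => ?_)
    have h1 : θ k * θ k = 1 := by
      nth_rw 1 [DFunLike.congr_fun e k]
      rw [MonoidHom.inv_apply, inv_mul_cancel]
    have d1 : orderOf (θ k) ∣ 2 := orderOf_dvd_of_pow_eq_one (by rw [pow_two]; exact h1)
    have d2 : orderOf (θ k) ∣ Nat.card G :=
      ((orderOf_map_dvd θ k).trans (orderOf_dvd_natCard k)).trans (Subgroup.card_subgroup_dvd_card _)
    exact orderOf_eq_one_iff.1 (Nat.eq_one_of_dvd_coprimes (Nat.coprime_two_left.2 d.odd) d1 d2)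
  exact ⟨θ, θ⁻¹, hg, hg', hne, (d.side h).nconj_good (d.regular h hC) hg hg' hne⟩

theorem card_N_mul (h : SidePair S U K N) : Nat.card N * N.relIndex U = Nat.card U := by
  rw [mul_comm]
  exact relIndex_mul_card (h.le_C.trans inf_le_left)

/-- `[S : K] = [U : N] q`. -/
theorem relIndex_K : (d.side h).K.relIndex S = N.relIndex U * Nat.card W₁ := by
  have h1 := relIndex_mul_card (d.K_le_S h)
  have h2 : Nat.card K = Nat.card P[S] * Nat.card N := by
    rw [h.eq_sup, Coprime.card_sup (d.N_le_normalizer h) (d.core_inf_N h)]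
  have h3 : Nat.card S = Nat.card P[S] * Nat.card U * Nat.card W₁ := by
    rw [TypeP.card_eq d.hP, TypeP.card_derived d.hP]
  rw [h2, h3, ← d.card_N_mul h] at h1
  show K.relIndex S = _
  refine Nat.eq_of_mul_eq_mul_right (Nat.mul_pos (Nat.card_pos (α := P[S])) (Nat.card_pos (α := N))) ?_
  rw [h1]
  ring

/-- `[S : K W₁] = [U : N]`. -/
theorem relIndex_H : (d.side h).H.relIndex S = N.relIndex U := by
  have h1 := relIndex_mul_card (d.side h).H_le_S
  rw [(d.side h).card_H] at h1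
  have h2 := relIndex_mul_card (d.side h).K_le
  rw [show (d.side h).K.relIndex (d.side h).S = _ from d.relIndex_K h] at h2
  refine Nat.eq_of_mul_eq_mul_right (Nat.mul_pos (Nat.card_pos (α := W₁))
    (Nat.card_pos (α := (d.side h).K))) ?_
  rw [show Nat.card W₁ = Nat.card (d.side h).W₁ from rfl] at h2 ⊢
  exact h1.trans (h2.symm.trans (mul_assoc _ _ _))

theorem relIndex_sideP : d.sideP.K.relIndex S = Nat.card U * Nat.card W₁ := by
  rw [d.relIndex_K d.pair_core, relIndex_bot_left]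

theorem relIndex_H_sideP : d.sideP.H.relIndex S = Nat.card U := by
  rw [d.relIndex_H d.pair_core, relIndex_bot_left]

end SideData

namespace Side

/-- The orbit of a character under `S`. -/
noncomputable def orb (D : Side G) (θ : ↥D.K →* ℂˣ) : Finset (↥D.K →* ℂˣ) := by
  classical
  exact (Fintype.ofFinite ↥D.S).elems.image fun x => D.tw x θ

theorem mem_orb (D : Side G) {θ θ' : ↥D.K →* ℂˣ} : θ' ∈ D.orb θ ↔ ∃ x, D.tw x θ = θ' := by
  classical
  letI := Fintype.ofFinite ↥D.S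
  rw [orb, Finset.mem_image]
  exact ⟨fun ⟨x, _, e⟩ => ⟨x, e⟩, fun ⟨x, e⟩ => ⟨x, Fintype.complete x, e⟩⟩

theorem card_orb_mul (D : Side G) (θ : ↥D.K →* ℂˣ) :
    (D.orb θ).card * D.num θ θ = Nat.card D.S := by
  classical
  letI := Fintype.ofFinite ↥D.S
  rw [Nat.card_eq_fintype_card, ← Finset.card_univ]
  rw [Finset.card_eq_sum_card_fiberwise (f := fun x => D.tw x θ) (t := D.orb θ)
    fun x _ => D.mem_orb.2 ⟨x, rfl⟩, Finset.sum_const_nat (m := D.num θ θ)]
  intro θ' hθ'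
  obtain ⟨y, rfl⟩ := D.mem_orb.1 hθ'
  rw [num, Nat.card_eq_fintype_card, Fintype.card_subtype]
  refine Finset.card_bij' (fun x _ => y⁻¹ * x) (fun x _ => y * x) ?_ ?_ ?_ ?_
  · intro x hx
    rw [Finset.mem_filter] at hx ⊢
    exact ⟨Finset.mem_univ _, by rw [D.tw_tw, hx.2, ← D.tw_tw, inv_mul_cancel, D.tw_id]⟩
  · intro x hx
    rw [Finset.mem_filter] at hx ⊢
    exact ⟨Finset.mem_univ _, by rw [D.tw_tw, hx.2]⟩
  · exact fun x _ => mul_inv_cancel_left y x
  · exact fun x _ => inv_mul_cancel_left y x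

theorem card_orb_good [Fintype G] (D : Side G) (hD : D.Regular) {θ : ↥D.K →* ℂˣ} (hg : D.Good θ) :
    (D.orb θ).card = D.H.relIndex D.S := by
  have h := D.card_orb_mul θ
  rw [D.num_good hD hg, ← relIndex_mul_card D.H_le_S] at h
  exact Nat.eq_of_mul_eq_mul_right Nat.card_pos h

theorem card_orb_free [Fintype G] (D : Side G) {θ : ↥D.K →* ℂˣ} (hf : D.Free θ) :
    (D.orb θ).card = D.K.relIndex D.S := by
  have h := D.card_orb_mul θ
  rw [D.num_free hf, ← relIndex_mul_card D.K_le] at h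
  exact Nat.eq_of_mul_eq_mul_right Nat.card_pos h

end Side

end Cfsg.Agent.OddOrder.PF14
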