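import Cfsg.Agent.OddOrder.PF14.Blocks
import Cfsg.Agent.OddOrder.PF14.SideInst
import Cfsg.Agent.OddOrder.PF14.NumGroup
import Cfsg.Agent.OddOrder.PF14.Final

/-!
# Peterfalvi section 14: the configuration with `C = 1` is impossible

`false_core` builds `Setup` from the sides of `S` and `T` and a family of blocks and derives a
contradiction; `false_typeII` and `false_typeIII` supply the blocks.
-/

set_option autoImplicit false
set_option linter.unusedSectionVars false
set_option linter.style.haveILetI false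

namespace Cfsg.Agent.OddOrder.PF14

open Subgroup
open Cfsg.Agent Cfsg.Agent.OddOrder

universe u

variable {G : Type u} [Group G] [Fintype G] {S W₁ U W₂ : Subgroup G}

/-- The covered characters of the side `K = P`. -/
theorem SideData.covered_theta (d : SideData S W₁ U W₂)
    (hC : U ⊓ centralizer (Cfsg.fittingHallOf S : Set G) = ⊥) :
    d.sideP.Covered (d.theta d.pair_core) where
  reg := d.regular_sideP hC
  stable := d.stable_theta d.pair_core
  good_mem _ hg := d.good_mem_theta d.pair_core hg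
  free_mem θ hf := by
    refine (d.mem_theta d.pair_core).2 ⟨hf.triv, d.mem_covered.2
      ⟨d.res_ne_one d.pair_core hf.triv hf.ne_one, fun x hx e => ?_⟩⟩
    refine d.K_le_centralizer d.pair_core (hf.stab x (d.res_inj d.pair_core
      (d.triv_tw d.pair_core x hf.triv) hf.triv ?_))
    rw [d.res_tw, e]
  cases _ hθ := d.theta_cases d.pair_core hC.le hθ

variable (hG : Cfsg.IsMinSimpleOddOrder G) (F : BG16.SectionFacts G)
  (hfrob : ∀ L : Subgroup G, IsCoatom L → IsTypeI L → ∀ x ∈ Cfsg.fittingHallOf L, x ≠ 1 →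
    L ⊓ centralizer ({x} : Set G) ≤ Cfsg.fittingHallOf L)

variable {T V : Subgroup G} (hS : IsCoatom S) (hT : IsCoatom T)
  (hSP : Cfsg.IsTypePWith S W₁ U W₂) (hTP : Cfsg.IsTypePWith T W₂ V W₁)

include hG F hfrob hS hT hSP hTP

/-- The configuration with `C = 1` on both sides and given blocks. -/
theorem false_core (hII : Cfsg.IsOfTypeII S) (d : SideData S W₁ U W₂) (d' : SideData T W₂ V W₁)
    (hCS : U ⊓ centralizer (Cfsg.fittingHallOf S : Set G) = ⊥)
    (hCT : V ⊓ centralizer (Cfsg.fittingHallOf T : Set G) = ⊥) (hV : V ≠ ⊥)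
    (hqp : Nat.card W₁ < Nat.card W₂)
    {ι : Type} [Fintype ι] [DecidableEq ι] (B : ι → Block G)
    (hdisj : ∀ X Y, X ≠ Y → Disjoint (B X).Ω (B Y).Ω)
    (hclearS : ∀ X, d.sideP.Clear (B X)) (hclearT : ∀ X, d'.sideP.Clear (B X))
    (hcover : (1 : ℚ) / (Nat.card W₂ : ℕ) + 1 / (Nat.card W₁ : ℕ)
        - 1 / ((Nat.card W₂ : ℕ) * (Nat.card W₁ : ℕ)) =
      ∑ X, ((B X).F : ℚ) / ((B X).F * (B X).e + 1) +
        (1 - 1 / ((Nat.card W₂ : ℕ) : ℚ) ^ Nat.card W₁) /
          ((Nat.card U : ℕ) * (Nat.card W₁ : ℕ)) +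
        (1 - 1 / ((Nat.card W₁ : ℕ) : ℚ) ^ Nat.card W₂) /
          ((Nat.card V : ℕ) * (Nat.card W₂ : ℕ)) + 1 / (Nat.card G : ℕ))
    {L : Subgroup G} (hL : IsCoatom L) (hNU : normalizer (U : Set G) ≤ L) (X : ι)
    (hXe : (B X).e = (Cfsg.fittingHall L).index)
    (hXh : (B X).F * (B X).e + 1 = Nat.card (Cfsg.fittingHallOf L))
    (Y : ι) (hYd : Nat.card V ∣ (B Y).F * (B Y).e + 1)
    (hYe : (B Y).e = Nat.card W₂ ∨ (B Y).e = Nat.card W₂ * Nat.card W₁)
    (hcycM : (B Y).e = Nat.card W₂ * Nat.card W₁ → (B Y).F * (B Y).e + 1 = Nat.card V →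
      Nat.card V = normCard (Nat.card W₁) (Nat.card W₂) →
      ∀ r : ℕ, r.Prime → r ∣ Nat.card V → Nat.card W₂ * Nat.card W₁ ∣ r - 1)
    (hLM : X = Y → (B X).F * (B X).e + 1 = Nat.card V →
      Nat.card V = normCard (Nat.card W₁) (Nat.card W₂) → IsCyclic (Cfsg.fittingHallOf L)) :
    False := by
  classical
  obtain ⟨hU, hq, -⟩ := PF13.typeII_facts hSP hII
  have hp : (Nat.card W₂).Prime := d.facts.p_prime
  obtain ⟨hI, -, hqH, hover, -, E, hWE, hEL, -, hdis, hsup, -, hidx, hfpf⟩ :=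
    (exists_over_normalizer hG F hfrob hS hT hSP hTP hII).2 L hL hNU
  have hel : Cfsg.IsElementaryAbelian (Nat.card W₁) (Cfsg.fittingHallOf T) :=
    ⟨d'.facts.comm_P, d'.facts.pow_P⟩
  have hindex := index_over_normalizer hG F hfrob hS hT hSP hTP hII hp hel hCT hL hNU
  have hEH : E ≤ normalizer (Cfsg.fittingHallOf L : Set G) :=
    hEL.trans (TypeP.le_normalizer_core L)
  have hH1 : Cfsg.fittingHallOf L ≠ ⊥ := fun h => by
    obtain ⟨⟨-, -, h1, -, -⟩, -⟩ := id hI
    exact h1 ((map_eq_bot_iff_of_injective _ L.subtype_injective).mp h)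
  obtain ⟨χ, hχ⟩ := PF3.exists_family (G := G) hSP.selfNormalizing
    (hG.1.of_dvd_nat (W₁ ⊔ W₂).card_subgroup_dvd_card)
  have hKS : ((d.sideP).K : Set G) \ ↑(d.sideP).N₀ ⊆ (Cfsg.sigmaCore S : Set G) \ {1} := by
    simpa using core_subset_sigma hG F hS
  have hKT : ((d'.sideP).K : Set G) \ ↑(d'.sideP).N₀ ⊆ (Cfsg.sigmaCore T : Set G) \ {1} := by
    simpa using core_subset_sigma hG F hT
  let st : Setup G ι :=
    { DS := d.sideP
      DT := d'.sideP
      χS := χ
      χT := swapFam χ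
      hχS := hχ
      hχT := swapFam_isFamily hχ
      link := fun ω => ω.comp (swapW W₁ W₂).toMonoidHom
      link_mul := fun ω ω' => MonoidHom.ext fun w => rfl
      link_surj := fun ω => ⟨ω.comp (swapW W₁ W₂).symm.toMonoidHom,
        MonoidHom.ext fun w => by simp⟩
      link_fam := fun ω => rfl
      link_trivR := fun ω h => swap_trivR h
      link_trivL := fun ω h => swap_trivL h
      card_W₁ := rfl
      card_W₂ := rfl
      partW_eq := by rw [Side.partW_eq_wPart, Side.partW_eq_wPart]; exact wPart_comm W₁ W₂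
      ΘS := d.theta d.pair_core
      ΘT := d'.theta d'.pair_core
      covS := d.covered_theta hCS
      covT := d'.covered_theta hCT
      B := B
      disj := hdisj
      clearS := hclearS
      clearT := hclearT
      disjST := sides_disjoint hG F hfrob hS hT hSP hTP d.sideP d'.sideP hKS hKT }
  have hu : d.sideP.H.relIndex d.sideP.S = Nat.card U := d.relIndex_H_sideP
  have hv : d'.sideP.H.relIndex d'.sideP.S = Nat.card V := d'.relIndex_H_sideP
  have key := st.main X Y hqp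
    (by
      show SideNum (Nat.card W₂) (Nat.card W₁) (d.sideP.H.relIndex d.sideP.S)
        (((d.theta d.pair_core).card : ℚ) + 1)
      rw [hu, d.card_theta]
      exact d.facts.sideNum hG.1 hCS hU)
    (by
      show SideNum (Nat.card W₁) (Nat.card W₂) (d'.sideP.H.relIndex d'.sideP.S)
        (((d'.theta d'.pair_core).card : ℚ) + 1)
      rw [hv, d'.card_theta]
      exact d'.facts.sideNum hG.1 hCT hV)
    (pow_mul_pow_le_card hqp.ne' hp hq d.facts.card_P d'.facts.card_P)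
    (by
      show d.sideP.H.relIndex d.sideP.S ∣ (B X).F * (B X).e + 1
      rw [hu, hXh]
      exact card_dvd_of_le hover.U_le)
    (hXe ▸ hindex)
    (by show d'.sideP.H.relIndex d'.sideP.S ∣ _; rw [hv]; exact hYd)
    hYe
    (by
      show _ = ∑ X, ((B X).F : ℚ) / ((B X).F * (B X).e + 1) +
        (1 - 1 / ((Nat.card W₂ : ℕ) : ℚ) ^ Nat.card W₁) /
          ((d.sideP.H.relIndex d.sideP.S : ℕ) * (Nat.card W₁ : ℕ)) +
        (1 - 1 / ((Nat.card W₁ : ℕ) : ℚ) ^ Nat.card W₂) /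
          ((d'.sideP.H.relIndex d'.sideP.S : ℕ) * (Nat.card W₂ : ℕ)) + 1 / (Nat.card G : ℕ)
      rw [hu, hv]
      exact hcover)
    (by
      show (B Y).e = Nat.card W₂ * Nat.card W₁ →
        (B Y).F * (B Y).e + 1 = d'.sideP.H.relIndex d'.sideP.S →
        d'.sideP.H.relIndex d'.sideP.S = normCard (Nat.card W₁) (Nat.card W₂) →
        ∀ r : ℕ, r.Prime → r ∣ d'.sideP.H.relIndex d'.sideP.S →
          Nat.card W₂ * Nat.card W₁ ∣ r - 1
      rw [hv]
      exact hcycM)
    (by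
      show X = Y → (B X).e = Nat.card W₂ * Nat.card W₁ →
        (B X).F * (B X).e + 1 = d'.sideP.H.relIndex d'.sideP.S →
        d'.sideP.H.relIndex d'.sideP.S = normCard (Nat.card W₁) (Nat.card W₂) →
        d.sideP.H.relIndex d.sideP.S % Nat.card W₂ = 1
      rw [hu, hv]
      intro e he hh hn
      refine mod_of_cyclic (hLM e hh hn) hover.U_le hEH hfpf ?_ hp.two_le
      rw [← hidx, ← hXe, he]
      exact dvd_mul_right _ _)
    (by
      show Nat.card W₁ = 3 → (B X).e = Nat.card W₂ * Nat.card W₁ →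
        (∃ b : ℕ, Odd b ∧ 2 * b + 1 = Nat.card W₂ ∧ d.sideP.H.relIndex d.sideP.S = b ^ 2) →
        ∀ r : ℕ, r.Prime → r ∣ (B X).F * (B X).e + 1 → r ∣ d.sideP.H.relIndex d.sideP.S
      rw [hu, hXh]
      exact fun h3 _ hb => primes_dvd_of_square d.facts hCS hG.1 h3
        ((one_lt_card_iff_ne_bot U).2 hU) d.not_typeI hII
        (fun x hx => centralizer_le_of_typeP hG F hfrob hS (kappa_nonempty hG F hS hSP) hx)
        hover (TypeP.core_nilpotent L) hqH hb)
  replace key : d.sideP.H.relIndex d.sideP.S = normCard (Nat.card W₂) (Nat.card W₁) ∧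
      d'.sideP.H.relIndex d'.sideP.S = normCard (Nat.card W₁) (Nat.card W₂) ∧
      (B X).e = Nat.card W₂ * Nat.card W₁ ∧
      ((B X).F * (B X).e + 1 = d.sideP.H.relIndex d.sideP.S ∨
        (X = Y ∧ (B X).F * (B X).e + 1 = d'.sideP.H.relIndex d'.sideP.S)) := key
  rw [hu, hv] at key
  obtain ⟨hun, hvn, he, hcase⟩ := key
  refine final_false hG.1 d.facts hqp hTP hU hel hCS hCT
    (normalizer_W₁_le hG F hS hT hSP hTP hq) hI.1.1 hover hH1 hun (hXe ▸ he) ?_
  rcases hcase with h | ⟨e, h⟩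
  · exact Or.inl (eq_of_le_of_card_ge hover.U_le (hXh ▸ h).le)
  · exact Or.inr (hLM e h hvn)

variable (hcoh : ∀ L : Subgroup G, IsCoatom L → IsTypeI L →
    letI := Fintype.ofFinite L
    Cfsg.IsCoherent (Cfsg.inducedIrrAbove (Cfsg.fittingHall L) ⊥) {1}ᶜ
      (Cfsg.dadeIsometry (setA L) L (Cfsg.supportR L)))
include hcoh

/-- The index of the block of a given maximal subgroup of Type I. -/
theorem exists_block_index {L : Subgroup G} (hL : IsCoatom L) (hI : IsTypeI L) :
    ∃ X : Fin (numI G), (∃ g : G, L = (classOf G X).rep.map (MulAut.conj g).toMonoidHom) ∧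
      (blocksI hG F hfrob hcoh X).e = (Cfsg.fittingHall L).index ∧
      (blocksI hG F hfrob hcoh X).F * (blocksI hG F hfrob hcoh X).e + 1 =
        Nat.card (Cfsg.fittingHallOf L) := by
  obtain ⟨i, g, rfl⟩ := TypeIClass.exists_rep hL hI
  obtain ⟨h1, h2⟩ := typeI_conj_invariants hG F i.rep_coatom i.rep_typeI g hI
  obtain ⟨X, rfl⟩ := (classOf G).surjective i
  refine ⟨X, ⟨g, rfl⟩, h2.symm, ?_⟩
  rw [Block.card_H]
  exact (blockI_card_H hG F hfrob hcoh (classOf G X).rep_coatom (classOf G X).rep_typeI).trans h1.symm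

/-- `C = 1` on both sides, `T` of Type II. -/
theorem false_typeII (hII : Cfsg.IsOfTypeII S) (hTII : Cfsg.IsOfTypeII T)
    (d : SideData S W₁ U W₂) (d' : SideData T W₂ V W₁)
    (hCS : U ⊓ centralizer (Cfsg.fittingHallOf S : Set G) = ⊥)
    (hCT : V ⊓ centralizer (Cfsg.fittingHallOf T : Set G) = ⊥)
    (hqp : Nat.card W₁ < Nat.card W₂) : False := by
  obtain ⟨hV, -, -⟩ := PF13.typeII_facts hTP hTII
  obtain ⟨⟨L, hL, hNU⟩, hallL⟩ := exists_over_normalizer hG F hfrob hS hT hSP hTP hII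
  obtain ⟨hIL, -⟩ := hallL L hL hNU
  obtain ⟨⟨M, hM, hNV⟩, hallM⟩ := exists_over_normalizer hG F hfrob hT hS hTP hSP hTII
  obtain ⟨hIM, -, -, hoverM, -, E, -, hEM, -, -, -, -, hidxM, hfpfM⟩ := hallM M hM hNV
  obtain ⟨X, ⟨g, hg⟩, hXe, hXh⟩ := exists_block_index hG F hfrob hS hT hSP hTP hcoh hL hIL
  obtain ⟨Y, ⟨g', hg'⟩, hYe, hYh⟩ := exists_block_index hG F hfrob hS hT hSP hTP hcoh hM hIM
  have helS : Cfsg.IsElementaryAbelian (Nat.card W₂) (Cfsg.fittingHallOf S) :=
    ⟨d.facts.comm_P, d.facts.pow_P⟩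
  have hidx' := index_over_normalizer hG F hfrob hT hS hTP hSP hTII d'.facts.p_prime helS hCS hM hNV
  have hcycV : Nat.card (Cfsg.fittingHallOf M) = Nat.card V →
      Nat.card V = normCard (Nat.card W₁) (Nat.card W₂) → IsCyclic (Cfsg.fittingHallOf M) :=
    fun h hn => (isCyclic_of_card_eq d'.facts hV hCT hoverM hn h).2
  refine false_core hG F hfrob hS hT hSP hTP hII d d' hCS hCT hV hqp
    (blocksI hG F hfrob hcoh) (fun X Y h => blocksI_disjoint hG F hfrob hcoh h)
    (blocksI_clear hG F hfrob hcoh hS hSP d.sideP rfl rfl (by simpa using core_subset_sigma hG F hS))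
    (blocksI_clear hG F hfrob hcoh hT hTP d'.sideP rfl rfl
      (by simpa using core_subset_sigma hG F hT))
    (cover_blocksI hG F hfrob hcoh hS hT hSP hTP hII d.facts.card_P d'.facts.card_P hTII)
    hL hNU X hXe hXh Y (hYh.symm ▸ card_dvd_of_le hoverM.U_le) ?_ ?_ ?_
  · rw [hYe, mul_comm (Nat.card W₂)]
    exact hidx'
  · intro he hh hn r hr hd
    rw [← he, hYe, hidxM]
    rw [hYh] at hh
    exact card_dvd_pred_of_cyclic (hcycV hh hn) (hEM.trans (TypeP.le_normalizer_core M)) hfpfM hr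
      (hh ▸ hd)
  · intro e hh hn
    subst e
    have hmap : L = M.map (MulAut.conj (g * g'⁻¹)).toMonoidHom := by
      rw [hg, hg', Coprime.map_conj_map_conj, inv_mul_cancel_right]
    have hcyc := hcycV (hYh ▸ hh) hn
    rw [← sigmaCore_typeI hG F hM hIM] at hcyc
    rw [← sigmaCore_typeI hG F hL hIL, hmap, ← OddOrder.sigmaCore_map]
    exact ((Cfsg.sigmaCore M).equivMapOfInjective _
      (MulAut.conj (g * g'⁻¹)).injective).isCyclic.1 hcyc

/-- `C = 1` on both sides, `T` of Type III. -/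
theorem false_typeIII (hII : Cfsg.IsOfTypeII S) (hIII : Cfsg.IsOfTypeIII T)
    (d : SideData S W₁ U W₂) (d' : SideData T W₂ V W₁)
    (hCS : U ⊓ centralizer (Cfsg.fittingHallOf S : Set G) = ⊥)
    (hCT : V ⊓ centralizer (Cfsg.fittingHallOf T : Set G) = ⊥)
    (hqp : Nat.card W₁ < Nat.card W₂) : False := by
  obtain ⟨⟨L, hL, hNU⟩, hallL⟩ := exists_over_normalizer hG F hfrob hS hT hSP hTP hII
  obtain ⟨hIL, -⟩ := hallL L hL hNU
  obtain ⟨X, -, hXe, hXh⟩ := exists_block_index hG F hfrob hS hT hSP hTP hcoh hL hIL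
  refine false_core hG F hfrob hS hT hSP hTP hII d d' hCS hCT (typeIII_facts hTP hIII).1 hqp
    (blocksIII hG F hfrob hcoh hT hTP hIII)
    (fun X Y h => blocksIII_disjoint hG F hfrob hcoh hT hTP hIII h)
    (blocksIII_clearS hG F hfrob hcoh hT hTP hIII hS hSP d.sideP rfl rfl
      (by simpa using core_subset_sigma hG F hS))
    (blocksIII_clearT hG F hfrob hcoh hT hTP hIII d'.sideP rfl rfl (by simp))
    (cover_blocksIII hG F hfrob hcoh hS hT hSP hTP hIII hII d.facts.card_P d'.facts.card_P)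
    hL hNU (Sum.inl X) hXe hXh (Sum.inr ())
    (blockT_card hG F hfrob hT hTP hIII ▸ blockT_e hG F hfrob hT hTP hIII ▸ dvd_rfl)
    (Or.inl (blockT_e hG F hfrob hT hTP hIII)) ?_ fun e => (Sum.inl_ne_inr e).elim
  intro he
  have h : Nat.card W₂ = Nat.card W₂ * Nat.card W₁ :=
    (blockT_e hG F hfrob hT hTP hIII).symm.trans he
  exact absurd ((Nat.mul_eq_left Nat.card_pos.ne').1 h.symm) d.facts.q_prime.ne_one

end Cfsg.Agent.OddOrder.PF14
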