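import Cfsg.Agent.OddOrder.PF3.Props
import Cfsg.Agent.OddOrder.PF14.Basic
import Cfsg.Agent.CharInduce.Induce
import Cfsg.Agent.CharInduce.Ops

/-!
# Peterfalvi section 14: one side

`S` is a subgroup with a set `A` that is TI with normaliser `S`, `K` a normal subgroup of `S`
containing `W₂`, with `K ∩ W₁ = 1`, such that `K ∖ N₀ ⊆ A`.  For a side of the configuration
`K = P C` and `N₀ = C`.  Everything is induced from `K` and from `H = K W₁`; no table of characters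
of `S` is used.
-/

set_option autoImplicit false

namespace Cfsg.Agent.OddOrder.PF14

open Cfsg.Agent Cfsg.Agent.CharBasic Cfsg.Agent.CharInduce Finset
open scoped ComplexConjugate

universe u

/-- The data of one side. -/
structure Side (G : Type u) [Group G] where
  S : Subgroup G
  W₁ : Subgroup G
  W₂ : Subgroup G
  K : Subgroup G
  N₀ : Subgroup G
  A : Set G
  hW : Cfsg.IsSelfNormalizingCyclic W₁ W₂
  hq : (Nat.card W₁).Prime
  hp : (Nat.card W₂).Prime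
  coprime : (Nat.card W₁).Coprime (Nat.card W₂)
  odd : Odd (Nat.card G)
  K_le : K ≤ S
  K_normal : ∀ s ∈ S, ∀ k ∈ K, s * k * s⁻¹ ∈ K
  W₁_le : W₁ ≤ S
  W₂_le : W₂ ≤ K
  inf_eq : K ⊓ W₁ = ⊥
  fix_eq : ∀ x ∈ W₁, x ≠ 1 → ∀ k ∈ K, k * x = x * k → k ∈ W₂
  one_notMem : (1 : G) ∉ A
  ti : ∀ g : G, g ∉ S → ∀ a ∈ A, g⁻¹ * a * g ∉ A
  conj_mem : ∀ s ∈ S, ∀ a ∈ A, s * a * s⁻¹ ∈ A
  V_mem : ∀ w ∈ W₁ ⊔ W₂, w ∉ W₁ → w ∉ W₂ → w ∈ A
  A_mem : ∀ k ∈ K, k ∉ N₀ → k ∈ A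

namespace Side

variable {G : Type u} [Group G] (D : Side G)

/-- The subgroup `K W₁`. -/
def H : Subgroup G := D.K ⊔ D.W₁

theorem K_le_H : D.K ≤ D.H := le_sup_left

theorem W₁_le_H : D.W₁ ≤ D.H := le_sup_right

theorem W_le_H : D.W₁ ⊔ D.W₂ ≤ D.H := sup_le D.W₁_le_H (D.W₂_le.trans D.K_le_H)

theorem H_le_S : D.H ≤ D.S := sup_le D.K_le D.W₁_le

theorem W₁_le_normalizer : D.W₁ ≤ Subgroup.normalizer (D.K : Set G) := by
  intro w hw
  rw [Subgroup.mem_normalizer_iff]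
  refine fun k => ⟨fun hk => D.K_normal w (D.W₁_le hw) k hk, fun hk => ?_⟩
  have := D.K_normal w⁻¹ (inv_mem (D.W₁_le hw)) _ hk
  simpa [mul_assoc] using this

theorem exists_decomp {h : G} (hh : h ∈ D.H) : ∃ k ∈ D.K, ∃ w ∈ D.W₁, h = k * w := by
  have h' : h ∈ ((D.K ⊔ D.W₁ : Subgroup G) : Set G) := hh
  rw [sup_comm, Subgroup.coe_mul_of_left_le_normalizer_right D.W₁ D.K D.W₁_le_normalizer,
    Set.mem_mul] at h'
  obtain ⟨w, hw, k, hk, rfl⟩ := h'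
  exact ⟨w * k * w⁻¹, D.K_normal w (D.W₁_le hw) k hk, w, hw, by group⟩

theorem decomp_unique {k k' w w' : G} (hk : k ∈ D.K) (hk' : k' ∈ D.K) (hw : w ∈ D.W₁)
    (hw' : w' ∈ D.W₁) (h : k * w = k' * w') : k = k' ∧ w = w' := by
  have e : k'⁻¹ * k = w' * w⁻¹ := by
    rw [eq_mul_inv_iff_mul_eq, mul_assoc, h, inv_mul_cancel_left]
  have : k'⁻¹ * k ∈ D.K ⊓ D.W₁ :=
    Subgroup.mem_inf.2 ⟨mul_mem (inv_mem hk') hk, e ▸ mul_mem hw' (inv_mem hw)⟩
  rw [D.inf_eq, Subgroup.mem_bot] at this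
  rw [this] at e
  exact ⟨(inv_mul_eq_one.1 this).symm, (mul_inv_eq_one.1 e.symm).symm⟩

/-- The `K`-component of an element of `H`. -/
noncomputable def projK (h : ↥D.H) : ↥D.K :=
  ⟨(D.exists_decomp h.2).choose, (D.exists_decomp h.2).choose_spec.1⟩

theorem projK_eq {h : ↥D.H} {k : ↥D.K} {w : G} (hw : w ∈ D.W₁) (e : (h : G) = k * w) :
    D.projK h = k := by
  obtain ⟨w', hw', e'⟩ := (D.exists_decomp h.2).choose_spec.2
  exact Subtype.ext (D.decomp_unique (D.projK h).2 k.2 hw' hw (e'.symm.trans e)).1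

/-- The conjugate of a function on `K`, as a function on `K`. -/
noncomputable def twist (x : G) (f : ↥D.K → ℂ) : ↥D.K → ℂ :=
  fun k => Cfsg.extendByZero D.K f (x⁻¹ * (k : G) * x)

/-- A linear character as a function. -/
def lin (θ : ↥D.K →* ℂˣ) : ↥D.K → ℂ := fun k => (θ k : ℂ)

/-- The conjugate of a linear character. -/
def tw (s : ↥D.S) (θ : ↥D.K →* ℂˣ) : ↥D.K →* ℂˣ where
  toFun k := θ ⟨(s : G)⁻¹ * k * s, by
    have := D.K_normal _ (inv_mem s.2) k k.2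
    rwa [inv_inv] at this⟩
  map_one' := by
    rw [← map_one θ]; congr 1; exact Subtype.ext (by simp)
  map_mul' a b := by
    rw [← map_mul θ]; congr 1; exact Subtype.ext (by simp [mul_assoc])

theorem twist_lin (s : ↥D.S) (θ : ↥D.K →* ℂˣ) : D.twist s (D.lin θ) = D.lin (D.tw s θ) := by
  funext k
  have : (s : G)⁻¹ * k * s ∈ D.K := by
    have := D.K_normal _ (inv_mem s.2) k k.2
    rwa [inv_inv] at this
  rw [twist, extendByZero_of_mem _ this]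
  rfl

theorem twist_one (s : ↥D.S) : D.twist s (fun _ => 1) = fun _ => (1 : ℂ) := by
  funext k
  have : (s : G)⁻¹ * k * s ∈ D.K := by
    have := D.K_normal _ (inv_mem s.2) k k.2
    rwa [inv_inv] at this
  rw [twist, extendByZero_of_mem _ this]

theorem twist_sub (x : G) (f g : ↥D.K → ℂ) : D.twist x (f - g) = D.twist x f - D.twist x g := by
  funext k
  by_cases h : x⁻¹ * (k : G) * x ∈ D.K
  · simp [twist, extendByZero_of_mem _ h]
  · simp [twist, extendByZero_of_not_mem _ h]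

/-- A linear character of `K` fixed by `W₁` extends to `H`, trivially on `W₁`. -/
noncomputable def ext (θ : ↥D.K →* ℂˣ)
    (hfix : ∀ w : ↥D.S, (w : G) ∈ D.W₁ → D.tw w θ = θ) : ↥D.H →* ℂˣ where
  toFun h := θ (D.projK h)
  map_one' := by
    rw [D.projK_eq (k := 1) (w := 1) (one_mem _) (by simp), map_one]
  map_mul' a b := by
    obtain ⟨k, hk, w, hw, ea⟩ := D.exists_decomp a.2
    obtain ⟨k', hk', w', hw', eb⟩ := D.exists_decomp b.2
    have hc : w * k' * w⁻¹ ∈ D.K := D.K_normal w (D.W₁_le hw) k' hk'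
    rw [D.projK_eq (k := ⟨k, hk⟩) hw ea, D.projK_eq (k := ⟨k', hk'⟩) hw' eb,
      D.projK_eq (k := ⟨k, hk⟩ * ⟨w * k' * w⁻¹, hc⟩) (mul_mem hw hw') (by
        rw [Subgroup.coe_mul, ea, eb, Subgroup.coe_mul]; group), map_mul]
    congr 1
    have h := DFunLike.congr_fun (hfix ⟨w⁻¹, inv_mem (D.W₁_le hw)⟩ (inv_mem hw)) ⟨k', hk'⟩
    rw [← h]
    show _ = θ _
    congr 1
    exact Subtype.ext (by simp)

variable [Fintype G]

/-- On `A`, an induced function is a sum over `S`. -/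
theorem indFun_on_A {H : Subgroup G} (g : ↥H → ℂ) (hg : ∀ h : ↥H, (h : G) ∉ D.A → g h = 0)
    [Fintype ↥D.S] {a : G} (ha : a ∈ D.A) :
    Cfsg.indFun H g a =
      (Nat.card H : ℂ)⁻¹ * ∑ x : ↥D.S, Cfsg.extendByZero H g ((x : G)⁻¹ * a * x) := by
  rw [indFun_apply]
  congr 1
  symm
  refine Fintype.sum_of_injective (Subtype.val : ↥D.S → G) Subtype.val_injective _ _ ?_
    fun x => rfl
  intro x hx
  have hxS : x ∉ D.S := fun h => hx ⟨⟨x, h⟩, rfl⟩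
  by_cases hy : x⁻¹ * a * x ∈ H
  · rw [extendByZero_of_mem _ hy, hg _ (D.ti x hxS a ha)]
  · rw [extendByZero_of_not_mem _ hy]

/-- The inner product of two induced functions supported in `A`. -/
theorem inner_ind {H : Subgroup G} [Fintype ↥H] [Fintype ↥D.S] (f g : ↥H → ℂ)
    (hf : ∀ h : ↥H, (h : G) ∉ D.A → f h = 0) (hg : ∀ h : ↥H, (h : G) ∉ D.A → g h = 0) :
    Cfsg.classInner (Cfsg.indFun H f) (Cfsg.indFun H g) =
      Cfsg.classInner f (fun h : ↥H =>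
        (Nat.card H : ℂ)⁻¹ * ∑ x : ↥D.S, Cfsg.extendByZero H g ((x : G)⁻¹ * h * x)) := by
  rw [classInner_indFun_left _ _ _ (isClassFunction_indFun _ _)]
  refine PF3.classInner_congr_right fun h hh => ?_
  exact D.indFun_on_A g hg (not_imp_comm.1 (hf h) hh)

/-- The inner product of two functions induced from `K`. -/
theorem inner_indK [Fintype ↥D.K] [Fintype ↥D.S] (f g : ↥D.K → ℂ)
    (hf : ∀ h : ↥D.K, (h : G) ∉ D.A → f h = 0) (hg : ∀ h : ↥D.K, (h : G) ∉ D.A → g h = 0) :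
    Cfsg.classInner (Cfsg.indFun D.K f) (Cfsg.indFun D.K g) =
      (Nat.card D.K : ℂ)⁻¹ * ∑ x : ↥D.S, Cfsg.classInner f (D.twist x g) := by
  rw [D.inner_ind f g hf hg, ← classInner_sum_right, show
    (fun h : ↥D.K => (Nat.card D.K : ℂ)⁻¹ *
      ∑ x : ↥D.S, Cfsg.extendByZero D.K g ((x : G)⁻¹ * h * x)) =
      (Nat.card D.K : ℂ)⁻¹ • ∑ x : ↥D.S, D.twist x g by
    funext h; simp [twist, Finset.sum_apply], CharBasic.classInner_smul_right, map_inv₀,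
    map_natCast]

/-- An element of `H` outside `K` is conjugate under `K` to an element of `W₁ W₂` outside `W₂`. -/
theorem exists_conj_W {h : G} (hh : h ∈ D.H) (hK : h ∉ D.K) :
    ∃ k ∈ D.K, ∃ w ∈ D.W₁ ⊔ D.W₂, w ∉ D.W₂ ∧ h = k * w * k⁻¹ := by
  classical
  obtain ⟨k₀, hk₀, w, hw, rfl⟩ := D.exists_decomp hh
  have hw1 : w ≠ 1 := fun e => hK (by simpa [e] using hk₀)
  have hcomm : ∀ a ∈ D.W₂, a * w = w * a := fun a ha => (D.hW.2.2.2.1 w hw a ha).symm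
  have hdis : ∀ a ∈ D.W₂, a ∈ D.W₁ → a = 1 := fun a ha ha' =>
    Subgroup.mem_bot.1 (D.hW.2.2.1 ▸ Subgroup.mem_inf.2 ⟨ha', ha⟩)
  have hKW : ∀ c ∈ D.W₁ ⊔ D.W₂, c ∈ D.K → c ∈ D.W₂ := by
    intro c hc hcK
    obtain ⟨a, b, ha, hb, e⟩ := H43.exists_mul_decomp D.hW ⟨c, hc⟩
    have e' : c = (a : G) * b := congrArg Subtype.val e
    have : (a : G) ∈ D.K := by
      have : (a : G) = c * (b : G)⁻¹ := by rw [e', mul_inv_cancel_right]
      exact this ▸ mul_mem hcK (inv_mem (D.W₂_le hb))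
    rw [show (a : G) = 1 from Subgroup.mem_bot.1 (D.inf_eq ▸ Subgroup.mem_inf.2 ⟨this, ha⟩),
      one_mul] at e'
    exact e' ▸ hb
  have hone : ∀ a ∈ D.W₂, ∀ c : G, c * (a * w) * c⁻¹ = w → a = 1 := by
    intro a ha c e
    have hwq : w ^ Nat.card D.W₁ = 1 := congrArg Subtype.val
      (pow_card_eq_one' (x := (⟨w, hw⟩ : D.W₁)))
    have h1 : (c * (a * w) * c⁻¹) ^ Nat.card D.W₁ = 1 := by rw [e, hwq]
    rw [conj_pow, (show Commute a w from hcomm a ha).mul_pow, hwq, mul_one] at h1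
    have h2 : a ^ Nat.card D.W₁ = 1 := by simpa using h1
    refine orderOf_eq_one_iff.1 (Nat.eq_one_of_dvd_coprimes D.coprime ?_
      (Subgroup.orderOf_dvd_natCard D.W₂ ha))
    exact orderOf_dvd_of_pow_eq_one h2
  -- the conjugates exhaust the coset
  let f : ↥D.K × ↥D.W₂ → ↥D.K := fun x =>
    ⟨(x.1 : G) * (x.2 * w) * (x.1 : G)⁻¹ * w⁻¹, by
      have h1 : (x.1 : G) * (x.2 * w) * (x.1 : G)⁻¹ * w⁻¹ =
          (x.1 : G) * x.2 * (w * (x.1 : G)⁻¹ * w⁻¹) := by group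
      rw [h1]
      exact mul_mem (mul_mem x.1.2 (D.W₂_le x.2.2))
        (D.K_normal w (D.W₁_le hw) _ (inv_mem x.1.2))⟩
  have key : ∀ x y, f x = f y → (y.1 : G)⁻¹ * x.1 ∈ D.W₂ ∧ x.2 = y.2 := by
    intro x y e
    have e1 : (x.1 : G) * (x.2 * w) * (x.1 : G)⁻¹ = y.1 * (y.2 * w) * (y.1 : G)⁻¹ :=
      mul_right_cancel (congrArg Subtype.val e)
    set c := (y.1 : G)⁻¹ * x.1 with hc
    have hcK : c ∈ D.K := mul_mem (inv_mem y.1.2) x.1.2
    have e2 : c * (x.2 * w) * c⁻¹ = y.2 * w := by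
      calc c * ((x.2 : G) * w) * c⁻¹
          = (y.1 : G)⁻¹ * ((x.1 : G) * (x.2 * w) * (x.1 : G)⁻¹) * y.1 := by rw [hc]; group
        _ = _ := by rw [e1]; group
    have hcW : c ∈ D.W₂ := by
      by_cases hx : (x.2 : G) = 1
      · have hy : (y.2 : G) = 1 := by
          refine hone _ y.2.2 c⁻¹ ?_
          rw [← e2, hx, one_mul]; group
        rw [hx, hy, one_mul, mul_inv_eq_iff_eq_mul] at e2
        exact D.fix_eq w hw hw1 c hcK e2
      have hnot1 : ∀ a ∈ D.W₂, a ≠ 1 → a * w ∉ D.W₁ := fun a ha ha1 h => ha1 (hdis a ha (by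
        have := mul_mem h (inv_mem hw); rwa [mul_inv_cancel_right] at this))
      have hnot2 : ∀ a ∈ D.W₂, a * w ∉ D.W₂ := fun a ha h => hw1 (hdis w (by
        have := mul_mem (inv_mem ha) h; rwa [inv_mul_cancel_left] at this) hw)
      have hy : (y.2 : G) ≠ 1 := fun hy => hx (hone _ x.2.2 c (by rw [e2, hy, one_mul]))
      have hW' : ∀ a ∈ D.W₂, a * w ∈ D.W₁ ⊔ D.W₂ := fun a ha =>
        mul_mem (Subgroup.mem_sup_right ha) (Subgroup.mem_sup_left hw)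
      exact hKW c (H43.conj_mem_V D.hW (hW' _ x.2.2) (hnot1 _ x.2.2 hx) (hnot2 _ x.2.2)
        (e2 ▸ hW' _ y.2.2) (e2 ▸ hnot1 _ y.2.2 hy) (e2 ▸ hnot2 _ y.2.2)) hcK
    refine ⟨hcW, Subtype.ext (mul_right_cancel (b := w) ?_)⟩
    have hcx : Commute c ((x.2 : G) * w) := by
      refine H43.mem_normalizer_sup D.hW.2.2.2.2.1 (Subgroup.mem_sup_right hcW) ?_
      exact mul_mem (Subgroup.mem_sup_right x.2.2) (Subgroup.mem_sup_left hw)
    rw [← e2, hcx.eq, mul_inv_cancel_right]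
  have hfib : ∀ k ∈ (univ : Finset ↥D.K).filter (fun k => ∃ x, f x = k),
      (univ.filter fun x => f x = k).card ≤ Nat.card D.W₂ := by
    intro k hk
    obtain ⟨y, rfl⟩ := (mem_filter.1 hk).2
    rw [← Fintype.card_coe, ← Nat.card_eq_fintype_card]
    refine Nat.card_le_card_of_injective
      (fun x => (⟨(y.1 : G)⁻¹ * x.1.1, (key _ _ (mem_filter.1 x.2).2).1⟩ : D.W₂)) fun a b e => ?_
    refine Subtype.ext (Prod.ext (Subtype.ext (mul_left_cancel (congrArg Subtype.val e))) ?_)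
    exact ((key _ _ (mem_filter.1 a.2).2).2).trans (key _ _ (mem_filter.1 b.2).2).2.symm
  have hcard : Fintype.card ↥D.K ≤ ((univ : Finset ↥D.K).filter fun k => ∃ x, f x = k).card := by
    have h1 := card_le_mul_card_image_of_maps_to (f := f) (s := univ)
      (t := univ.filter fun k => ∃ x, f x = k) (fun x _ => mem_filter.2 ⟨mem_univ _, x, rfl⟩)
      (Nat.card D.W₂) hfib
    rw [card_univ, Fintype.card_prod, ← Nat.card_eq_fintype_card (α := ↥D.W₂), mul_comm] at h1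
    exact Nat.le_of_mul_le_mul_left h1 Nat.card_pos
  have hall := eq_univ_of_card _ (le_antisymm (card_le_univ _) hcard)
  obtain ⟨x, hx⟩ := (mem_filter.1 (hall ▸ mem_univ (⟨k₀, hk₀⟩ : ↥D.K))).2
  refine ⟨x.1, x.1.2, (x.2 : G) * w,
    mul_mem (Subgroup.mem_sup_right x.2.2) (Subgroup.mem_sup_left hw), fun h' => hw1 (hdis w ?_ hw),
    ?_⟩
  · have := mul_mem (inv_mem x.2.2) h'
    rwa [inv_mul_cancel_left] at this
  · have e : ((x.1 : G) * (x.2 * w) * (x.1 : G)⁻¹) * w⁻¹ = k₀ := congrArg Subtype.val hx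
    rw [← e]; group

omit [Fintype G] in
theorem tw_apply (s : ↥D.S) (θ : ↥D.K →* ℂˣ) (k k' : ↥D.K)
    (h : (k' : G) = (s : G)⁻¹ * k * s) : D.tw s θ k = θ k' :=
  congrArg θ (Subtype.ext h.symm)

omit [Fintype G] in
theorem tw_tw (x y : ↥D.S) (θ : ↥D.K →* ℂˣ) : D.tw (x * y) θ = D.tw x (D.tw y θ) :=
  MonoidHom.ext fun k => congrArg θ (Subtype.ext (by simp [mul_assoc]))

omit [Fintype G] in
theorem tw_id (θ : ↥D.K →* ℂˣ) : D.tw 1 θ = θ :=
  MonoidHom.ext fun k => congrArg θ (Subtype.ext (by simp))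

omit [Fintype G] in
theorem tw_mul (x : ↥D.S) (θ θ' : ↥D.K →* ℂˣ) : D.tw x (θ * θ') = D.tw x θ * D.tw x θ' := rfl

omit [Fintype G] in
theorem tw_inv (x : ↥D.S) (θ : ↥D.K →* ℂˣ) : D.tw x θ⁻¹ = (D.tw x θ)⁻¹ := rfl

omit [Fintype G] in
theorem tw_triv (x : ↥D.S) : D.tw x (1 : ↥D.K →* ℂˣ) = 1 := rfl

omit [Fintype G] in
theorem tw_of_mem {x : ↥D.S} (hx : (x : G) ∈ D.K) (θ : ↥D.K →* ℂˣ) : D.tw x θ = θ := by
  refine MonoidHom.ext fun k => ?_
  rw [D.tw_apply x θ k ((⟨x, hx⟩ : ↥D.K)⁻¹ * k * ⟨x, hx⟩) (by simp), map_mul, map_mul, map_inv,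
    mul_comm (θ ⟨x, hx⟩)⁻¹, inv_mul_cancel_right]

omit [Fintype G] in
theorem tw_inj (x : ↥D.S) {θ θ' : ↥D.K →* ℂˣ} (h : D.tw x θ = D.tw x θ') : θ = θ' := by
  have := congrArg (D.tw x⁻¹) h
  rwa [← D.tw_tw, ← D.tw_tw, inv_mul_cancel, D.tw_id, D.tw_id] at this

omit [Fintype G] in
theorem ext_of_mem (θ : ↥D.K →* ℂˣ) (hfix : ∀ w : ↥D.S, (w : G) ∈ D.W₁ → D.tw w θ = θ)
    {h : ↥D.H} (k : ↥D.K) (e : (h : G) = k) : D.ext θ hfix h = θ k :=
  congrArg θ (D.projK_eq (one_mem _) (by rw [e, mul_one]))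

omit [Fintype G] in
theorem ext_of_W₁ (θ : ↥D.K →* ℂˣ) (hfix : ∀ w : ↥D.S, (w : G) ∈ D.W₁ → D.tw w θ = θ)
    {h : ↥D.H} (hw : (h : G) ∈ D.W₁) : D.ext θ hfix h = 1 := by
  show θ _ = 1
  rw [D.projK_eq (k := 1) hw (by simp), map_one]

/-- The projection of `H` onto `W₁`. -/
noncomputable def projW : ↥D.H →* ↥D.W₁ where
  toFun h := ⟨((D.projK h : ↥D.K) : G)⁻¹ * h, by
    obtain ⟨k, hk, w, hw, e⟩ := D.exists_decomp h.2
    rw [D.projK_eq (k := ⟨k, hk⟩) hw e, e]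
    simpa using hw⟩
  map_one' := Subtype.ext (by
    show ((D.projK 1 : ↥D.K) : G)⁻¹ * (1 : G) = 1
    rw [D.projK_eq (h := 1) (k := 1) (w := 1) (one_mem _) (by simp)]; simp)
  map_mul' a b := by
    obtain ⟨k, hk, w, hw, ea⟩ := D.exists_decomp a.2
    obtain ⟨k', hk', w', hw', eb⟩ := D.exists_decomp b.2
    have hc : w * k' * w⁻¹ ∈ D.K := D.K_normal w (D.W₁_le hw) k' hk'
    refine Subtype.ext ?_
    show ((D.projK (a * b) : ↥D.K) : G)⁻¹ * ((a : G) * b)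
      = ((D.projK a : ↥D.K) : G)⁻¹ * a * (((D.projK b : ↥D.K) : G)⁻¹ * b)
    rw [D.projK_eq (h := a * b) (k := ⟨k, hk⟩ * ⟨w * k' * w⁻¹, hc⟩) (mul_mem hw hw') (by
        rw [Subgroup.coe_mul, ea, eb, Subgroup.coe_mul]; group),
      D.projK_eq (k := ⟨k, hk⟩) hw ea, D.projK_eq (k := ⟨k', hk'⟩) hw' eb, Subgroup.coe_mul,
      ea, eb]
    group

omit [Fintype G] in
theorem coe_projW (h : ↥D.H) : ((D.projW h : ↥D.W₁) : G) = ((D.projK h : ↥D.K) : G)⁻¹ * h := rfl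

omit [Fintype G] in
theorem projK_mul_projW (h : ↥D.H) :
    (h : G) = ((D.projK h : ↥D.K) : G) * (D.projW h : ↥D.W₁) := by
  rw [coe_projW, mul_inv_cancel_left]

/-- A character of `W₁ W₂` read on `H` through the projection onto `W₁`. -/
noncomputable def extW (φ : ↥(D.W₁ ⊔ D.W₂) →* ℂˣ) : ↥D.H →* ℂˣ :=
  (φ.comp (Subgroup.inclusion le_sup_left)).comp D.projW

omit [Fintype G] in
theorem extW_of_K (φ : ↥(D.W₁ ⊔ D.W₂) →* ℂˣ) {h : ↥D.H} (hk : (h : G) ∈ D.K) :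
    D.extW φ h = 1 := by
  have : D.projW h = 1 := Subtype.ext (by
    rw [coe_projW, D.projK_eq (k := ⟨h, hk⟩) (w := 1) (one_mem _) (by simp)]
    simp)
  show φ _ = 1
  rw [this, map_one, map_one]

omit [Fintype G] in
theorem extW_of_W {φ : ↥(D.W₁ ⊔ D.W₂) →* ℂˣ} (hφ : H43.TrivR φ) (w : ↥(D.W₁ ⊔ D.W₂)) :
    D.extW φ ⟨w, D.W_le_H w.2⟩ = φ w := by
  obtain ⟨a, b, ha, hb, rfl⟩ := H43.exists_mul_decomp D.hW w
  have : D.projW ⟨((a * b : ↥(D.W₁ ⊔ D.W₂)) : G), D.W_le_H (a * b).2⟩ = ⟨a, ha⟩ := Subtype.ext (by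
    rw [coe_projW, D.projK_eq (k := ⟨b, D.W₂_le hb⟩) ha (by
      show (a : G) * b = b * a
      exact D.hW.2.2.2.1 _ ha _ hb)]
    show (b : G)⁻¹ * (a * b) = a
    rw [D.hW.2.2.2.1 _ ha _ hb, inv_mul_cancel_left])
  show φ _ = _
  rw [this, map_mul, hφ b hb, mul_one]
  rfl

omit [Fintype G] in
theorem card_H [Finite G] : Nat.card D.H = Nat.card D.W₁ * Nat.card D.K := by
  rw [mul_comm, ← Nat.card_prod]
  refine (Nat.card_eq_of_bijective (fun x : ↥D.K × ↥D.W₁ =>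
    (⟨(x.1 : G) * x.2, mul_mem (D.K_le_H x.1.2) (D.W₁_le_H x.2.2)⟩ : ↥D.H)) ⟨?_, fun h => ?_⟩).symm
  · intro x y e
    obtain ⟨e1, e2⟩ := D.decomp_unique x.1.2 y.1.2 x.2.2 y.2.2 (congrArg Subtype.val e)
    exact Prod.ext (Subtype.ext e1) (Subtype.ext e2)
  · exact ⟨(D.projK h, D.projW h), Subtype.ext (D.projK_mul_projW h).symm⟩

omit [Fintype G] in
theorem mem_W₁_of_pow [Finite G] {w : G} (hw : w ∈ D.W₁ ⊔ D.W₂) (h : w ^ Nat.card D.W₁ = 1) :
    w ∈ D.W₁ := by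
  obtain ⟨a, b, ha, hb, e⟩ := H43.exists_mul_decomp D.hW ⟨w, hw⟩
  have e' : w = (a : G) * b := congrArg Subtype.val e
  have hc : Commute (a : G) b := D.hW.2.2.2.1 _ ha _ hb
  have haq : (a : G) ^ Nat.card D.W₁ = 1 := congrArg Subtype.val
    (pow_card_eq_one' (x := (⟨a, ha⟩ : D.W₁)))
  rw [e', hc.mul_pow, haq, one_mul] at h
  rw [e', orderOf_eq_one_iff.1 (Nat.eq_one_of_dvd_coprimes D.coprime (orderOf_dvd_of_pow_eq_one h)
    (Subgroup.orderOf_dvd_natCard D.W₂ hb)), mul_one]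
  exact ha

/-- The average over `S` of a function on `H`. -/
noncomputable def avg [Fintype ↥D.S] (g : ↥D.H → ℂ) : ↥D.H → ℂ := fun h =>
  (Nat.card D.H : ℂ)⁻¹ * ∑ x : ↥D.S, Cfsg.extendByZero D.H g ((x : G)⁻¹ * h * x)

/-- Outside `K` averaging over `S` changes nothing. -/
theorem avg_outside [Fintype ↥D.S] (g : ↥D.H → ℂ) (hgc : Cfsg.IsClassFunction ↥D.H g)
    (hg1 : ∀ h : ↥D.H, (h : G) ∈ D.W₁ → g h = 0) {h : ↥D.H} (hh : (h : G) ∉ D.K) :
    D.avg g h = g h := by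
  classical
  have key : ∀ x : ↥D.S, Cfsg.extendByZero D.H g ((x : G)⁻¹ * h * x)
      = if (x : G) ∈ D.H then g h else 0 := by
    intro x
    by_cases hx : (x : G) ∈ D.H
    · rw [if_pos hx]
      have : ((x : G)⁻¹ * h * x) = ((((⟨x, hx⟩ : ↥D.H)⁻¹ * h * ⟨x, hx⟩ : ↥D.H)) : G) := rfl
      rw [this, extendByZero_coe]
      simpa using hgc h (⟨x, hx⟩ : ↥D.H)⁻¹
    rw [if_neg hx]
    by_cases hy : (x : G)⁻¹ * h * x ∈ D.H
    swap
    · exact extendByZero_of_not_mem _ hy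
    rw [extendByZero_of_mem _ hy]
    by_contra hne
    have hyK : (x : G)⁻¹ * h * x ∉ D.K := fun h' => hh (by
      have := D.K_normal x x.2 _ h'
      simpa [mul_assoc] using this)
    obtain ⟨k, hk, w, hw, hw2, e⟩ := D.exists_conj_W h.2 hh
    obtain ⟨k', hk', w', hw', hw2', e'⟩ := D.exists_conj_W hy hyK
    have hw1' : w' ∉ D.W₁ := fun h1 => hne (by
      rw [← hg1 ⟨w', D.W₁_le_H h1⟩ h1, ← hgc ⟨w', D.W₁_le_H h1⟩ ⟨k', D.K_le_H hk'⟩]
      congr 1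
      exact Subtype.ext (by simp [e']))
    set y := k⁻¹ * (x : G) * k' with hydef
    have hc : y * w' * y⁻¹ = w := by
      have : w' = k'⁻¹ * ((x : G)⁻¹ * (k * w * k⁻¹) * x) * k' := by
        rw [← e, e']; group
      rw [this, hydef]; group
    have hw1 : w ∉ D.W₁ := fun h1 => hw1' (D.mem_W₁_of_pow hw' (by
      have : (y * w' * y⁻¹) ^ Nat.card D.W₁ = 1 := by
        rw [hc]
        exact congrArg Subtype.val (pow_card_eq_one' (x := (⟨w, h1⟩ : D.W₁)))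
      rw [conj_pow] at this
      simpa using this))
    have hyW : y ∈ D.W₁ ⊔ D.W₂ :=
      H43.conj_mem_V D.hW hw' hw1' hw2' (hc ▸ hw) (hc ▸ hw1) (hc ▸ hw2)
    refine hx ?_
    have : (x : G) = k * y * k'⁻¹ := by rw [hydef]; group
    rw [this]
    exact mul_mem (mul_mem (D.K_le_H hk) (D.W_le_H hyW)) (inv_mem (D.K_le_H hk'))
  rw [avg, sum_congr rfl fun x _ => key x, sum_ite, sum_const_zero, add_zero, sum_const,
    nsmul_eq_mul]
  have hcard : (Finset.filter (fun x : ↥D.S => (x : G) ∈ D.H) Finset.univ).card = Nat.card D.H := by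
    rw [← Fintype.card_coe, ← Nat.card_eq_fintype_card]
    exact Nat.card_congr
      { toFun := fun x => (⟨x.1, (mem_filter.1 x.2).2⟩ : ↥D.H)
        invFun := fun h => ⟨⟨h, D.H_le_S h.2⟩, mem_filter.2 ⟨mem_univ _, h.2⟩⟩
        left_inv := fun _ => rfl
        right_inv := fun _ => rfl }
  rw [hcard, ← mul_assoc, inv_mul_cancel₀ (CharInduce.card_ne_zero_complex _), one_mul]

/-- On `A ∩ H` an induced function is the average. -/
theorem indFun_eq_avg [Fintype ↥D.S] (g : ↥D.H → ℂ) (hg : ∀ h : ↥D.H, (h : G) ∉ D.A → g h = 0)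
    (h : ↥D.H) (ha : (h : G) ∈ D.A) : Cfsg.indFun D.H g (h : G) = D.avg g h :=
  D.indFun_on_A g hg ha

/-- The inner product of two functions induced from `H`, vanishing on `W₁`. -/
theorem inner_indH [Fintype ↥D.S] [Fintype ↥D.H] [Fintype ↥D.K] (f g : ↥D.H → ℂ)
    (hf : ∀ h : ↥D.H, (h : G) ∉ D.A → f h = 0) (hg : ∀ h : ↥D.H, (h : G) ∉ D.A → g h = 0)
    (hgc : Cfsg.IsClassFunction ↥D.H g) (hg1 : ∀ h : ↥D.H, (h : G) ∈ D.W₁ → g h = 0) :
    Cfsg.classInner (Cfsg.indFun D.H f) (Cfsg.indFun D.H g) = Cfsg.classInner f g +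
      (Nat.card D.W₁ : ℂ)⁻¹ * ((Nat.card D.H : ℂ)⁻¹ * ∑ x : ↥D.S,
          Cfsg.classInner (fun k : ↥D.K => f ⟨k, D.K_le_H k.2⟩)
            (D.twist x fun k : ↥D.K => g ⟨k, D.K_le_H k.2⟩) -
        Cfsg.classInner (fun k : ↥D.K => f ⟨k, D.K_le_H k.2⟩)
          (fun k : ↥D.K => g ⟨k, D.K_le_H k.2⟩)) := by
  classical
  rw [D.inner_ind f g hf hg]
  change Cfsg.classInner f (D.avg g) = _
  rw [eq_comm, ← eq_sub_iff_add_eq', ← classInner_sub_right]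
  have hpt : ∀ k : ↥D.K, D.avg g ⟨k, D.K_le_H k.2⟩
      = (Nat.card D.H : ℂ)⁻¹ * ∑ x : ↥D.S, D.twist x (fun k : ↥D.K => g ⟨k, D.K_le_H k.2⟩) k := by
    intro k
    rw [avg]
    congr 1
    refine sum_congr rfl fun x _ => ?_
    have hK : (x : G)⁻¹ * k * x ∈ D.K := by
      have := D.K_normal _ (inv_mem x.2) k k.2
      rwa [inv_inv] at this
    rw [twist, extendByZero_of_mem _ hK, extendByZero_of_mem _ (D.K_le_H hK)]
  have h2 : Cfsg.classInner f (D.avg g - g) = (Nat.card D.W₁ : ℂ)⁻¹ *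
      Cfsg.classInner (fun k : ↥D.K => f ⟨k, D.K_le_H k.2⟩)
        (fun k : ↥D.K => (D.avg g - g) ⟨k, D.K_le_H k.2⟩) := by
    rw [classInner_def, classInner_def, ← mul_assoc, ← mul_inv, ← Nat.cast_mul, ← D.card_H]
    congr 1
    symm
    refine Fintype.sum_of_injective (fun k : ↥D.K => (⟨k, D.K_le_H k.2⟩ : ↥D.H))
      (fun a b e => Subtype.ext (congrArg Subtype.val e :)) _ _ ?_ fun k => rfl
    intro h hh
    have hK : (h : G) ∉ D.K := fun h' => hh ⟨⟨h, h'⟩, rfl⟩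
    rw [Pi.sub_apply, D.avg_outside g hgc hg1 hK, sub_self, map_zero, mul_zero]
  rw [h2, ← classInner_sum_right, show (fun k : ↥D.K => (D.avg g - g) ⟨k, D.K_le_H k.2⟩)
      = (Nat.card D.H : ℂ)⁻¹ • ∑ x : ↥D.S, D.twist x (fun k : ↥D.K => g ⟨k, D.K_le_H k.2⟩)
        - fun k : ↥D.K => g ⟨k, D.K_le_H k.2⟩ by
    funext k; simp [hpt k, Finset.sum_apply],
    classInner_sub_right, CharBasic.classInner_smul_right, map_inv₀, map_natCast]


omit [Fintype G] in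
theorem linG_gen (θ : ↥D.K →* ℂˣ) [Fintype ↥D.K] :
    Cfsg.IsGeneralizedCharacter ↥D.K (D.lin θ) := H43.gen_of_irr (CharInduce.isIrrCharacter_hom θ)

/-- Conjugation in `S` does not change what is induced from `K`. -/
theorem indFun_twist (x : ↥D.S) (f : ↥D.K → ℂ) :
    Cfsg.indFun D.K (D.twist x f) = Cfsg.indFun D.K f := by
  funext a
  simp only [indFun_apply]
  congr 1
  refine Fintype.sum_equiv (Equiv.mulRight (x : G)) _ _ fun y => ?_
  by_cases h : y⁻¹ * a * y ∈ D.K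
  · rw [extendByZero_of_mem _ h, twist]
    simp [mul_assoc]
  · rw [extendByZero_of_not_mem _ h, extendByZero_of_not_mem]
    intro h'
    refine h ?_
    have := D.K_normal x x.2 _ h'
    simpa [mul_assoc] using this

/-- A class function on `H` vanishing on `K` and on `W₁` induces like its restriction to `W₁ W₂`. -/
theorem indFun_eq_indW [Fintype ↥D.H] [Fintype ↥(D.W₁ ⊔ D.W₂)] (f : ↥D.H → ℂ)
    (hfc : Cfsg.IsClassFunction ↥D.H f) (hfK : ∀ h : ↥D.H, (h : G) ∈ D.K → f h = 0)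
    (hf1 : ∀ h : ↥D.H, (h : G) ∈ D.W₁ → f h = 0) :
    Cfsg.indFun D.H f = Cfsg.indFun (D.W₁ ⊔ D.W₂) (fun w => f ⟨w, D.W_le_H w.2⟩) := by
  classical
  suffices hall : ∀ F : G → ℂ, Cfsg.IsClassFunction G F →
      Cfsg.classInner (Cfsg.indFun D.H f) F =
        Cfsg.classInner (Cfsg.indFun (D.W₁ ⊔ D.W₂) fun w => f ⟨w, D.W_le_H w.2⟩) F by
    have hc : ∀ F : G → ℂ, Cfsg.IsClassFunction G F → Cfsg.classInner (Cfsg.indFun D.H f
        - Cfsg.indFun (D.W₁ ⊔ D.W₂) fun w => f ⟨w, D.W_le_H w.2⟩) F = 0 := fun F hF => by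
      rw [classInner_sub_left, hall F hF, sub_self]
    refine sub_eq_zero.1 (classInner_self_eq_zero.1 (hc _ fun a b => ?_))
    show Cfsg.indFun D.H f _ - Cfsg.indFun _ _ _ = Cfsg.indFun D.H f _ - Cfsg.indFun _ _ _
    rw [isClassFunction_indFun _ _ a b, isClassFunction_indFun _ _ a b]
  intro F hF
  rw [classInner_indFun_left _ _ _ hF, classInner_indFun_left _ _ _ hF, classInner_def,
    classInner_def]
  have : Fintype ↥D.K := Fintype.ofFinite _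
  set w2 := Nat.card D.W₂ with hw2
  let T : ↥D.H → ℂ := fun h => f h * conj (F h)
  have hT : Cfsg.IsClassFunction ↥D.H T := fun g h => by
    simp only [T, Subgroup.coe_mul, Subgroup.coe_inv, hF (g : G) (h : G), hfc g h]
  let Φ : ↥D.K × ↥(D.W₁ ⊔ D.W₂) → ↥D.H := fun p =>
    (⟨p.1, D.K_le_H p.1.2⟩ : ↥D.H) * ⟨p.2, D.W_le_H p.2.2⟩ * (⟨p.1, D.K_le_H p.1.2⟩ : ↥D.H)⁻¹
  have hV : ∀ h : ↥D.H, T h ≠ 0 → ∀ p, Φ p = h →
      (p.2 : G) ∉ D.W₁ ∧ (p.2 : G) ∉ D.W₂ := by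
    intro h hh p hp
    have hf : f ⟨p.2, D.W_le_H p.2.2⟩ ≠ 0 := fun e => hh (by
      rw [← hp]
      show T _ = 0
      rw [hT ⟨p.2, D.W_le_H p.2.2⟩ ⟨p.1, D.K_le_H p.1.2⟩]
      show f _ * _ = 0
      rw [e, zero_mul])
    exact ⟨fun h1 => hf (hf1 _ h1), fun h2 => hf (hfK _ (D.W₂_le h2))⟩
  have hfib : ∀ h : ↥D.H, T h ≠ 0 →
      (Finset.univ.filter fun p => Φ p = h).card = w2 := by
    intro h hh
    have hhK : (h : G) ∉ D.K := fun h' => hh (by simp [T, hfK h h'])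
    obtain ⟨k, hk, w, hw, -, e⟩ := D.exists_conj_W h.2 hhK
    have hp : Φ (⟨k, hk⟩, ⟨w, hw⟩) = h := Subtype.ext e.symm
    obtain ⟨hw1, hw2'⟩ := hV h hh _ hp
    rw [← Fintype.card_coe, ← Nat.card_eq_fintype_card, hw2]
    refine (Nat.card_eq_of_bijective (fun c : ↥D.W₂ => (⟨(⟨k * c, mul_mem hk (D.W₂_le c.2)⟩, ⟨w, hw⟩),
      mem_filter.2 ⟨mem_univ _, ?_⟩⟩ : {p // p ∈ Finset.univ.filter fun p => Φ p = h})) ⟨?_, ?_⟩).symm
    · refine Subtype.ext ?_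
      show k * (c : G) * w * (k * c)⁻¹ = h
      rw [mul_assoc k (c : G) w, H43.mem_normalizer_sup D.hW.2.2.2.2.1
        (Subgroup.mem_sup_right c.2) hw, e]
      group
    · intro a b e'
      exact Subtype.ext (mul_left_cancel
        (congrArg (fun p => ((p.1 : ↥D.K) : G)) (congrArg Subtype.val e')))
    · rintro ⟨⟨⟨k', hk'⟩, ⟨w', hw'⟩⟩, hp'⟩
      have e' : k' * w' * k'⁻¹ = k * w * k⁻¹ :=
        (congrArg Subtype.val (mem_filter.1 hp').2).trans e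
      have hc : k⁻¹ * k' * w' * (k⁻¹ * k')⁻¹ = w := by
        calc k⁻¹ * k' * w' * (k⁻¹ * k')⁻¹ = k⁻¹ * (k' * w' * k'⁻¹) * k := by group
          _ = w := by rw [e']; group
      obtain ⟨hw1', hw2''⟩ := hV h hh _ (mem_filter.1 hp').2
      have hy : k⁻¹ * k' ∈ D.W₁ ⊔ D.W₂ :=
        H43.conj_mem_V D.hW hw' hw1' hw2'' (hc ▸ hw) (hc ▸ hw1) (hc ▸ hw2')
      have hy2 : k⁻¹ * k' ∈ D.W₂ := by
        obtain ⟨a, b, ha, hb, eab⟩ := H43.exists_mul_decomp D.hW ⟨_, hy⟩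
        have eab' : k⁻¹ * k' = (a : G) * b := congrArg Subtype.val eab
        have haK : (a : G) ∈ D.K ⊓ D.W₁ := Subgroup.mem_inf.2 ⟨by
          rw [show (a : G) = k⁻¹ * k' * (b : G)⁻¹ by rw [eab', mul_inv_cancel_right]]
          exact mul_mem (mul_mem (inv_mem hk) hk') (inv_mem (D.W₂_le hb)), ha⟩
        rw [D.inf_eq, Subgroup.mem_bot] at haK
        rw [eab', haK, one_mul]
        exact hb
      have hww : w' = w := by
        rw [← hc, H43.mem_normalizer_sup D.hW.2.2.2.2.1 hy hw', mul_inv_cancel_right]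
      exact ⟨⟨_, hy2⟩, Subtype.ext (Prod.ext (Subtype.ext (mul_inv_cancel_left k k'))
        (Subtype.ext hww.symm))⟩
  have hsum : ∑ p, T (Φ p) = (w2 : ℂ) * ∑ h, T h := by
    rw [← Finset.sum_fiberwise Finset.univ Φ (fun p => T (Φ p)), mul_sum]
    refine sum_congr rfl fun h _ => ?_
    rw [sum_congr rfl fun p hp => show T (Φ p) = T h by rw [(mem_filter.1 hp).2], sum_const,
      nsmul_eq_mul]
    by_cases hh : T h = 0
    · rw [hh, mul_zero, mul_zero]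
    · rw [hfib h hh]
  have hsum' : ∑ p, T (Φ p) = (Nat.card D.K : ℂ) *
      ∑ w : ↥(D.W₁ ⊔ D.W₂), T ⟨w, D.W_le_H w.2⟩ := by
    rw [Fintype.sum_prod_type, Nat.card_eq_fintype_card]
    rw [sum_congr rfl fun k _ => sum_congr rfl fun w _ =>
      (hT ⟨w, D.W_le_H w.2⟩ ⟨k, D.K_le_H k.2⟩ : T (Φ (k, w)) = _)]
    rw [sum_const, card_univ, nsmul_eq_mul]
  show (Nat.card D.H : ℂ)⁻¹ * ∑ h, T h = (Nat.card ↥(D.W₁ ⊔ D.W₂) : ℂ)⁻¹ *
    ∑ w : ↥(D.W₁ ⊔ D.W₂), T ⟨w, D.W_le_H w.2⟩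
  rw [PF3.card_sup D.hW, D.card_H]
  have h0 : (w2 : ℂ) ≠ 0 := CharInduce.card_ne_zero_complex _
  have h1 := CharInduce.card_ne_zero_complex (↥D.K)
  push_cast
  field_simp
  linear_combination hsum.symm.trans hsum'

/-- Where a function induced from a subgroup of `S` can be nonzero. -/
theorem exists_of_indFun_ne {H : Subgroup G} (g : ↥H → ℂ) {a : G}
    (ha : Cfsg.indFun H g a ≠ 0) : ∃ x : G, ∃ h : ↥H, g h ≠ 0 ∧ a = x * h * x⁻¹ := by
  rw [indFun_apply] at ha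
  obtain ⟨x, -, hx⟩ := Finset.exists_ne_zero_of_sum_ne_zero (right_ne_zero_of_mul ha)
  by_cases h : x⁻¹ * a * x ∈ H
  · rw [extendByZero_of_mem _ h] at hx
    exact ⟨x, ⟨_, h⟩, hx, by simp [mul_assoc]⟩
  · exact absurd (extendByZero_of_not_mem _ h) hx


end Side

end Cfsg.Agent.OddOrder.PF14
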