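import Cfsg.Agent.OddOrder.PF14.SideFree

/-!
# Peterfalvi section 14: test vectors on one side

For a class function `ξ` with `b θ = ⟨ξ, Ind_K^G (1 − θ)⟩` on an `S`-stable set `Θ` of `n` characters,
`Ind_K^G (∑ c θ (1 − θ))` gives by Bessel the lower bound
`(∑ b² − (∑ b)² / (n + 1)) / |S : K|` for the part of the norm of `ξ` on conjugates of `K ∖ N₀`,
and with `∑ c = 0` the bound `(∑ b² − (∑ b)² / n) / |S : K|`.
-/

set_option autoImplicit false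

namespace Cfsg.Agent.OddOrder.PF14

open Cfsg.Agent Cfsg.Agent.CharBasic Cfsg.Agent.CharInduce Finset
open scoped ComplexConjugate

universe u

/-- The best coefficients. -/
theorem quad_value {ι : Type*} (Θ : Finset ι) (b : ι → ℝ) (m : ℝ) (N : ℝ) (hN : N ≠ 0) :
    2 * ∑ θ ∈ Θ, (b θ - m) / N * b θ
        - N * ((∑ θ ∈ Θ, (b θ - m) / N) ^ 2 + ∑ θ ∈ Θ, ((b θ - m) / N) ^ 2) =
      (∑ θ ∈ Θ, b θ ^ 2 - (∑ θ ∈ Θ, b θ - (Θ.card : ℝ) * m) ^ 2 - (Θ.card : ℝ) * m ^ 2) / N := by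
  have e1 : ∑ θ ∈ Θ, (b θ - m) / N * b θ
      = (∑ θ ∈ Θ, b θ ^ 2 - m * ∑ θ ∈ Θ, b θ) / N := by
    rw [mul_sum, ← sum_sub_distrib, sum_div]
    exact sum_congr rfl fun θ _ => by ring
  have e2 : ∑ θ ∈ Θ, (b θ - m) / N = (∑ θ ∈ Θ, b θ - (Θ.card : ℝ) * m) / N := by
    rw [← sum_div, sum_sub_distrib, sum_const, nsmul_eq_mul]
  have e3 : ∑ θ ∈ Θ, ((b θ - m) / N) ^ 2 =
      (∑ θ ∈ Θ, b θ ^ 2 - 2 * m * ∑ θ ∈ Θ, b θ + (Θ.card : ℝ) * m ^ 2) / N ^ 2 := by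
    rw [mul_sum, ← sum_sub_distrib, ← nsmul_eq_mul, ← sum_const, ← sum_add_distrib, sum_div]
    exact sum_congr rfl fun θ _ => by ring
  rw [e1, e2, e3]
  field_simp
  ring

/-- Value for a constant `b`. -/
theorem value_const {ι : Type*} (Θ : Finset ι) (b : ι → ℤ) (z : ℤ) (hb : ∀ θ ∈ Θ, b θ = z) :
    ∑ θ ∈ Θ, (b θ : ℝ) ^ 2 - (∑ θ ∈ Θ, (b θ : ℝ)) ^ 2 / ((Θ.card : ℝ) + 1) =
      (z : ℝ) ^ 2 * ((Θ.card : ℝ) / ((Θ.card : ℝ) + 1)) := by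
  rw [sum_congr rfl fun θ hθ => by rw [hb θ hθ], sum_const,
    sum_congr rfl fun θ hθ => by rw [hb θ hθ], sum_const, nsmul_eq_mul, nsmul_eq_mul]
  field_simp
  ring

theorem sum_exc {ι : Type*} [DecidableEq ι] (Θ O : Finset ι) (hO : O ⊆ Θ) (b : ι → ℤ) (K ε : ℤ)
    (hε : ε * ε = 1) (hb : ∀ θ ∈ Θ, b θ = K + if θ ∈ O then ε else 0) :
    ∑ θ ∈ Θ, (b θ : ℝ) = (Θ.card : ℝ) * K + (O.card : ℝ) * ε ∧
      ∑ θ ∈ Θ, (b θ : ℝ) ^ 2 = (Θ.card : ℝ) * (K : ℝ) ^ 2 + (O.card : ℝ) * (2 * K * ε + 1) := by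
  have hε' : (ε : ℝ) * ε = 1 := by exact_mod_cast hε
  have h1 : ∀ θ ∈ Θ, (b θ : ℝ) = K + if θ ∈ O then (ε : ℝ) else 0 := fun θ hθ => by
    rw [hb θ hθ]; split_ifs <;> push_cast <;> ring
  have h2 : ∀ θ ∈ Θ, (b θ : ℝ) ^ 2 = (K : ℝ) ^ 2 + if θ ∈ O then 2 * (K : ℝ) * ε + 1 else 0 :=
    fun θ hθ => by rw [h1 θ hθ]; split_ifs <;> first | linear_combination hε' | ring
  refine ⟨?_, ?_⟩
  · rw [sum_congr rfl h1, sum_add_distrib, sum_const, nsmul_eq_mul, ← sum_filter,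
      filter_mem_eq_inter, inter_eq_right.2 hO, sum_const, nsmul_eq_mul]
  · rw [sum_congr rfl h2, sum_add_distrib, sum_const, nsmul_eq_mul, ← sum_filter,
      filter_mem_eq_inter, inter_eq_right.2 hO, sum_const, nsmul_eq_mul]

/-- Value for an exceptional set `O`. -/
theorem value_exc {ι : Type*} [DecidableEq ι] (Θ O : Finset ι) (hO : O ⊆ Θ) (b : ι → ℤ) (K ε : ℤ)
    (hε : ε * ε = 1) (hb : ∀ θ ∈ Θ, b θ = K + if θ ∈ O then ε else 0)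
    (h2 : 2 * O.card ≤ Θ.card) :
    (O.card : ℝ) - (O.card : ℝ) ^ 2 / ((Θ.card : ℝ) + 1) ≤
      ∑ θ ∈ Θ, (b θ : ℝ) ^ 2 - (∑ θ ∈ Θ, (b θ : ℝ)) ^ 2 / ((Θ.card : ℝ) + 1) := by
  obtain ⟨e1, e2⟩ := sum_exc Θ O hO b K ε hε hb
  have hε' : (ε : ℝ) * ε = 1 := by exact_mod_cast hε
  have h2' : 2 * (O.card : ℝ) ≤ (Θ.card : ℝ) := by exact_mod_cast h2
  have hkey : 0 ≤ (Θ.card : ℝ) * (K : ℝ) ^ 2 + 2 * (O.card : ℝ) * (K * ε) := by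
    have habs : |(K : ℝ)| ≤ (K : ℝ) ^ 2 := by
      rcases eq_or_ne K 0 with rfl | hK
      · simp
      · have h : (1 : ℝ) ≤ |(K : ℝ)| := by exact_mod_cast Int.one_le_abs hK
        nlinarith [sq_abs (K : ℝ)]
    have hKe : -|(K : ℝ)| ≤ (K : ℝ) * ε := by
      have : |(K : ℝ) * ε| = |(K : ℝ)| := by
        rw [abs_mul]
        rcases mul_self_eq_one_iff.1 hε' with h | h <;> simp [h]
      exact this ▸ neg_abs_le _
    nlinarith [abs_nonneg (K : ℝ), mul_le_mul_of_nonneg_left hKe (show (0 : ℝ) ≤ O.card by positivity)]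
  rw [e1, e2, sub_div' (show (Θ.card : ℝ) + 1 ≠ 0 by positivity),
    sub_div' (show (Θ.card : ℝ) + 1 ≠ 0 by positivity)]
  refine div_le_div_of_nonneg_right ?_ (by positivity)
  have : (ε : ℝ) ^ 2 = 1 := by rw [sq]; exact hε'
  nlinarith

/-- Value with coefficient sum zero. -/
theorem value_exc₀ {ι : Type*} [DecidableEq ι] (Θ O : Finset ι) (hO : O ⊆ Θ) (b : ι → ℤ) (K ε : ℤ)
    (hε : ε * ε = 1) (hb : ∀ θ ∈ Θ, b θ = K + if θ ∈ O then ε else 0) (hne : Θ.Nonempty) :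
    ∑ θ ∈ Θ, (b θ : ℝ) ^ 2 - (∑ θ ∈ Θ, (b θ : ℝ)) ^ 2 / (Θ.card : ℝ) =
      (O.card : ℝ) - (O.card : ℝ) ^ 2 / (Θ.card : ℝ) := by
  obtain ⟨e1, e2⟩ := sum_exc Θ O hO b K ε hε hb
  have hn : (Θ.card : ℝ) ≠ 0 := by exact_mod_cast hne.card_pos.ne'
  have hε' : (ε : ℝ) ^ 2 = 1 := by rw [sq]; exact_mod_cast hε
  rw [e1, e2]
  field_simp
  linear_combination (-(O.card : ℝ) ^ 2) * hε'

namespace Side

variable {G : Type u} [Group G] (D : Side G) [Fintype G]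

/-- `Ind_K^G (∑ c θ (1 − θ))`. -/
noncomputable def testVec (Θ : Finset (↥D.K →* ℂˣ)) (c : (↥D.K →* ℂˣ) → ℝ) : G → ℂ :=
  ∑ θ ∈ Θ, (c θ : ℂ) • D.bigam θ

/-- An `S`-stable set of nontrivial characters trivial on `N₀`. -/
structure Stable (Θ : Finset (↥D.K →* ℂˣ)) : Prop where
  triv : ∀ θ ∈ Θ, D.Triv θ
  ne_one : ∀ θ ∈ Θ, θ ≠ 1
  tw_mem : ∀ x : ↥D.S, ∀ θ ∈ Θ, D.tw x θ ∈ Θ

variable {Θ : Finset (↥D.K →* ℂˣ)}

/-- Where a test vector lives. -/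
theorem testVec_supp (h : ∀ θ ∈ Θ, D.Triv θ) (c : (↥D.K →* ℂˣ) → ℝ) {a : G}
    (ha : D.testVec Θ c a ≠ 0) : ∃ x : G, ∃ k ∈ D.K, k ∉ D.N₀ ∧ a = x * k * x⁻¹ := by
  simp only [testVec, Finset.sum_apply, Pi.smul_apply] at ha
  obtain ⟨θ, hθ, hne⟩ := exists_ne_zero_of_sum_ne_zero ha
  have hb : D.bigam θ a ≠ 0 := fun e => hne (by simp [e])
  obtain ⟨x, k, hk, rfl⟩ := Side.exists_of_indFun_ne _ hb
  refine ⟨x, k, k.2, fun hn => hk ?_, rfl⟩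
  rw [h θ hθ k hn, Units.val_one, sub_self]

theorem bigam_inner [Fintype ↥D.S] {θ θ' : ↥D.K →* ℂˣ} (h : D.Triv θ) (h' : D.Triv θ') (hne : θ ≠ 1)
    (hne' : θ' ≠ 1) :
    Cfsg.classInner (D.bigam θ) (D.bigam θ') = (Nat.card D.K : ℂ)⁻¹ *
      ((Fintype.card ↥D.S : ℂ) + (D.num θ θ' : ℂ)) := by
  classical
  have hs : ∀ η : ↥D.K →* ℂˣ, D.Triv η → ∀ k : ↥D.K, (k : G) ∉ D.A → (1 : ℂ) - (η k : ℂ) = 0 := by
    intro η hη k hk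
    rw [hη k (by_contra fun hn => hk (D.A_mem k k.2 hn)), Units.val_one, sub_self]
  rw [bigam, bigam, D.inner_indK _ _ (hs θ h) (hs θ' h'), ← D.sum_indicator θ θ']
  congr 1
  have key : ∀ x : ↥D.S, Cfsg.classInner (fun k => 1 - (θ k : ℂ))
      (D.twist (x : G) fun k => 1 - (θ' k : ℂ)) = 1 + if θ = D.tw x θ' then 1 else 0 := by
    intro x
    rw [show (fun k => 1 - (θ' k : ℂ)) = (fun _ : ↥D.K => (1 : ℂ)) - D.lin θ' from rfl, twist_sub,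
      twist_one, twist_lin]
    exact inner_one_sub θ _ hne fun e => hne' (D.tw_inj x (e.trans (D.tw_triv x).symm))
  rw [sum_congr rfl fun x _ => key x, sum_add_distrib, sum_const, card_univ, nsmul_eq_mul, mul_one]

/-- The norm of a test vector. -/
theorem testVec_norm (hΘ : D.Stable Θ) (c : (↥D.K →* ℂˣ) → ℝ) :
    (Cfsg.classInner (D.testVec Θ c) (D.testVec Θ c)).re ≤
      (D.K.relIndex D.S : ℝ) * ((∑ θ ∈ Θ, c θ) ^ 2 + ∑ θ ∈ Θ, c θ ^ 2) := by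
  classical
  have : Fintype ↥D.S := Fintype.ofFinite _
  set k := (Nat.card D.K : ℝ) with hk
  have hk0 : (0 : ℝ) < k := Nat.cast_pos.2 Nat.card_pos
  have hS : (Fintype.card ↥D.S : ℝ) = (D.K.relIndex D.S : ℝ) * k := by
    rw [hk, ← Nat.cast_mul, relIndex_mul_card D.K_le, Nat.card_eq_fintype_card]
  have hval : Cfsg.classInner (D.testVec Θ c) (D.testVec Θ c) =
      ((k⁻¹ * ((Fintype.card ↥D.S : ℝ) * (∑ θ ∈ Θ, c θ) ^ 2 +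
        ∑ θ ∈ Θ, ∑ θ' ∈ Θ, c θ * c θ' * (D.num θ θ' : ℝ)) : ℝ) : ℂ) := by
    rw [testVec, classInner_sum_left]
    simp only [classInner_sum_right, classInner_smul_left, classInner_smul_right, Complex.conj_ofReal]
    rw [sum_congr rfl fun θ hθ => sum_congr rfl fun θ' hθ' => by
      rw [D.bigam_inner (hΘ.triv θ hθ) (hΘ.triv θ' hθ') (hΘ.ne_one θ hθ) (hΘ.ne_one θ' hθ')]]
    rw [sq, sum_mul_sum, mul_sum, ← sum_add_distrib, mul_sum, Complex.ofReal_sum]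
    refine sum_congr rfl fun θ _ => ?_
    rw [mul_sum, ← sum_add_distrib, mul_sum, Complex.ofReal_sum]
    refine sum_congr rfl fun θ' _ => ?_
    rw [hk]
    push_cast
    ring
  have hnum : ∑ θ ∈ Θ, ∑ θ' ∈ Θ, c θ * c θ' * (D.num θ θ' : ℝ)
      = ∑ x : ↥D.S, ∑ θ' ∈ Θ, c (D.tw x θ') * c θ' := by
    have e : ∀ θ θ' : ↥D.K →* ℂˣ, (D.num θ θ' : ℝ) = ∑ x : ↥D.S, if θ = D.tw x θ' then (1 : ℝ) else 0 := by
      intro θ θ'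
      rw [sum_boole, num, Nat.card_eq_fintype_card, Fintype.card_subtype]
      congr 2
      exact Finset.ext fun x => by simp [eq_comm]
    rw [sum_comm, eq_comm, sum_comm]
    refine sum_congr rfl fun θ' hθ' => ?_
    simp only [e, mul_sum, mul_ite, mul_one, mul_zero]
    rw [sum_comm]
    refine sum_congr rfl fun x _ => ?_
    rw [sum_ite_eq' Θ (D.tw x θ') (fun θ => c θ * c θ'), if_pos (hΘ.tw_mem x θ' hθ')]
  have hle : ∀ x : ↥D.S, ∑ θ ∈ Θ, c (D.tw x θ) * c θ ≤ ∑ θ ∈ Θ, c θ ^ 2 := by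
    intro x
    have hperm : ∑ θ ∈ Θ, c (D.tw x θ) ^ 2 = ∑ θ ∈ Θ, c θ ^ 2 := by
      refine sum_nbij (D.tw x) (fun θ hθ => hΘ.tw_mem x θ hθ) (fun a _ b _ e => D.tw_inj x e)
        (fun b hb => ⟨D.tw x⁻¹ b, hΘ.tw_mem _ b hb, ?_⟩) fun θ _ => rfl
      rw [← D.tw_tw, mul_inv_cancel, D.tw_id]
    have h1 : ∑ θ ∈ Θ, 2 * (c (D.tw x θ) * c θ) ≤ ∑ θ ∈ Θ, (c (D.tw x θ) ^ 2 + c θ ^ 2) :=
      sum_le_sum fun θ _ => by nlinarith [sq_nonneg (c (D.tw x θ) - c θ)]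
    rw [← mul_sum, sum_add_distrib, hperm] at h1
    linarith
  rw [hval, Complex.ofReal_re, hnum, hS]
  have h2 : ∑ x : ↥D.S, ∑ θ ∈ Θ, c (D.tw x θ) * c θ ≤
      (D.K.relIndex D.S : ℝ) * k * ∑ θ ∈ Θ, c θ ^ 2 := by
    refine (sum_le_sum fun x _ => hle x).trans (le_of_eq ?_)
    rw [sum_const, card_univ, nsmul_eq_mul, hS]
  rw [inv_mul_le_iff₀ hk0]
  linarith

/-- The pairing with a test vector. -/
theorem testVec_inner (ξ : G → ℂ) (b : (↥D.K →* ℂˣ) → ℤ)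
    (hb : ∀ θ ∈ Θ, Cfsg.classInner ξ (D.bigam θ) = (b θ : ℂ)) (c : (↥D.K →* ℂˣ) → ℝ) :
    (Cfsg.classInner ξ (D.testVec Θ c)).re = ∑ θ ∈ Θ, c θ * (b θ : ℝ) := by
  rw [testVec, classInner_sum_right, Complex.re_sum]
  refine sum_congr rfl fun θ hθ => ?_
  rw [classInner_smul_right, hb θ hθ, Complex.conj_ofReal]
  simp

/-- The test vector giving mean and variance together. -/
theorem exists_testVec (hΘ : D.Stable Θ) (ξ : G → ℂ) (b : (↥D.K →* ℂˣ) → ℤ)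
    (hb : ∀ θ ∈ Θ, Cfsg.classInner ξ (D.bigam θ) = (b θ : ℂ)) :
    ∃ c, (∑ θ ∈ Θ, (b θ : ℝ) ^ 2 - (∑ θ ∈ Θ, (b θ : ℝ)) ^ 2 / ((Θ.card : ℝ) + 1)) /
        (D.K.relIndex D.S : ℝ) ≤
      2 * (Cfsg.classInner ξ (D.testVec Θ c)).re -
        (Cfsg.classInner (D.testVec Θ c) (D.testVec Θ c)).re := by
  set N := (D.K.relIndex D.S : ℝ) with hN
  have hN0 : N ≠ 0 := by
    rw [hN, Nat.cast_ne_zero]
    exact Subgroup.FiniteIndex.index_ne_zero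
  refine ⟨fun θ => ((b θ : ℝ) - (∑ θ ∈ Θ, (b θ : ℝ)) / ((Θ.card : ℝ) + 1)) / N, ?_⟩
  rw [D.testVec_inner ξ b hb]
  refine le_trans (le_of_eq ?_) (sub_le_sub_left (D.testVec_norm hΘ _) _)
  rw [quad_value Θ (fun θ => (b θ : ℝ)) _ N hN0]
  congr 1
  field_simp
  ring

/-- The test vector of coefficient sum zero. -/
theorem exists_testVec₀ (hΘ : D.Stable Θ) (hne : Θ.Nonempty) (ξ : G → ℂ) (b : (↥D.K →* ℂˣ) → ℤ)
    (hb : ∀ θ ∈ Θ, Cfsg.classInner ξ (D.bigam θ) = (b θ : ℂ)) :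
    ∃ c, ∑ θ ∈ Θ, c θ = 0 ∧
      (∑ θ ∈ Θ, (b θ : ℝ) ^ 2 - (∑ θ ∈ Θ, (b θ : ℝ)) ^ 2 / (Θ.card : ℝ)) /
        (D.K.relIndex D.S : ℝ) ≤
      2 * (Cfsg.classInner ξ (D.testVec Θ c)).re -
        (Cfsg.classInner (D.testVec Θ c) (D.testVec Θ c)).re := by
  set N := (D.K.relIndex D.S : ℝ) with hN
  have hN0 : N ≠ 0 := by
    rw [hN, Nat.cast_ne_zero]
    exact Subgroup.FiniteIndex.index_ne_zero
  have hn : (Θ.card : ℝ) ≠ 0 := by exact_mod_cast hne.card_pos.ne'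
  refine ⟨fun θ => ((b θ : ℝ) - (∑ θ ∈ Θ, (b θ : ℝ)) / (Θ.card : ℝ)) / N, ?_, ?_⟩
  · rw [← sum_div, sum_sub_distrib, sum_const, nsmul_eq_mul]
    field_simp
    ring
  rw [D.testVec_inner ξ b hb]
  refine le_trans (le_of_eq ?_) (sub_le_sub_left (D.testVec_norm hΘ _) _)
  rw [quad_value Θ (fun θ => (b θ : ℝ)) _ N hN0]
  congr 1
  field_simp
  ring

end Side

end Cfsg.Agent.OddOrder.PF14
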