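import Cfsg.Agent.OddOrder.PF14.Side
import Cfsg.Agent.OddOrder.PF6.Pivot
import Cfsg.Agent.OddOrder.PF12.Parity

/-!
# Peterfalvi section 14: the characters fixed by `W₁` on one side

For a linear character `θ` of `K`, trivial on `N₀` and fixed by `W₁`, the function
`gam θ = Ind_H^G (1 − θ̃)`; `Gam` is what is left after removing `1` and the grid character.
-/

set_option autoImplicit false

namespace Cfsg.Agent.OddOrder.PF14

open Cfsg.Agent Cfsg.Agent.CharBasic Cfsg.Agent.CharInduce Finset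
open scoped ComplexConjugate

universe u

theorem inner_one_hom {X : Type u} [Group X] [Fintype X] (θ : X →* ℂˣ) (h : θ ≠ 1) :
    Cfsg.classInner (fun _ => (1 : ℂ)) (fun x => (θ x : ℂ)) = 0 := by
  have := H43.linear_orth (1 : X →* ℂˣ) θ
  rw [if_neg (Ne.symm h)] at this
  simpa using this

open scoped Classical in
theorem inner_one_sub {X : Type u} [Group X] [Fintype X] (θ η : X →* ℂˣ) (hθ : θ ≠ 1) (hη : η ≠ 1) :
    Cfsg.classInner (fun x => 1 - (θ x : ℂ)) (fun x => 1 - (η x : ℂ)) =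
      1 + if θ = η then 1 else 0 := by
  rw [show (fun x => 1 - (θ x : ℂ)) = (fun _ : X => (1 : ℂ)) - fun x => (θ x : ℂ) from rfl,
    show (fun x => 1 - (η x : ℂ)) = (fun _ : X => (1 : ℂ)) - fun x => (η x : ℂ) from rfl,
    classInner_sub_left, classInner_sub_right, classInner_sub_right, H43.linear_orth θ η,
    inner_one_hom η hη, ← classInner_conj_symm (fun _ => (1 : ℂ)) (fun x => (θ x : ℂ)),
    inner_one_hom θ hθ, classInner_irr_self isIrrCharacter_one, map_zero]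
  ring

theorem relIndex_mul_card {G : Type u} [Group G] [Finite G] {H K : Subgroup G} (h : H ≤ K) :
    H.relIndex K * Nat.card H = Nat.card K := by
  rw [mul_comm, ← Nat.card_congr (Subgroup.subgroupOfEquivOfLe h).toEquiv]
  exact Subgroup.card_mul_index _

namespace Side

variable {G : Type u} [Group G] (D : Side G)

/-- Trivial on `N₀`. -/
def Triv (θ : ↥D.K →* ℂˣ) : Prop := ∀ k : ↥D.K, (k : G) ∈ D.N₀ → θ k = 1

/-- Nontrivial, trivial on `N₀`, fixed by `W₁`. -/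
structure Good (θ : ↥D.K →* ℂˣ) : Prop where
  triv : D.Triv θ
  fix : ∀ w : ↥D.S, (w : G) ∈ D.W₁ → D.tw w θ = θ
  ne_one : θ ≠ 1

/-- The fixed characters have stabiliser `H`, are not conjugate, and there is one. -/
structure Regular : Prop where
  stab : ∀ θ θ', D.Good θ → D.Good θ' → ∀ x : ↥D.S, D.tw x θ = θ' → (x : G) ∈ D.H
  exists_good : ∃ θ, D.Good θ

/-- The extension to `H` as a function. -/
noncomputable def extFun (θ : ↥D.K →* ℂˣ) : ↥D.H → ℂ := fun h => (θ (D.projK h) : ℂ)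

/-- `1 − θ̃`. -/
noncomputable def oneSub (θ : ↥D.K →* ℂˣ) : ↥D.H → ℂ := fun h => 1 - D.extFun θ h

/-- The projection of `W₁ W₂` to `K`. -/
noncomputable def projK₂ : ↥(D.W₁ ⊔ D.W₂) →* ↥D.K where
  toFun w := D.projK ⟨w, D.W_le_H w.2⟩
  map_one' := D.projK_eq (k := 1) (w := 1) (one_mem _) (by simp)
  map_mul' v w := by
    obtain ⟨a, b, ha, hb, rfl⟩ := H43.exists_mul_decomp D.hW v
    obtain ⟨c, d, hc, hd, rfl⟩ := H43.exists_mul_decomp D.hW w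
    have hcom := fun (x y : ↥(D.W₁ ⊔ D.W₂)) =>
      H43.mem_normalizer_sup D.hW.2.2.2.2.1 x.2 y.2
    have e1 := hcom a b
    have e2 := hcom c d
    have e3 := hcom a d
    rw [D.projK_eq (h := ⟨((a * b : ↥(D.W₁ ⊔ D.W₂)) : G), D.W_le_H (a * b).2⟩)
        (k := ⟨b, D.W₂_le hb⟩) ha e1,
      D.projK_eq (h := ⟨((c * d : ↥(D.W₁ ⊔ D.W₂)) : G), D.W_le_H (c * d).2⟩)
        (k := ⟨d, D.W₂_le hd⟩) hc e2,
      D.projK_eq (k := ⟨b, D.W₂_le hb⟩ * ⟨d, D.W₂_le hd⟩) (mul_mem ha hc)]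
    show (a : G) * b * (c * d) = b * d * (a * c)
    rw [e1, e2, mul_assoc, ← mul_assoc (a : G), e3]
    group

/-- The character of `W₁ W₂` belonging to `θ`. -/
noncomputable def psi (θ : ↥D.K →* ℂˣ) : ↥(D.W₁ ⊔ D.W₂) →* ℂˣ := θ.comp D.projK₂

theorem psi_trivL (θ : ↥D.K →* ℂˣ) : H43.TrivL (D.psi θ) := fun w hw => by
  show θ _ = 1
  rw [show D.projK₂ w = 1 from D.projK_eq hw (by simp), map_one]

theorem psi_of_W₂ (θ : ↥D.K →* ℂˣ) (w : ↥(D.W₁ ⊔ D.W₂)) (hw : (w : G) ∈ D.W₂) :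
    D.psi θ w = θ ⟨w, D.W₂_le hw⟩ :=
  congrArg θ (D.projK_eq (one_mem _) (mul_one _).symm)

theorem extFun_W (θ : ↥D.K →* ℂˣ) (w : ↥(D.W₁ ⊔ D.W₂)) :
    D.extFun θ ⟨w, D.W_le_H w.2⟩ = (D.psi θ w : ℂ) := rfl

theorem extFun_K (θ : ↥D.K →* ℂˣ) (h : ↥D.H) (hk : (h : G) ∈ D.K) :
    D.extFun θ h = (θ ⟨h, hk⟩ : ℂ) := by
  show ((θ _ : ℂˣ) : ℂ) = _
  rw [D.projK_eq (k := ⟨h, hk⟩) (one_mem _) (mul_one _).symm]

theorem oneSub_W₁ (θ : ↥D.K →* ℂˣ) (h : ↥D.H) (hw : (h : G) ∈ D.W₁) : D.oneSub θ h = 0 := by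
  show 1 - ((θ _ : ℂˣ) : ℂ) = 0
  rw [D.projK_eq (k := 1) hw (by simp), map_one, Units.val_one, sub_self]

namespace Good

variable {D} {θ θ' : ↥D.K →* ℂˣ}

theorem extFun_eq (hg : D.Good θ) : D.extFun θ = fun h => (D.ext θ hg.fix h : ℂ) := rfl

theorem ext_class (hg : D.Good θ) : Cfsg.IsClassFunction ↥D.H (D.extFun θ) := fun g h => by
  rw [hg.extFun_eq]
  show ((D.ext θ hg.fix (h * g * h⁻¹) : ℂˣ) : ℂ) = _
  rw [map_mul, map_mul, map_inv, mul_comm (D.ext θ hg.fix h), mul_inv_cancel_right]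

theorem oneSub_class (hg : D.Good θ) : Cfsg.IsClassFunction ↥D.H (D.oneSub θ) := fun g h => by
  show 1 - _ = 1 - _
  rw [hg.ext_class g h]

theorem ext_ne_one (hg : D.Good θ) : D.ext θ hg.fix ≠ 1 := fun e => hg.ne_one <| by
  refine MonoidHom.ext fun k => ?_
  rw [← D.ext_of_mem θ hg.fix (h := ⟨k, D.K_le_H k.2⟩) k rfl, e]
  rfl

theorem mem_A_of_K (hg : D.Good θ) (k : ↥D.K) (h : θ k ≠ 1) : (k : G) ∈ D.A :=
  D.A_mem k k.2 fun hn => h (hg.triv k hn)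

/-- `1 − θ̃` is supported in `A`. -/
theorem oneSub_supp [Fintype G] (hg : D.Good θ) (h : ↥D.H) (hA : (h : G) ∉ D.A) :
    D.oneSub θ h = 0 := by
  by_cases hK : (h : G) ∈ D.K
  · show 1 - _ = 0
    rw [D.extFun_K θ h hK, sub_eq_zero]
    by_contra hne
    exact hA (hg.mem_A_of_K ⟨h, hK⟩ fun e => hne (by rw [e, Units.val_one]))
  · obtain ⟨k, hk, w, hw, hw2, e⟩ := D.exists_conj_W h.2 hK
    have he : h = (⟨k, D.K_le_H hk⟩ : ↥D.H) * ⟨w, D.W_le_H hw⟩ * (⟨k, D.K_le_H hk⟩ : ↥D.H)⁻¹ :=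
      Subtype.ext e
    by_cases hw1 : w ∈ D.W₁
    · rw [he, hg.oneSub_class]
      exact D.oneSub_W₁ θ _ hw1
    · exact absurd (e ▸ D.conj_mem k (D.K_le hk) w (D.V_mem w hw hw1 hw2)) hA

theorem psi_ne_one [Fintype G] (hg : D.Good θ) : D.psi θ ≠ 1 := by
  intro e
  refine hg.ne_one (MonoidHom.ext fun k => ?_)
  obtain ⟨w, hw, hw1⟩ := D.W₁.bot_or_exists_ne_one.resolve_left D.hW.1
  set h : ↥D.H := ⟨(k : G) * w, mul_mem (D.K_le_H k.2) (D.W₁_le_H hw)⟩ with hh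
  have hK : (h : G) ∉ D.K := fun h' => hw1 (by
    have hwK : w ∈ D.K ⊓ D.W₁ := Subgroup.mem_inf.2 ⟨by
      have := mul_mem (inv_mem k.2) h'
      simpa [hh] using this, hw⟩
    rwa [D.inf_eq, Subgroup.mem_bot] at hwK)
  obtain ⟨c, hc, v, hv, -, ev⟩ := D.exists_conj_W h.2 hK
  have hv' : D.extFun θ h = 1 := by
    rw [show h = (⟨c, D.K_le_H hc⟩ : ↥D.H) * ⟨v, D.W_le_H hv⟩ * (⟨c, D.K_le_H hc⟩ : ↥D.H)⁻¹ from
      Subtype.ext ev, hg.ext_class, D.extFun_W θ ⟨v, hv⟩, e]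
    rfl
  have : ((θ k : ℂˣ) : ℂ) = 1 := by
    rw [← hv']
    show ((θ k : ℂˣ) : ℂ) = ((θ _ : ℂˣ) : ℂ)
    rw [D.projK_eq (h := h) hw rfl]
  exact Units.ext this

theorem mul_inv_fix (hg : D.Good θ) (hg' : D.Good θ') (hne : θ ≠ θ') : D.Good (θ * θ'⁻¹) where
  triv k hk := by simp [hg.triv k hk, hg'.triv k hk]
  fix w hw := by rw [D.tw_mul, D.tw_inv, hg.fix w hw, hg'.fix w hw]
  ne_one e := hne (mul_inv_eq_one.1 e)

theorem psi_inj [Fintype G] (hg : D.Good θ) (hg' : D.Good θ') (e : D.psi θ = D.psi θ') : θ = θ' := by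
  by_contra hne
  refine (hg.mul_inv_fix hg' hne).psi_ne_one (MonoidHom.ext fun w => ?_)
  have := DFunLike.congr_fun e w
  simp only [psi, MonoidHom.comp_apply] at this
  simp [psi, this]

theorem aut (hg : D.Good θ) (σ : ℂ ≃+* ℂ) : D.Good ((Units.map (σ : ℂ →* ℂ)).comp θ) where
  triv k hk := by simp [hg.triv k hk]
  fix w hw := MonoidHom.ext fun k => congrArg (Units.map (σ : ℂ →* ℂ))
    (DFunLike.congr_fun (hg.fix w hw) k)
  ne_one e := hg.ne_one <| MonoidHom.ext fun k => Units.map_injective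
    (show Function.Injective (σ : ℂ →* ℂ) from σ.injective)
    (by simpa using DFunLike.congr_fun e k)

theorem tw_of_H (hg : D.Good θ) (x : ↥D.S) (hx : (x : G) ∈ D.H) : D.tw x θ = θ := by
  obtain ⟨k, hk, w, hw, e⟩ := D.exists_decomp hx
  have : x = (⟨k, D.K_le hk⟩ : ↥D.S) * ⟨w, D.W₁_le hw⟩ := Subtype.ext e
  rw [this, D.tw_tw, hg.fix _ hw, D.tw_of_mem hk]

end Good

variable [Fintype G]

/-- `Ind_H^G (1 − θ̃)`. -/
noncomputable def gam (θ : ↥D.K →* ℂˣ) : G → ℂ := Cfsg.indFun D.H (D.oneSub θ)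

/-- `Ind_K^G (1 − θ)`. -/
noncomputable def bigam (θ : ↥D.K →* ℂˣ) : G → ℂ :=
  Cfsg.indFun D.K (fun k => 1 - (θ k : ℂ))

variable (χ : (↥(D.W₁ ⊔ D.W₂) →* ℂˣ) → (G → ℂ))

/-- `gam θ − 1 + η_θ`. -/
noncomputable def Gam (θ : ↥D.K →* ℂˣ) : G → ℂ := D.gam θ - (fun _ => 1) + χ (D.psi θ)

variable {χ} {θ θ' : ↥D.K →* ℂˣ}

theorem gam_gen (hg : D.Good θ) : Cfsg.IsGeneralizedCharacter G (D.gam θ) := by
  classical
  refine IsGen.ind D.H ?_
  rw [show D.oneSub θ = (fun _ => (1 : ℂ)) - fun h => (D.ext θ hg.fix h : ℂ) from rfl]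
  exact H43.gen_sub (H43.gen_of_irr isIrrCharacter_one)
    (H43.gen_of_irr (CharInduce.isIrrCharacter_hom _))

theorem bigam_gen (θ : ↥D.K →* ℂˣ) : Cfsg.IsGeneralizedCharacter G (D.bigam θ) := by
  classical
  refine IsGen.ind D.K ?_
  rw [show (fun k => 1 - (θ k : ℂ)) = (fun _ => (1 : ℂ)) - fun k => (θ k : ℂ) from rfl]
  exact H43.gen_sub (H43.gen_of_irr isIrrCharacter_one)
    (H43.gen_of_irr (CharInduce.isIrrCharacter_hom _))

/-- `gam θ` lives on conjugates of `K ∖ N₀` and of `W₁ W₂ ∖ (W₁ ∪ W₂)`. -/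
theorem gam_supp (hg : D.Good θ) {a : G} (ha : D.gam θ a ≠ 0) :
    (∃ x : G, ∃ k ∈ D.K, k ∉ D.N₀ ∧ a = x * k * x⁻¹) ∨
      ∃ x : G, ∃ w ∈ D.W₁ ⊔ D.W₂, w ∉ D.W₁ ∧ w ∉ D.W₂ ∧ a = x * w * x⁻¹ := by
  obtain ⟨x, h, hh, rfl⟩ := Side.exists_of_indFun_ne _ ha
  by_cases hK : (h : G) ∈ D.K
  · refine Or.inl ⟨x, h, hK, fun hn => hh ?_, rfl⟩
    show 1 - _ = 0
    rw [D.extFun_K θ h hK, hg.triv ⟨h, hK⟩ hn, Units.val_one, sub_self]
  · obtain ⟨k, hk, w, hw, hw2, e⟩ := D.exists_conj_W h.2 hK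
    refine Or.inr ⟨x * k, w, hw, fun hw1 => hh ?_, hw2, by rw [e]; group⟩
    rw [show h = (⟨k, D.K_le_H hk⟩ : ↥D.H) * ⟨w, D.W_le_H hw⟩ * (⟨k, D.K_le_H hk⟩ : ↥D.H)⁻¹ from
      Subtype.ext e, hg.oneSub_class]
    exact D.oneSub_W₁ θ _ hw1

theorem gam_on_W (hg : D.Good θ) (w : ↥(D.W₁ ⊔ D.W₂)) (h1 : (w : G) ∉ D.W₁)
    (h2 : (w : G) ∉ D.W₂) : D.gam θ w = 1 - (D.psi θ w : ℂ) := by
  classical
  have hK : (w : G) ∉ D.K := fun hK => by
    obtain ⟨a, b, ha, hb, e⟩ := H43.exists_mul_decomp D.hW w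
    have e' : (w : G) = a * b := congrArg Subtype.val e
    have : (a : G) ∈ D.K ⊓ D.W₁ := Subgroup.mem_inf.2 ⟨by
      rw [show (a : G) = w * (b : G)⁻¹ by rw [e', mul_inv_cancel_right]]
      exact mul_mem hK (inv_mem (D.W₂_le hb)), ha⟩
    rw [D.inf_eq, Subgroup.mem_bot] at this
    exact h2 (by rw [e', this, one_mul]; exact hb)
  have h := D.indFun_eq_avg (D.oneSub θ) hg.oneSub_supp ⟨w, D.W_le_H w.2⟩ (D.V_mem w w.2 h1 h2)
  rw [D.avg_outside _ hg.oneSub_class (D.oneSub_W₁ θ) (h := ⟨w, D.W_le_H w.2⟩) hK] at h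
  exact h

theorem gam_one (hg : D.Good θ) : Cfsg.classInner (D.gam θ) (fun _ => 1) = 1 := by
  classical
  rw [gam, classInner_indFun_left _ _ _ (fun _ _ => rfl),
    show D.oneSub θ = (fun _ => (1 : ℂ)) - fun h => (D.ext θ hg.fix h : ℂ) from rfl,
    classInner_sub_left, classInner_irr_self isIrrCharacter_one,
    ← classInner_conj_symm (fun _ => (1 : ℂ)) (fun h => (D.ext θ hg.fix h : ℂ)),
    inner_one_hom _ hg.ext_ne_one, map_zero, sub_zero]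

open scoped Classical in
/-- The inner products of the `gam θ`. -/
theorem gam_inner (hD : D.Regular) (hg : D.Good θ) (hg' : D.Good θ') :
    Cfsg.classInner (D.gam θ) (D.gam θ') = 1 + (if θ = θ' then 1 else 0) +
      ((D.H.relIndex D.S : ℂ) - 1) / (Nat.card D.W₁ : ℂ) := by
  classical
  rw [gam, gam, D.inner_indH _ _ hg.oneSub_supp hg'.oneSub_supp hg'.oneSub_class (D.oneSub_W₁ θ')]
  have h1 : Cfsg.classInner (D.oneSub θ) (D.oneSub θ') = 1 + if θ = θ' then 1 else 0 := by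
    refine (inner_one_sub _ _ hg.ext_ne_one hg'.ext_ne_one).trans (congrArg (1 + ·) ?_)
    refine if_congr ⟨fun e => MonoidHom.ext fun k => ?_, fun e => by subst e; rfl⟩ rfl rfl
    rw [← D.ext_of_mem θ hg.fix (h := ⟨k, D.K_le_H k.2⟩) k rfl, e,
      D.ext_of_mem θ' hg'.fix k rfl]
  have hK : ∀ η : ↥D.K →* ℂˣ, (fun k : ↥D.K => D.oneSub η ⟨k, D.K_le_H k.2⟩)
      = fun k => 1 - (η k : ℂ) := fun η => funext fun k => by
    show 1 - _ = _
    rw [D.extFun_K η _ k.2]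
  have htw : ∀ x : ↥D.S, D.twist x (fun k => 1 - (θ' k : ℂ)) =
      fun k => 1 - (D.tw x θ' k : ℂ) := fun x => by
    rw [show (fun k => 1 - (θ' k : ℂ)) = (fun _ : ↥D.K => (1 : ℂ)) - D.lin θ' from rfl,
      twist_sub, twist_one, twist_lin]
    rfl
  have hterm : ∀ x : ↥D.S, Cfsg.classInner (fun k => 1 - (θ k : ℂ))
      (D.twist (x : G) fun k => 1 - (θ' k : ℂ)) = 1 + if θ = θ' ∧ (x : G) ∈ D.H then 1 else 0 := by
    intro x
    rw [htw x, inner_one_sub _ _ hg.ne_one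
      (fun e => hg'.ne_one (D.tw_inj x (e.trans (D.tw_triv x).symm)))]
    refine congrArg (1 + ·) (if_congr ⟨fun e => ?_, fun e => ?_⟩ rfl rfl)
    · have hx := hD.stab θ' θ hg' hg x e.symm
      exact ⟨e.trans (hg'.tw_of_H x hx), hx⟩
    · rw [hg'.tw_of_H x e.2]; exact e.1
  rw [hK θ, hK θ', sum_congr rfl fun x _ => hterm x, inner_one_sub θ θ' hg.ne_one hg'.ne_one, h1]
  have hS : (Fintype.card ↥D.S : ℂ) = (D.H.relIndex D.S : ℂ) * (Nat.card D.H : ℂ) := by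
    rw [← Nat.cast_mul, relIndex_mul_card D.H_le_S, Nat.card_eq_fintype_card]
  have hne := CharInduce.card_ne_zero_complex (↥D.H)
  by_cases e : θ = θ'
  · subst e
    have hcard : ((Finset.univ : Finset ↥D.S).filter fun x : ↥D.S => (x : G) ∈ D.H).card
        = Nat.card D.H := by
      rw [← Fintype.card_coe, ← Nat.card_eq_fintype_card]
      exact Nat.card_congr
        { toFun := fun x => (⟨x.1, (mem_filter.1 x.2).2⟩ : ↥D.H)
          invFun := fun h => ⟨⟨h, D.H_le_S h.2⟩, mem_filter.2 ⟨mem_univ _, h.2⟩⟩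
          left_inv := fun _ => rfl
          right_inv := fun _ => rfl }
    simp only [if_pos, true_and, sum_add_distrib, sum_boole, sum_const, card_univ, nsmul_eq_mul,
      mul_one, hS, hcard]
    field_simp
    ring
  · simp only [e, false_and, if_false, add_zero, sum_const, card_univ, nsmul_eq_mul,
      mul_one, hS]
    field_simp

/-- Two of the `gam θ` differ by grid characters. -/
theorem gam_sub (hD : D.Regular) (hχ : Cfsg.IsCyclicTIFamily D.W₁ D.W₂ χ) (hg : D.Good θ)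
    (hg' : D.Good θ') : D.gam θ' - D.gam θ = χ (D.psi θ) - χ (D.psi θ') := by
  classical
  by_cases e : θ = θ'
  · subst e; simp
  have h := PF3.eq_sub_of_agree D.hW (D.odd.of_dvd_nat (Subgroup.card_subgroup_dvd_card _)) hχ
    (β := D.gam θ' - D.gam θ) (H43.gen_sub (D.gam_gen hg') (D.gam_gen hg)) ?_ (s := 1) (Or.inl rfl)
    (ω := D.psi θ) (ω' := D.psi θ') (fun e' => e (hg.psi_inj hg' e')) ?_
  · rw [h, one_smul]
  · rw [classInner_sub_left, classInner_sub_right, classInner_sub_right, D.gam_inner hD hg hg',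
      D.gam_inner hD hg' hg, D.gam_inner hD hg hg, D.gam_inner hD hg' hg', if_neg e,
      if_neg (Ne.symm e), if_pos rfl, if_pos rfl]
    ring
  · intro w h1 h2
    show D.gam θ' w - D.gam θ w = _
    rw [D.gam_on_W hg w h1 h2, D.gam_on_W hg' w h1 h2]
    ring

theorem Gam_eq (hD : D.Regular) (hχ : Cfsg.IsCyclicTIFamily D.W₁ D.W₂ χ) (hg : D.Good θ)
    (hg' : D.Good θ') : D.Gam χ θ' = D.Gam χ θ := by
  have h := D.gam_sub hD hχ hg hg'
  funext a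
  have := congrFun h a
  simp only [Gam, Pi.add_apply, Pi.sub_apply] at this ⊢
  linear_combination this

open scoped Classical in
/-- The characters of `W₁ W₂` trivial on `W₂`. -/
noncomputable def rowSet : Finset (↥(D.W₁ ⊔ D.W₂) →* ℂˣ) :=
  haveI := Fintype.ofFinite (↥(D.W₁ ⊔ D.W₂) →* ℂˣ)
  Finset.univ.filter fun φ => ∀ w ∈ D.W₂.subgroupOf (D.W₁ ⊔ D.W₂), φ w = 1

theorem mem_rowSet {φ : ↥(D.W₁ ⊔ D.W₂) →* ℂˣ} :
    φ ∈ D.rowSet ↔ H43.TrivR φ := by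
  classical
  rw [rowSet, mem_filter, H43.TrivR]
  simp only [mem_univ, true_and, Subgroup.mem_subgroupOf]

theorem card_rowSet : D.rowSet.card = Nat.card D.W₁ := by
  rw [← (PF3.card_trivR_trivL D.hW).1, ← Fintype.card_coe, ← Nat.card_eq_fintype_card]
  exact Nat.card_congr (Equiv.subtypeEquivRight fun φ => D.mem_rowSet)

variable (χ) in
/-- The sum of a column of the grid. -/
noncomputable def col (ψ : ↥(D.W₁ ⊔ D.W₂) →* ℂˣ) : G → ℂ := ∑ φ ∈ D.rowSet, χ (φ * ψ)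

/-- `Ind_H^G` of a twisted `1 − θ̃`. -/
theorem indFun_extW_mul (hχ : Cfsg.IsCyclicTIFamily D.W₁ D.W₂ χ) (hg : D.Good θ)
    {φ : ↥(D.W₁ ⊔ D.W₂) →* ℂˣ} (hφ : H43.TrivR φ) :
    Cfsg.indFun D.H (fun h => (D.extW φ h : ℂ) * D.oneSub θ h) =
      D.gam θ - (fun _ => 1) + χ φ + χ (D.psi θ) - χ (φ * D.psi θ) := by
  classical
  by_cases h1 : φ = 1
  · subst h1
    rw [one_mul (D.psi θ), hχ.map_one, sub_add_cancel, add_sub_cancel_right, gam]
    congr 1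
    funext h
    simp [extW]
  set f : ↥D.H → ℂ := fun h => (D.extW φ h : ℂ) * D.oneSub θ h - D.oneSub θ h with hf
  have hfc : Cfsg.IsClassFunction ↥D.H f := fun g h => by
    simp only [hf]
    rw [map_mul, map_mul, map_inv, mul_comm (D.extW φ h), mul_inv_cancel_right, hg.oneSub_class g h]
  have h := D.indFun_eq_indW f hfc (fun h hh => by simp [hf, D.extW_of_K φ hh]) fun h hh => by
    simp [hf, D.oneSub_W₁ θ h hh]
  have hfW : (fun w : ↥(D.W₁ ⊔ D.W₂) => f ⟨w, D.W_le_H w.2⟩) =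
      -(fun w => 1 - (φ w : ℂ) - (D.psi θ w : ℂ) + (φ w : ℂ) * (D.psi θ w : ℂ)) := by
    funext w
    show (D.extW φ ⟨w, D.W_le_H w.2⟩ : ℂ) * (1 - D.extFun θ ⟨w, D.W_le_H w.2⟩)
      - (1 - D.extFun θ ⟨w, D.W_le_H w.2⟩) = -_
    rw [D.extW_of_W hφ w, D.extFun_W]
    ring
  rw [hfW, CharInduce.indFun_neg, hχ.induced_eq φ (D.psi θ) h1 hg.psi_ne_one hφ (D.psi_trivL θ),
    show f = (fun h => (D.extW φ h : ℂ) * D.oneSub θ h) - D.oneSub θ from rfl,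
    CharInduce.indFun_sub, ← gam] at h
  funext a
  have ha := congrFun h a
  simp only [Pi.sub_apply, Pi.add_apply, Pi.neg_apply] at ha ⊢
  linear_combination ha

/-- `Ind_K^G (1 − θ)` on the grid. -/
theorem bigam_eq (hχ : Cfsg.IsCyclicTIFamily D.W₁ D.W₂ χ) (hg : D.Good θ) :
    D.bigam θ = (Nat.card D.W₁ : ℂ) • D.Gam χ θ + D.col χ 1 - D.col χ (D.psi θ) := by
  classical
  have : IsCyclic ↥(D.W₁ ⊔ D.W₂) := D.hW.2.2.2.2.1
  have : Fintype (↥(D.W₁ ⊔ D.W₂) →* ℂˣ) := Fintype.ofFinite _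
  have : Fintype ↥D.H := Fintype.ofFinite _
  have hsum : ∀ h : ↥D.H, ∑ φ ∈ D.rowSet, (D.extW φ h : ℂ) =
      if (h : G) ∈ D.K then (Nat.card D.W₁ : ℂ) else 0 := by
    intro h
    by_cases hK : (h : G) ∈ D.K
    · rw [if_pos hK, sum_congr rfl fun φ _ => by rw [D.extW_of_K φ hK, Units.val_one], sum_const,
        nsmul_eq_mul, mul_one, D.card_rowSet]
    · rw [if_neg hK]
      have hn : (Subgroup.inclusion (le_sup_left : D.W₁ ≤ D.W₁ ⊔ D.W₂) (D.projW h)) ∉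
          D.W₂.subgroupOf (D.W₁ ⊔ D.W₂) := fun h2 => hK (by
        have h2' : ((D.projW h : ↥D.W₁) : G) ∈ D.W₁ ⊓ D.W₂ :=
          Subgroup.mem_inf.2 ⟨(D.projW h).2, Subgroup.mem_subgroupOf.1 h2⟩
        rw [D.hW.2.2.1, Subgroup.mem_bot] at h2'
        rw [D.projK_mul_projW h, h2', mul_one]
        exact (D.projK h).2)
      have := H43.sum_linear_trivial_on (D.W₂.subgroupOf (D.W₁ ⊔ D.W₂))
        (Subgroup.inclusion le_sup_left (D.projW h))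
      rw [if_neg hn] at this
      refine Eq.trans ?_ this
      exact sum_congr (Finset.ext fun φ => by simp [rowSet]) fun _ _ => rfl
  have key : Cfsg.indFun D.H (fun h => ∑ φ ∈ D.rowSet, (D.extW φ h : ℂ) * D.oneSub θ h) =
      D.bigam θ := by
    funext a
    rw [bigam, indFun_apply, indFun_apply]
    have e : ∀ x : G, Cfsg.extendByZero D.H
        (fun h => ∑ φ ∈ D.rowSet, (D.extW φ h : ℂ) * D.oneSub θ h) (x⁻¹ * a * x) =
        (Nat.card D.W₁ : ℂ) * Cfsg.extendByZero D.K (fun k => 1 - (θ k : ℂ)) (x⁻¹ * a * x) := by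
      intro x
      by_cases hH : x⁻¹ * a * x ∈ D.H
      · rw [extendByZero_of_mem _ hH, ← sum_mul, hsum]
        by_cases hK : x⁻¹ * a * x ∈ D.K
        · rw [if_pos hK, extendByZero_of_mem _ hK]
          show _ * (1 - _) = _
          rw [D.extFun_K θ ⟨_, hH⟩ hK]
        · rw [if_neg hK, zero_mul, extendByZero_of_not_mem _ hK, mul_zero]
      · rw [extendByZero_of_not_mem _ hH, extendByZero_of_not_mem _ fun h => hH (D.K_le_H h),
          mul_zero]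
    rw [sum_congr rfl fun x _ => e x, ← mul_sum, D.card_H, Nat.cast_mul, mul_inv, mul_assoc,
      ← mul_assoc (_⁻¹) (Nat.card D.W₁ : ℂ)]
    have h1 := CharInduce.card_ne_zero_complex (↥D.W₁)
    field_simp
  rw [← key, show (fun h => ∑ φ ∈ D.rowSet, (D.extW φ h : ℂ) * D.oneSub θ h) =
      ∑ φ ∈ D.rowSet, fun h => (D.extW φ h : ℂ) * D.oneSub θ h by funext h; simp [Finset.sum_apply],
    CharInduce.indFun_sum, sum_congr rfl fun φ hφ => D.indFun_extW_mul hχ hg (D.mem_rowSet.1 hφ)]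
  have hm : ∀ φ : ↥(D.W₁ ⊔ D.W₂) →* ℂˣ, φ * 1 = φ := fun φ => mul_one φ
  funext a
  simp only [Pi.sub_apply, Pi.add_apply, Pi.smul_apply, Finset.sum_apply, col, Gam, smul_eq_mul, hm,
    sum_sub_distrib, sum_add_distrib, sum_const, D.card_rowSet, nsmul_eq_mul, mul_one]
  ring

theorem Gam_gen (hχ : Cfsg.IsCyclicTIFamily D.W₁ D.W₂ χ) (hg : D.Good θ) :
    Cfsg.IsGeneralizedCharacter G (D.Gam χ θ) :=
  H43.gen_add (H43.gen_sub (D.gam_gen hg) (H43.gen_of_irr isIrrCharacter_one))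
    (H43.Signed.gen (hχ.irr_or_neg _))

theorem eta_one (hχ : Cfsg.IsCyclicTIFamily D.W₁ D.W₂ χ) {ω : ↥(D.W₁ ⊔ D.W₂) →* ℂˣ} (h : ω ≠ 1) :
    Cfsg.classInner (χ ω) (fun _ => 1) = 0 := by
  rw [← hχ.map_one, hχ.orthonormal, if_neg h]

theorem Gam_one (hχ : Cfsg.IsCyclicTIFamily D.W₁ D.W₂ χ) (hg : D.Good θ) :
    Cfsg.classInner (D.Gam χ θ) (fun _ => 1) = 0 := by
  rw [Gam, classInner_add_left, classInner_sub_left, D.gam_one hg,
    classInner_irr_self isIrrCharacter_one, D.eta_one hχ hg.psi_ne_one]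
  ring

theorem Gam_on_W (hχ : Cfsg.IsCyclicTIFamily D.W₁ D.W₂ χ) (hg : D.Good θ)
    (w : ↥(D.W₁ ⊔ D.W₂)) (h1 : (w : G) ∉ D.W₁) (h2 : (w : G) ∉ D.W₂) : D.Gam χ θ w = 0 := by
  simp only [Gam, Pi.add_apply, Pi.sub_apply, D.gam_on_W hg w h1 h2, hχ.eq_on _ w h1 h2]
  ring

theorem Gam_aut (hD : D.Regular) (hχ : Cfsg.IsCyclicTIFamily D.W₁ D.W₂ χ) (hg : D.Good θ)
    (σ : ℂ ≃+* ℂ) : (fun g => σ (D.Gam χ θ g)) = D.Gam χ θ := by
  conv_rhs => rw [← D.Gam_eq hD hχ hg (hg.aut σ)]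
  funext g
  have e : D.psi ((Units.map (σ : ℂ →* ℂ)).comp θ) = (Units.map (σ : ℂ →* ℂ)).comp (D.psi θ) := rfl
  simp only [Gam, Pi.add_apply, Pi.sub_apply, map_add, map_sub, map_one, e,
    PF3.family_aut D.hW (D.odd.of_dvd_nat (Subgroup.card_subgroup_dvd_card _)) hχ σ (D.psi θ)]
  congr 2
  rw [gam, gam, ← PF6.indFun_aut σ]
  congr 1
  funext h
  show σ (1 - ((θ _ : ℂˣ) : ℂ)) = _
  rw [map_sub, map_one]
  rfl

theorem Gam_real (hD : D.Regular) (hχ : Cfsg.IsCyclicTIFamily D.W₁ D.W₂ χ) (hg : D.Good θ) :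
    Cfsg.conjFun (D.Gam χ θ) = D.Gam χ θ := D.Gam_aut hD hχ hg (starRingAut : ℂ ≃+* ℂ)

/-- The coefficients on the grid. -/
theorem exists_ac (hD : D.Regular) (hχ : Cfsg.IsCyclicTIFamily D.W₁ D.W₂ χ) (hg : D.Good θ) :
    ∃ a c : ℤ, (∀ φ, H43.TrivR φ → φ ≠ 1 → Cfsg.classInner (D.Gam χ θ) (χ φ) = a) ∧
      (∀ ψ, H43.TrivL ψ → ψ ≠ 1 → Cfsg.classInner (D.Gam χ θ) (χ ψ) = c) ∧
      ∀ φ ψ, H43.TrivR φ → H43.TrivL ψ → φ ≠ 1 → ψ ≠ 1 →
        Cfsg.classInner (D.Gam χ θ) (χ (φ * ψ)) = ((a + c : ℤ) : ℂ) := by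
  classical
  have hodd : Odd (Nat.card ↥(D.W₁ ⊔ D.W₂)) :=
    D.odd.of_dvd_nat (Subgroup.card_subgroup_dvd_card _)
  have hGg := D.Gam_gen hχ hg
  obtain ⟨hc1, hc2⟩ := PF3.card_trivR_trivL D.hW
  have hinv : ∀ (σ : ℂ ≃+* ℂ) ω, Cfsg.classInner (D.Gam χ θ) (χ ((Units.map (σ : ℂ →* ℂ)).comp ω))
      = Cfsg.classInner (D.Gam χ θ) (χ ω) := by
    intro σ ω
    obtain ⟨n, hn⟩ := H43.gen_inner_int hGg (H43.Signed.gen (hχ.irr_or_neg ω))
    rw [PF3.family_aut D.hW hodd hχ σ ω]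
    conv_lhs => arg 1; rw [← D.Gam_aut hD hχ hg σ]
    rw [PF6.classInner_aut σ _ (H43.Signed.gen (hχ.irr_or_neg ω)), hn, map_intCast]
  have hconst : ∀ P : (↥(D.W₁ ⊔ D.W₂) →* ℂˣ) → Prop, ∀ n : ℕ, n.Prime →
      Nat.card {φ // P φ} = n → P 1 → (∀ x y, P x → P y → P (x * y)) → (∀ x, P x → P x⁻¹) →
      ∃ a : ℤ, ∀ φ, P φ → φ ≠ 1 → Cfsg.classInner (D.Gam χ θ) (χ φ) = a := by
    intro P n hn hcard hP1 hPm hPi
    let M : Subgroup (↥(D.W₁ ⊔ D.W₂) →* ℂˣ) :=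
      { carrier := {φ | P φ}
        one_mem' := hP1
        mul_mem' := fun {a b} ha hb => hPm a b ha hb
        inv_mem' := fun {a} ha => hPi a ha }
    have := Fact.mk hn
    have hM : Nat.card M = n := hcard
    have : Nontrivial M := Finite.one_lt_card_iff_nontrivial.1 (hM ▸ hn.one_lt)
    obtain ⟨⟨φ, hφ⟩, hφ1⟩ := exists_ne (1 : M)
    obtain ⟨a, ha⟩ := H43.gen_inner_int hGg (H43.Signed.gen (hχ.irr_or_neg φ))
    refine ⟨a, fun φ' hφ' h1' => ?_⟩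
    obtain ⟨t, ht⟩ := (Submonoid.mem_powers_iff _ _).1
      (mem_powers_of_prime_card (g := (⟨φ, hφ⟩ : M)) (g' := ⟨φ', hφ'⟩) hM hφ1)
    have ht' : φ ^ t = φ' := congrArg Subtype.val ht
    have hpow : φ ^ n = 1 := by
      have := congrArg Subtype.val (pow_card_eq_one' (G := M) (x := ⟨φ, hφ⟩))
      rw [hM] at this
      exact this
    have hcop : t.Coprime n := by
      refine Nat.Coprime.symm (hn.coprime_iff_not_dvd.2 fun ⟨k, hk⟩ => h1' ?_)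
      rw [← ht', hk]
      exact (pow_mul φ n k).trans
        ((congrArg (· ^ k) hpow).trans (one_pow (M := ↥(D.W₁ ⊔ D.W₂) →* ℂˣ) k))
    obtain ⟨σ, hσ⟩ := H43.exists_aut_pow hn.ne_zero hcop
    have e : (Units.map (σ : ℂ →* ℂ)).comp φ = φ' := by
      rw [← ht']
      ext w
      show σ (φ w : ℂ) = _
      rw [MonoidHom.pow_apply, Units.val_pow_eq_pow_val]
      refine hσ _ ?_
      rw [← Units.val_pow_eq_pow_val, ← MonoidHom.pow_apply, hpow, MonoidHom.one_apply,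
        Units.val_one]
    rw [← e, hinv, ha]
  obtain ⟨a, ha⟩ := hconst H43.TrivR _ D.hq hc1 H43.trivR_one
    (fun x y hx hy w hw => by simp [hx w hw, hy w hw]) (fun x hx w hw => by simp [hx w hw])
  obtain ⟨c, hc⟩ := hconst H43.TrivL _ D.hp hc2 H43.trivL_one
    (fun x y hx hy w hw => by simp [hx w hw, hy w hw]) (fun x hx w hw => by simp [hx w hw])
  refine ⟨a, c, ha, hc, fun φ ψ hφ hψ h1 h2 => ?_⟩
  rw [H43.family_relation D.hW hχ _ (H43.gen_isClassFunction hGg) (D.Gam_on_W hχ hg) hφ hψ,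
    ha φ hφ h1, hc ψ hψ h2, hχ.map_one, D.Gam_one hχ hg]
  push_cast
  ring

/-- The norm of `Gam`. -/
theorem Gam_norm (hD : D.Regular) (hχ : Cfsg.IsCyclicTIFamily D.W₁ D.W₂ χ) (hg : D.Good θ) :
    Cfsg.classInner (D.Gam χ θ) (D.Gam χ θ) = ((D.H.relIndex D.S : ℂ) - 1) / (Nat.card D.W₁ : ℂ)
      + 2 * Cfsg.classInner (D.Gam χ θ) (χ (D.psi θ)) := by
  have hη : Cfsg.classInner (χ (D.psi θ)) (χ (D.psi θ)) = 1 := by rw [hχ.orthonormal, if_pos rfl]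
  have h1 := D.eta_one hχ hg.psi_ne_one
  obtain ⟨n, hn⟩ := H43.gen_inner_int (D.gam_gen hg) (H43.Signed.gen (hχ.irr_or_neg (D.psi θ)))
  simp only [Gam, classInner_add_left, classInner_add_right, classInner_sub_left,
    classInner_sub_right, hη, h1, D.gam_one hg, classInner_irr_self isIrrCharacter_one, hn,
    D.gam_inner hD hg hg, if_pos]
  rw [← classInner_conj_symm (χ (D.psi θ)) (fun _ => (1 : ℂ)), h1, map_zero,
    ← classInner_conj_symm (D.gam θ) (χ (D.psi θ)), hn, map_intCast,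
    ← classInner_conj_symm (D.gam θ) (fun _ => (1 : ℂ)), D.gam_one hg, map_one]
  ring

/-- Bessel: orthonormal functions orthogonal to the grid share `(ū − 1) / q`. -/
theorem budget (hD : D.Regular) (hχ : Cfsg.IsCyclicTIFamily D.W₁ D.W₂ χ) (hg : D.Good θ)
    {ι : Type*} (s : Finset ι) (v : ι → G → ℂ) (n : ι → ℤ)
    (hnorm : ∀ i ∈ s, Cfsg.classInner (v i) (v i) = 1)
    (horth : ∀ i ∈ s, ∀ j ∈ s, i ≠ j → Cfsg.classInner (v i) (v j) = 0)
    (heta : ∀ i ∈ s, ∀ ω, Cfsg.classInner (v i) (χ ω) = 0)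
    (hn : ∀ i ∈ s, Cfsg.classInner (D.Gam χ θ) (v i) = n i) :
    (Nat.card D.W₁ : ℤ) * ∑ i ∈ s, n i ^ 2 ≤ (D.H.relIndex D.S : ℤ) - 1 := by
  classical
  have : Fintype (↥(D.W₁ ⊔ D.W₂) →* ℂˣ) := Fintype.ofFinite _
  obtain ⟨a, c, -, hc, -⟩ := D.exists_ac hD hχ hg
  set L := (Finset.univ : Finset (↥(D.W₁ ⊔ D.W₂) →* ℂˣ)).filter
    fun ψ => H43.TrivL ψ ∧ ψ ≠ 1 with hL
  let V : ι ⊕ (↥(D.W₁ ⊔ D.W₂) →* ℂˣ) → G → ℂ := Sum.elim v χ
  let N : ι ⊕ (↥(D.W₁ ⊔ D.W₂) →* ℂˣ) → ℤ := Sum.elim n fun _ => c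
  have hN : ∀ i ∈ s.disjSum L, Cfsg.classInner (D.Gam χ θ) (V i) = N i := by
    rintro (i | ψ) hi
    · exact hn i (Finset.inl_mem_disjSum.1 hi)
    · exact hc ψ (mem_filter.1 (Finset.inr_mem_disjSum.1 hi)).2.1
        (mem_filter.1 (Finset.inr_mem_disjSum.1 hi)).2.2
  have hVV : ∀ i ∈ s.disjSum L, ∀ j ∈ s.disjSum L, i ≠ j → Cfsg.classInner (V i) (V j) = 0 := by
    rintro (i | ψ) hi (j | ψ') hj hij
    · exact horth i (Finset.inl_mem_disjSum.1 hi) j (Finset.inl_mem_disjSum.1 hj)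
        fun e => hij (congrArg Sum.inl e)
    · exact heta i (Finset.inl_mem_disjSum.1 hi) ψ'
    · show Cfsg.classInner (χ ψ) (v j) = 0
      rw [← classInner_conj_symm (v j) (χ ψ), heta j (Finset.inl_mem_disjSum.1 hj) ψ, map_zero]
    · show Cfsg.classInner (χ ψ) (χ ψ') = 0
      rw [hχ.orthonormal, if_neg fun e => hij (congrArg Sum.inr e)]
  have h := bessel (s.disjSum L) (D.Gam χ θ) (fun i => (N i : ℂ) • V i) fun i hi j hj hij => by
    rw [classInner_smul_left, classInner_smul_right, hVV i hi j hj hij, mul_zero, mul_zero]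
  have h1 : ∀ i ∈ s.disjSum L, 2 * (Cfsg.classInner (D.Gam χ θ) ((N i : ℂ) • V i)).re
      - (Cfsg.classInner ((N i : ℂ) • V i) ((N i : ℂ) • V i)).re = (N i : ℝ) ^ 2 := by
    intro i hi
    have hV1 : Cfsg.classInner (V i) (V i) = 1 := by
      rcases i with i | ψ
      · exact hnorm i (Finset.inl_mem_disjSum.1 hi)
      · exact (hχ.orthonormal ψ ψ).trans (if_pos rfl)
    rw [classInner_smul_right, classInner_smul_left, classInner_smul_right, hN i hi, hV1,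
      map_intCast, mul_one, ← Int.cast_mul, Complex.intCast_re]
    push_cast
    ring
  rw [sum_congr rfl h1, Finset.sum_disjSum, D.Gam_norm hD hχ hg,
    hc (D.psi θ) (D.psi_trivL θ) hg.psi_ne_one] at h
  simp only [N, Sum.elim_inl, Sum.elim_inr, sum_const, nsmul_eq_mul] at h
  have hcard : L.card + 1 = Nat.card D.W₂ := by
    rw [← (PF3.card_trivR_trivL D.hW).2, Nat.card_eq_fintype_card, Fintype.card_subtype,
      ← Finset.card_erase_add_one (mem_filter.2 ⟨mem_univ _, H43.trivL_one⟩)]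
    congr 2
    ext ψ
    simp [hL, and_comm]
  have h3 : 3 ≤ Nat.card D.W₂ := by
    have h2 := D.hp.two_le
    obtain ⟨m, hm⟩ : Odd (Nat.card D.W₂) := D.odd.of_dvd_nat (Subgroup.card_subgroup_dvd_card _)
    omega
  have hLc : (2 : ℝ) ≤ (L.card : ℝ) := by exact_mod_cast (show 2 ≤ L.card by omega)
  have hq : (0 : ℝ) < (Nat.card D.W₁ : ℝ) := Nat.cast_pos.2 Nat.card_pos
  have hre : ((((D.H.relIndex D.S : ℂ) - 1) / (Nat.card D.W₁ : ℂ) + 2 * (c : ℂ))).re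
      = ((D.H.relIndex D.S : ℝ) - 1) / (Nat.card D.W₁ : ℝ) + 2 * (c : ℝ) := by
    rw [show ((D.H.relIndex D.S : ℂ) - 1) / (Nat.card D.W₁ : ℂ) + 2 * (c : ℂ) =
      ((((D.H.relIndex D.S : ℝ) - 1) / (Nat.card D.W₁ : ℝ) + 2 * (c : ℝ) : ℝ) : ℂ) by push_cast; ring,
      Complex.ofReal_re]
  rw [hre] at h
  have hc2 : (c : ℝ) ≤ (c : ℝ) ^ 2 := by exact_mod_cast Int.le_self_sq c
  have h4 : ∑ i ∈ s, (n i : ℝ) ^ 2 ≤ ((D.H.relIndex D.S : ℝ) - 1) / (Nat.card D.W₁ : ℝ) := by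
    nlinarith
  rw [le_div_iff₀ hq, mul_comm] at h4
  have : ((((Nat.card D.W₁ : ℤ) * ∑ i ∈ s, n i ^ 2 : ℤ)) : ℝ)
      ≤ (((D.H.relIndex D.S : ℤ) - 1 : ℤ) : ℝ) := by
    push_cast
    exact h4
  exact_mod_cast this


end Side

end Cfsg.Agent.OddOrder.PF14
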