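import Cfsg.Agent.OddOrder.PF14.SideFix

/-!
# Peterfalvi section 14: the free characters on one side

For `θ` with stabiliser `K` in `S`, `Ind_K^G (θ_j − θ)` is a signed column of the grid minus a signed
irreducible character orthogonal to the grid.
-/

set_option autoImplicit false

namespace Cfsg.Agent.OddOrder.PF14

open Cfsg.Agent Cfsg.Agent.CharBasic Cfsg.Agent.CharInduce Finset
open scoped ComplexConjugate

universe u

/-- One row of the coefficient matrix. -/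
theorem row_ge (m : ℤ) (hm : 1 ≤ m) (s r : ℤ) :
    1 ≤ r ^ 2 + (r + s + 1) ^ 2 + m * (r + s) ^ 2 := by
  by_cases h : r + s = 0
  · have : (r + s + 1) ^ 2 = 1 := by rw [h]; norm_num
    nlinarith [sq_nonneg r]
  · have : 1 ≤ (r + s) ^ 2 := by
      nlinarith [Int.one_le_abs h, sq_abs (r + s)]
    nlinarith [sq_nonneg r, sq_nonneg (r + s + 1)]

theorem row_ge_two (m : ℤ) (hm : 1 ≤ m) (s r : ℤ) (h : s ≠ 0) (h' : s = -1 → r = 0 → 2 ≤ m) :
    2 ≤ r ^ 2 + (r + s + 1) ^ 2 + m * (r + s) ^ 2 := by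
  by_cases h1 : s = -1
  · subst h1
    by_cases hr : r = 0
    · subst hr
      have := h' rfl rfl
      norm_num
      linarith
    · have : 1 ≤ r ^ 2 := by nlinarith [Int.one_le_abs hr, sq_abs r]
      have e : r + -1 + 1 = r := by ring
      rw [e]
      nlinarith [sq_nonneg (r + -1)]
  · by_cases hr : r = 0
    · subst hr
      have : 1 ≤ s ^ 2 := by nlinarith [Int.one_le_abs h, sq_abs s]
      have : 1 ≤ (s + 1) ^ 2 := by
        nlinarith [Int.one_le_abs (show s + 1 ≠ 0 by omega), sq_abs (s + 1)]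
      simp only [zero_add]
      nlinarith
    · have hr2 : 1 ≤ r ^ 2 := by nlinarith [Int.one_le_abs hr, sq_abs r]
      by_cases hs : r + s = 0
      · have : (r + s + 1) ^ 2 = 1 := by rw [hs]; norm_num
        nlinarith
      · have : 1 ≤ (r + s) ^ 2 := by nlinarith [Int.one_le_abs hs, sq_abs (r + s)]
        nlinarith [sq_nonneg (r + s + 1)]

namespace Side

variable {G : Type u} [Group G] (D : Side G)

/-- Trivial on `N₀`, with stabiliser `K`. -/
structure Free (θ : ↥D.K →* ℂˣ) : Prop where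
  triv : D.Triv θ
  ne_one : θ ≠ 1
  stab : ∀ x : ↥D.S, D.tw x θ = θ → (x : G) ∈ D.K

/-- Not conjugate in `S`. -/
def NConj (θ θ' : ↥D.K →* ℂˣ) : Prop := ∀ x : ↥D.S, D.tw x θ ≠ θ'

variable {D} in
theorem NConj.symm {θ θ' : ↥D.K →* ℂˣ} (h : D.NConj θ θ') : D.NConj θ' θ := fun x e =>
  h x⁻¹ (by rw [← e, ← D.tw_tw, inv_mul_cancel, D.tw_id])

variable [Fintype G]

open scoped Classical in
/-- The number of elements of `S` taking `θ'` to `θ`. -/
noncomputable def num (θ θ' : ↥D.K →* ℂˣ) : ℕ :=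
  Nat.card {x : ↥D.S // D.tw x θ' = θ}

variable {θ θ' χ₀ χ₁ : ↥D.K →* ℂˣ}

omit [Fintype G] in
theorem num_eq_zero (h : D.NConj θ' θ) : D.num θ θ' = 0 := by
  have : IsEmpty {x : ↥D.S // D.tw x θ' = θ} := ⟨fun x => h x.1 x.2⟩
  exact Nat.card_of_isEmpty

omit [Fintype G] in
theorem num_free (hf : D.Free θ) : D.num θ θ = Nat.card D.K :=
  Nat.card_congr
    { toFun := fun x => ⟨(x.1 : G), hf.stab x.1 x.2⟩
      invFun := fun k => ⟨⟨k, D.K_le k.2⟩, D.tw_of_mem k.2 θ⟩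
      left_inv := fun _ => rfl
      right_inv := fun _ => rfl }

omit [Fintype G] in
theorem num_good (hD : D.Regular) (hg : D.Good θ) : D.num θ θ = Nat.card D.H :=
  Nat.card_congr
    { toFun := fun x => ⟨(x.1 : G), hD.stab θ θ hg hg x.1 x.2⟩
      invFun := fun h => ⟨⟨h, D.H_le_S h.2⟩, hg.tw_of_H _ h.2⟩
      left_inv := fun _ => rfl
      right_inv := fun _ => rfl }

omit [Fintype G] in
theorem nconj_good (hD : D.Regular) (hg : D.Good θ) (hg' : D.Good θ') (h : θ ≠ θ') :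
    D.NConj θ θ' := fun x e => h (by rw [← e, hg.tw_of_H x (hD.stab θ θ' hg hg' x e)])

omit [Fintype G] in
theorem nconj_good_free (hg : D.Good θ) (hf : D.Free θ') : D.NConj θ θ' := by
  intro x e
  obtain ⟨w, hw, hw1⟩ := D.W₁.bot_or_exists_ne_one.resolve_left D.hW.1
  have hfix : D.tw (x * ⟨w, D.W₁_le hw⟩ * x⁻¹) θ' = θ' := by
    rw [D.tw_tw, D.tw_tw, ← e, ← D.tw_tw x⁻¹ x, inv_mul_cancel, D.tw_id, hg.fix _ hw]
  have h1 := D.K_normal _ (inv_mem x.2) _ (hf.stab _ hfix)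
  simp only [Subgroup.coe_mul, Subgroup.coe_inv, inv_inv] at h1
  rw [show (x : G)⁻¹ * ((x : G) * w * (x : G)⁻¹) * x = w by group] at h1
  have : w ∈ D.K ⊓ D.W₁ := Subgroup.mem_inf.2 ⟨h1, hw⟩
  rw [D.inf_eq, Subgroup.mem_bot] at this
  exact hw1 this

open scoped Classical in
theorem sum_indicator [Fintype ↥D.S] (θ θ' : ↥D.K →* ℂˣ) :
    ∑ x : ↥D.S, (if θ = D.tw x θ' then 1 else 0 : ℂ) = (D.num θ θ' : ℂ) := by
  rw [sum_boole, num, Nat.card_eq_fintype_card, Fintype.card_subtype]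
  congr 2
  exact Finset.ext fun x => by simp [eq_comm]

/-- The inner product of induced differences. -/
theorem inner_diff {a b c d : ↥D.K →* ℂˣ} (ha : D.Triv a) (hb : D.Triv b) (hc : D.Triv c)
    (hd : D.Triv d) :
    Cfsg.classInner (Cfsg.indFun D.K (D.lin a - D.lin b)) (Cfsg.indFun D.K (D.lin c - D.lin d)) =
      (Nat.card D.K : ℂ)⁻¹ *
        ((D.num a c : ℂ) - D.num a d - D.num b c + D.num b d) := by
  classical
  have hsupp : ∀ a b : ↥D.K →* ℂˣ, D.Triv a → D.Triv b → ∀ k : ↥D.K, (k : G) ∉ D.A →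
      (D.lin a - D.lin b) k = 0 := by
    intro a b ha hb k hk
    have hn : (k : G) ∈ D.N₀ := by_contra fun hn => hk (D.A_mem k k.2 hn)
    simp [Side.lin, ha k hn, hb k hn]
  rw [D.inner_indK _ _ (hsupp a b ha hb) (hsupp c d hc hd)]
  congr 1
  have : ∀ x : ↥D.S, Cfsg.classInner (D.lin a - D.lin b) (D.twist (x : G) (D.lin c - D.lin d)) =
      (if a = D.tw x c then 1 else 0 : ℂ) - (if a = D.tw x d then 1 else 0) -
        (if b = D.tw x c then 1 else 0) + (if b = D.tw x d then 1 else 0) := by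
    intro x
    rw [twist_sub, twist_lin, twist_lin, classInner_sub_left, classInner_sub_right,
      classInner_sub_right, show ∀ u v : ↥D.K →* ℂˣ, Cfsg.classInner (D.lin u) (D.lin v) =
        if u = v then 1 else 0 from H43.linear_orth]
    rw [show ∀ u v : ↥D.K →* ℂˣ, Cfsg.classInner (D.lin u) (D.lin v) =
        if u = v then 1 else 0 from H43.linear_orth,
      show ∀ u v : ↥D.K →* ℂˣ, Cfsg.classInner (D.lin u) (D.lin v) =
        if u = v then 1 else 0 from H43.linear_orth,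
      show ∀ u v : ↥D.K →* ℂˣ, Cfsg.classInner (D.lin u) (D.lin v) =
        if u = v then 1 else 0 from H43.linear_orth]
    ring
  rw [sum_congr rfl fun x _ => this x, sum_add_distrib, sum_sub_distrib, sum_sub_distrib,
    D.sum_indicator, D.sum_indicator, D.sum_indicator, D.sum_indicator]

theorem indFun_diff (a b : ↥D.K →* ℂˣ) :
    Cfsg.indFun D.K (D.lin a - D.lin b) = D.bigam b - D.bigam a := by
  rw [bigam, bigam, ← CharInduce.indFun_sub]
  congr 1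
  funext k
  simp [Side.lin]

theorem bigam_tw (x : ↥D.S) (θ : ↥D.K →* ℂˣ) : D.bigam (D.tw x θ) = D.bigam θ := by
  rw [bigam, bigam, ← D.indFun_twist x (fun k => 1 - (θ k : ℂ))]
  congr 1
  rw [show (fun k => 1 - (θ k : ℂ)) = (fun _ : ↥D.K => (1 : ℂ)) - D.lin θ from rfl, twist_sub,
    twist_one, twist_lin]
  rfl

/-- An induced difference vanishes on the grid support. -/
theorem diff_on_W (a b : ↥D.K →* ℂˣ) (w : ↥(D.W₁ ⊔ D.W₂))
    (h2 : (w : G) ∉ D.W₂) (h1 : (w : G) ∉ D.W₁) (ha : D.Triv a) (hb : D.Triv b) :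
    Cfsg.indFun D.K (D.lin a - D.lin b) (w : G) = 0 := by
  classical
  rw [D.indFun_on_A _ (fun k hk => by
    have hn : (k : G) ∈ D.N₀ := by_contra fun hn => hk (D.A_mem k k.2 hn)
    simp [Side.lin, ha k hn, hb k hn]) (D.V_mem w w.2 h1 h2), sum_eq_zero, mul_zero]
  intro x _
  refine extendByZero_of_not_mem _ fun h => ?_
  have hK := D.K_normal x x.2 _ h
  rw [show (x : G) * ((x : G)⁻¹ * (w : G) * x) * (x : G)⁻¹ = w by group] at hK
  obtain ⟨c, e, hc, he, eq⟩ := H43.exists_mul_decomp D.hW w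
  have e' : (w : G) = c * e := congrArg Subtype.val eq
  have : (c : G) ∈ D.K ⊓ D.W₁ := Subgroup.mem_inf.2 ⟨by
    rw [show (c : G) = w * (e : G)⁻¹ by rw [e', mul_inv_cancel_right]]
    exact mul_mem hK (inv_mem (D.W₂_le he)), hc⟩
  rw [D.inf_eq, Subgroup.mem_bot] at this
  exact h2 (by rw [e', this, one_mul]; exact he)

variable {χ : (↥(D.W₁ ⊔ D.W₂) →* ℂˣ) → (G → ℂ)}

/-- A virtual character of norm two vanishing on the grid support is orthogonal to the grid. -/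
theorem eta_orth_of_norm_two (hχ : Cfsg.IsCyclicTIFamily D.W₁ D.W₂ χ) {β : G → ℂ}
    (hβ : Cfsg.IsGeneralizedCharacter G β) (hN : Cfsg.classInner β β = 2)
    (hV : ∀ w : ↥(D.W₁ ⊔ D.W₂), (w : G) ∉ D.W₁ → (w : G) ∉ D.W₂ → β w = 0)
    (ω : ↥(D.W₁ ⊔ D.W₂) →* ℂˣ) : Cfsg.classInner β (χ ω) = 0 := by
  classical
  obtain ⟨b, hb, hle, -⟩ := PF3.exists_coeff hχ hβ (N := 2) (by rw [hN]; norm_num)
  have hcard : ((Finset.univ : Finset (↥(D.W₁ ⊔ D.W₂) →* ℂˣ)).filter fun ω => b ω ≠ 0).card ≤ 2 := by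
    have : (((Finset.univ : Finset (↥(D.W₁ ⊔ D.W₂) →* ℂˣ)).filter fun ω => b ω ≠ 0).card : ℤ) ≤ 2 := by
      rw [card_eq_sum_ones, Nat.cast_sum]
      refine le_trans (le_trans (sum_le_sum fun η hη => ?_)
        (sum_le_sum_of_subset_of_nonneg (subset_univ _) fun η _ _ => sq_nonneg (b η))) hle
      have h := (mem_filter.1 hη).2
      push_cast
      nlinarith [Int.one_le_abs h, sq_abs (b η)]
    exact_mod_cast this
  have h6 : Nat.card {ω // Cfsg.classInner β (χ ω) ≠ 0} ≤ 2 := by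
    rw [Nat.card_eq_fintype_card, Fintype.card_subtype]
    refine le_trans (le_of_eq (congrArg Finset.card (Finset.ext fun η => ?_))) hcard
    simp [hb]
  obtain ⟨c, hc, hc3⟩ := PF3.few_const D.hW (D.odd.of_dvd_nat (Subgroup.card_subgroup_dvd_card _))
    hχ (H43.gen_isClassFunction hβ) hV (by omega)
  rcases hc3 with rfl | h3
  · rcases hc ω with h | h <;> exact h
  · rcases eq_or_ne c 0 with rfl | hc0
    · rcases hc ω with h | h <;> exact h
    exfalso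
    rw [Nat.card_eq_fintype_card, Fintype.card_subtype] at h6
    refine absurd (le_trans h3 (le_trans (card_le_card fun η hη => ?_) h6)) (by omega)
    simp only [mem_filter, mem_univ, true_and] at hη ⊢
    rw [hη]
    exact hc0

omit [Fintype G] in
theorem Free.inv (hf : D.Free θ) : D.Free θ⁻¹ where
  triv k hk := by simp [hf.triv k hk]
  ne_one e := hf.ne_one (MonoidHom.ext fun k => inv_eq_one.1 (DFunLike.congr_fun e k))
  stab x e := hf.stab x (inv_injective ((D.tw_inv x θ).symm.trans e))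

omit [Fintype G] in
theorem Free.nconj_inv [Finite G] (hf : D.Free θ) : D.NConj θ θ⁻¹ := by
  intro x e
  have h2 : D.tw (x * x) θ = θ := by rw [D.tw_tw, e, D.tw_inv, e]; exact inv_inv θ
  have hx2 : (x : G) * x ∈ D.K := hf.stab _ h2
  obtain ⟨m, hm⟩ := D.odd
  have hxK : (x : G) ∈ D.K := by
    have : ((x : G) * x) ^ (m + 1) = x := by
      rw [← pow_two, ← pow_mul, show 2 * (m + 1) = Nat.card G + 1 by omega, pow_succ, pow_card_eq_one',
        one_mul]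
    exact this ▸ pow_mem hx2 _
  rw [D.tw_of_mem hxK] at e
  refine hf.ne_one (MonoidHom.ext fun k => ?_)
  have h1 : θ k * θ k = 1 := by
    have := DFunLike.congr_fun e k
    rw [MonoidHom.inv_apply] at this
    nth_rw 1 [this]
    exact inv_mul_cancel _
  have d1 : orderOf (θ k) ∣ 2 := orderOf_dvd_of_pow_eq_one (by rw [pow_two]; exact h1)
  have d2 : orderOf (θ k) ∣ Nat.card G :=
    ((orderOf_map_dvd θ k).trans (orderOf_dvd_natCard k)).trans (Subgroup.card_subgroup_dvd_card _)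
  exact orderOf_eq_one_iff.1
    (Nat.eq_one_of_dvd_coprimes (Nat.coprime_two_left.2 D.odd) d1 d2)

omit [Fintype G] in
/-- Every nontrivial character trivial on `W₁` comes from a fixed character. -/
theorem exists_good_of_psi [Fintype G] (hg : D.Good χ₀) {ψ : ↥(D.W₁ ⊔ D.W₂) →* ℂˣ}
    (hψ : H43.TrivL ψ) (h1 : ψ ≠ 1) : ∃ θ, D.Good θ ∧ D.psi θ = ψ := by
  let M : Subgroup (↥(D.W₁ ⊔ D.W₂) →* ℂˣ) :=
    { carrier := {φ | H43.TrivL φ}
      one_mem' := H43.trivL_one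
      mul_mem' := fun {a b} ha hb w hw => by simp [ha w hw, hb w hw]
      inv_mem' := fun {a} ha w hw => by simp [ha w hw] }
  have := Fact.mk D.hp
  have hM : Nat.card M = Nat.card D.W₂ := (PF3.card_trivR_trivL D.hW).2
  obtain ⟨t, ht⟩ := (Submonoid.mem_powers_iff _ _).1
    (mem_powers_of_prime_card (g := (⟨D.psi χ₀, D.psi_trivL χ₀⟩ : M)) (g' := ⟨ψ, hψ⟩) hM
      fun e => hg.psi_ne_one (congrArg Subtype.val e))
  have e : D.psi (χ₀ ^ t) = ψ := by
    refine Eq.trans ?_ (congrArg Subtype.val ht)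
    rfl
  refine ⟨χ₀ ^ t, ⟨fun k hk => by simp [hg.triv k hk], fun w hw => MonoidHom.ext fun k => ?_,
    fun e' => h1 ?_⟩, e⟩
  · show (χ₀ ^ t) _ = (χ₀ ^ t) k
    rw [MonoidHom.pow_apply, MonoidHom.pow_apply]
    exact congrArg (· ^ t) (DFunLike.congr_fun (hg.fix w hw) k)
  · rw [← e, e']
    rfl

theorem inner_col (hχ : Cfsg.IsCyclicTIFamily D.W₁ D.W₂ χ) {φ ψ ψ' : ↥(D.W₁ ⊔ D.W₂) →* ℂˣ}
    (hφ : H43.TrivR φ) (hψ : H43.TrivL ψ) (hψ' : H43.TrivL ψ') [Decidable (ψ = ψ')] :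
    Cfsg.classInner (D.col χ ψ') (χ (φ * ψ)) = if ψ = ψ' then 1 else 0 := by
  classical
  rw [col, classInner_sum_left]
  by_cases e : ψ = ψ'
  · subst e
    rw [if_pos rfl, sum_eq_single φ (fun φ' hφ' hne => by
        rw [hχ.orthonormal, if_neg fun e' => hne
          (H43.factor_unique D.hW (D.mem_rowSet.1 hφ') hφ hψ hψ e').1])
      (fun h => absurd (D.mem_rowSet.2 hφ) h), hχ.orthonormal, if_pos rfl]
  · rw [if_neg e, sum_eq_zero]
    intro φ' hφ'
    rw [hχ.orthonormal, if_neg fun e' => e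
      (H43.factor_unique D.hW (D.mem_rowSet.1 hφ') hφ hψ' hψ e').2.symm]

/-- `Ind_K^G (θ_0 − θ)`. -/
noncomputable def diff (χ₀ θ : ↥D.K →* ℂˣ) : G → ℂ := D.bigam θ - D.bigam χ₀

theorem diff_gen (χ₀ θ : ↥D.K →* ℂˣ) : Cfsg.IsGeneralizedCharacter G (D.diff χ₀ θ) :=
  H43.gen_sub (D.bigam_gen θ) (D.bigam_gen χ₀)

theorem diff_inner (hD : D.Regular) (hg : D.Good χ₀) (hf : D.Free θ) (hf' : D.Free θ') :
    Cfsg.classInner (D.diff χ₀ θ) (D.diff χ₀ θ') =
      (Nat.card D.W₁ : ℂ) + (D.num θ θ' : ℂ) / (Nat.card D.K : ℂ) := by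
  rw [diff, diff, ← D.indFun_diff, ← D.indFun_diff, D.inner_diff hg.triv hf.triv hg.triv hf'.triv,
    D.num_eq_zero (D.nconj_good_free hg hf').symm, D.num_eq_zero (D.nconj_good_free hg hf),
    D.num_good hD hg, D.card_H]
  have := CharInduce.card_ne_zero_complex (↥D.K)
  push_cast
  field_simp
  ring

theorem diff_on_V (hg : D.Good χ₀) (hf : D.Free θ) (w : ↥(D.W₁ ⊔ D.W₂)) (h1 : (w : G) ∉ D.W₁)
    (h2 : (w : G) ∉ D.W₂) : D.diff χ₀ θ w = 0 := by
  rw [diff, ← D.indFun_diff]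
  exact D.diff_on_W χ₀ θ w h2 h1 hg.triv hf.triv

theorem diff_one (θ : ↥D.K →* ℂˣ) (hθ : θ ≠ 1) (hg : D.Good χ₀) :
    Cfsg.classInner (D.diff χ₀ θ) (fun _ => 1) = 0 := by
  classical
  have : ∀ η : ↥D.K →* ℂˣ, η ≠ 1 → Cfsg.classInner (D.bigam η) (fun _ => 1) = 1 := fun η hη => by
    rw [bigam, classInner_indFun_left _ _ _ (fun _ _ => rfl),
      show (fun k => 1 - (η k : ℂ)) = (fun _ : ↥D.K => (1 : ℂ)) - fun k => (η k : ℂ) from rfl,
      classInner_sub_left, classInner_irr_self isIrrCharacter_one,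
      ← classInner_conj_symm (fun _ => (1 : ℂ)) (fun k => (η k : ℂ)), inner_one_hom η hη,
      map_zero, sub_zero]
  rw [diff, classInner_sub_left, this θ hθ, this χ₀ hg.ne_one, sub_self]

theorem diff_eta (hD : D.Regular) (hχ : Cfsg.IsCyclicTIFamily D.W₁ D.W₂ χ) (hg : D.Good χ₀)
    (hf : D.Free θ) (hf' : D.Free θ') (ω : ↥(D.W₁ ⊔ D.W₂) →* ℂˣ) :
    Cfsg.classInner (D.diff χ₀ θ') (χ ω) = Cfsg.classInner (D.diff χ₀ θ) (χ ω) := by
  by_cases hc : ∃ x, D.tw x θ = θ'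
  · obtain ⟨x, rfl⟩ := hc
    rw [diff, diff, D.bigam_tw]
  push Not at hc
  have hn := hc
  rw [← sub_eq_zero, ← classInner_sub_left]
  refine D.eta_orth_of_norm_two hχ (H43.gen_sub (D.diff_gen _ _) (D.diff_gen _ _)) ?_ ?_ ω
  · have h0 := CharInduce.card_ne_zero_complex (↥D.K)
    rw [classInner_sub_left, classInner_sub_right, classInner_sub_right, D.diff_inner hD hg hf hf,
      D.diff_inner hD hg hf hf', D.diff_inner hD hg hf' hf, D.diff_inner hD hg hf' hf',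
      D.num_free hf, D.num_free hf', D.num_eq_zero (show D.NConj θ θ' from hn),
      D.num_eq_zero (show D.NConj θ θ' from hn).symm]
    field_simp
    push_cast
    ring
  · intro w h1 h2
    show D.diff χ₀ θ' w - D.diff χ₀ θ w = 0
    rw [D.diff_on_V hg hf w h1 h2, D.diff_on_V hg hf' w h1 h2, sub_self]

/-- The column attached to the free characters. -/
structure IsColumn (χ₀ : ↥D.K →* ℂˣ) (σ : ℤ) (ψ₁ : ↥(D.W₁ ⊔ D.W₂) →* ℂˣ) : Prop where
  trivL : H43.TrivL ψ₁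
  ne_one : ψ₁ ≠ 1
  cases : (σ = 1 ∧ ψ₁ = D.psi χ₀) ∨ (σ = -1 ∧ ψ₁ ≠ D.psi χ₀ ∧
    ∀ ψ, H43.TrivL ψ → ψ ≠ 1 → ψ ≠ ψ₁ → ψ = D.psi χ₀)

open scoped Classical in
/-- The grid part of `diff χ₀ θ`. -/
theorem exists_column (hD : D.Regular) (hχ : Cfsg.IsCyclicTIFamily D.W₁ D.W₂ χ) (hg : D.Good χ₀)
    (hf : D.Free θ) :
    ∃ σ ψ₁, D.IsColumn χ₀ σ ψ₁ ∧ ∀ φ ψ, H43.TrivR φ → H43.TrivL ψ →
      Cfsg.classInner (D.diff χ₀ θ) (χ (φ * ψ)) = if ψ = ψ₁ then (σ : ℂ) else 0 := by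
  classical
  set E := D.diff χ₀ θ with hE
  set q := Nat.card D.W₁ with hq
  set p := Nat.card D.W₂ with hp
  have hq3 : 3 ≤ q := by
    have := D.hq.two_le
    obtain ⟨k, hk⟩ : Odd q := D.odd.of_dvd_nat (Subgroup.card_subgroup_dvd_card _)
    omega
  have hp3 : 3 ≤ p := by
    have := D.hp.two_le
    obtain ⟨k, hk⟩ : Odd p := D.odd.of_dvd_nat (Subgroup.card_subgroup_dvd_card _)
    omega
  have hnorm : Cfsg.classInner E E = ((q : ℤ) + 1 : ℤ) := by
    rw [hE, D.diff_inner hD hg hf hf, D.num_free hf,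
      div_self (CharInduce.card_ne_zero_complex _)]
    push_cast
    rfl
  obtain ⟨b, hb, hle, heq⟩ := PF3.exists_coeff hχ (D.diff_gen χ₀ θ) hnorm
  have hlt : ∑ ω, b ω ^ 2 ≤ (q : ℤ) := by
    by_contra hgt
    have e1 := heq (le_antisymm hle (by omega))
    have hf' := hf.inv
    obtain ⟨b', hb', hle', heq'⟩ := PF3.exists_coeff hχ (D.diff_gen χ₀ θ⁻¹) (N := (q : ℤ) + 1) (by
      rw [D.diff_inner hD hg hf' hf', D.num_free hf', div_self (CharInduce.card_ne_zero_complex _)]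
      push_cast
      rfl)
    have hbb : b' = b := funext fun ω => by
      have := D.diff_eta hD hχ hg hf hf' ω
      rw [hb', hb] at this
      exact_mod_cast this
    subst hbb
    have e2 := heq' (le_antisymm hle' (by omega))
    have h0 : Cfsg.classInner (D.diff χ₀ θ - D.diff χ₀ θ⁻¹) (D.diff χ₀ θ - D.diff χ₀ θ⁻¹) = 2 := by
      have h0 := CharInduce.card_ne_zero_complex (↥D.K)
      rw [classInner_sub_left, classInner_sub_right, classInner_sub_right,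
        D.diff_inner hD hg hf hf, D.diff_inner hD hg hf hf', D.diff_inner hD hg hf' hf,
        D.diff_inner hD hg hf' hf', D.num_free hf, D.num_free hf',
        D.num_eq_zero hf.nconj_inv, D.num_eq_zero hf.nconj_inv.symm]
      field_simp
      push_cast
      ring
    rw [e1, e2, sub_self, classInner_zero_left] at h0
    norm_num at h0
  have hb1 : b 1 = 0 := by
    have := hb 1
    rw [hχ.map_one, D.diff_one θ hf.ne_one hg] at this
    exact_mod_cast this.symm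
  have hrel : ∀ φ ψ, H43.TrivR φ → H43.TrivL ψ → b (φ * ψ) = b φ + b ψ := by
    intro φ ψ hφ hψ
    have := H43.family_relation D.hW hχ E (H43.gen_isClassFunction (D.diff_gen χ₀ θ))
      (D.diff_on_V hg hf) hφ hψ
    rw [hb, hb, hb, hb, hb1] at this
    push_cast at this
    rw [sub_zero] at this
    exact_mod_cast this
  set R := D.rowSet with hR
  set A := ∑ φ ∈ R, b φ with hA
  have hcol : ∀ ψ, H43.TrivL ψ → Cfsg.classInner E (D.col χ ψ) = ((A + q * b ψ : ℤ) : ℂ) := by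
    intro ψ hψ
    rw [col, classInner_sum_right, sum_congr rfl fun φ hφ => by
      rw [hb, hrel φ ψ (D.mem_rowSet.1 hφ) hψ], ← Int.cast_sum, sum_add_distrib, sum_const,
      D.card_rowSet, nsmul_eq_mul]
  set j := D.psi χ₀ with hj
  have hstep : ∀ ψ, H43.TrivL ψ → ψ ≠ 1 → ψ ≠ j → b j = b ψ + 1 := by
    intro ψ hψ hψ1 hψj
    obtain ⟨θk, hgk, hk⟩ := D.exists_good_of_psi hg hψ hψ1
    have hne : θk ≠ χ₀ := fun e => hψj (by rw [← hk, e])
    have hsub : D.bigam θk - D.bigam χ₀ = D.col χ j - D.col χ ψ := by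
      rw [D.bigam_eq hχ hg, D.bigam_eq hχ hgk, D.Gam_eq hD hχ hg hgk, hk]
      abel
    have hin : Cfsg.classInner E (D.bigam θk - D.bigam χ₀) = (q : ℂ) := by
      rw [hE, diff, ← D.indFun_diff, ← D.indFun_diff, D.inner_diff hg.triv hf.triv hg.triv hgk.triv,
        D.num_good hD hg, D.num_eq_zero (D.nconj_good hD hgk hg hne),
        D.num_eq_zero (D.nconj_good_free hg hf), D.num_eq_zero (D.nconj_good_free hgk hf), D.card_H]
      have := CharInduce.card_ne_zero_complex (↥D.K)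
      push_cast
      field_simp
      ring
    rw [hsub, classInner_sub_right, hcol j (D.psi_trivL χ₀), hcol ψ hψ] at hin
    have hin' : (A + q * b j) - (A + q * b ψ) = (q : ℤ) := by exact_mod_cast hin
    have hq0 : (q : ℤ) ≠ 0 := by omega
    exact mul_left_cancel₀ hq0 (by linarith : (q : ℤ) * b j = q * (b ψ + 1))
  -- a second nontrivial column
  let L := (Finset.univ : Finset (↥(D.W₁ ⊔ D.W₂) →* ℂˣ)).filter
    fun ψ => H43.TrivL ψ ∧ ψ ≠ 1 ∧ ψ ≠ j
  have hj1 : j ≠ 1 := hg.psi_ne_one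
  have hLcard : L.card + 2 = p := by
    have he : L = ((((Finset.univ : Finset (↥(D.W₁ ⊔ D.W₂) →* ℂˣ))).filter H43.TrivL).erase 1).erase j := by
      ext ψ; simp [L, and_assoc, and_comm, and_left_comm]
    rw [he, card_erase_of_mem (mem_erase.2 ⟨hj1, mem_filter.2 ⟨mem_univ _, D.psi_trivL χ₀⟩⟩),
      card_erase_of_mem (mem_filter.2 ⟨mem_univ _, H43.trivL_one⟩)]
    have : ((Finset.univ : Finset (↥(D.W₁ ⊔ D.W₂) →* ℂˣ)).filter H43.TrivL).card = p := by
      rw [hp, ← (PF3.card_trivR_trivL D.hW).2, ← Fintype.card_coe, ← Nat.card_eq_fintype_card]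
      exact Nat.card_congr (Equiv.subtypeEquivRight fun ψ => by simp)
    omega
  obtain ⟨k₀, hk₀⟩ : L.Nonempty := card_pos.1 (by omega)
  obtain ⟨hk₀L, hk₀1, hk₀j⟩ := (mem_filter.1 hk₀).2
  set s := b k₀ with hs
  have hbj : b j = s + 1 := hstep k₀ hk₀L hk₀1 hk₀j
  have hbL : ∀ ψ ∈ L, b ψ = s := fun ψ hψ => by
    obtain ⟨h1, h2, h3⟩ := (mem_filter.1 hψ).2
    have := hstep ψ h1 h2 h3
    omega
  set m : ℤ := (L.card : ℤ) with hm
  have hm1 : 1 ≤ m := by omega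
  let f : (↥(D.W₁ ⊔ D.W₂) →* ℂˣ) → ℤ := fun φ =>
    b φ ^ 2 + (b φ + s + 1) ^ 2 + m * (b φ + s) ^ 2
  have hsum : ∑ φ ∈ R, f φ ≤ (q : ℤ) := by
    refine le_trans ?_ hlt
    have hmap : ∀ φ ∈ R, f φ = ∑ ψ ∈ insert 1 (insert j L), b (φ * ψ) ^ 2 := by
      intro φ hφ
      have hφ' := D.mem_rowSet.1 hφ
      have hjL : j ∉ L := fun h => ((mem_filter.1 h).2.2.2) rfl
      have h1L : (1 : ↥(D.W₁ ⊔ D.W₂) →* ℂˣ) ∉ insert j L := by
        simp [L, Ne.symm hj1]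
      rw [sum_insert h1L, sum_insert hjL, hrel φ 1 hφ' H43.trivL_one, hb1, add_zero,
        hrel φ j hφ' (D.psi_trivL χ₀), hbj, sum_congr rfl fun ψ hψ => by
          rw [hrel φ ψ hφ' (mem_filter.1 hψ).2.1, hbL ψ hψ], sum_const, nsmul_eq_mul]
      simp only [f]
      ring
    rw [sum_congr rfl hmap, ← sum_product']
    rw [← sum_image (g := fun x : (↥(D.W₁ ⊔ D.W₂) →* ℂˣ) × (↥(D.W₁ ⊔ D.W₂) →* ℂˣ) => x.1 * x.2)
      (f := fun ω => b ω ^ 2)]
    · exact sum_le_sum_of_subset_of_nonneg (subset_univ _) fun ω _ _ => sq_nonneg _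
    · intro x hx y hy e
      simp only [mem_coe, mem_product, mem_insert] at hx hy
      have hL' : ∀ ψ, ψ = 1 ∨ ψ = j ∨ ψ ∈ L → H43.TrivL ψ := by
        rintro ψ (rfl | rfl | h)
        exacts [H43.trivL_one, D.psi_trivL χ₀, (mem_filter.1 h).2.1]
      obtain ⟨e1, e2⟩ := H43.factor_unique D.hW (D.mem_rowSet.1 hx.1) (D.mem_rowSet.1 hy.1)
        (hL' _ hx.2) (hL' _ hy.2) e
      exact Prod.ext e1 e2
  have h1R : (1 : ↥(D.W₁ ⊔ D.W₂) →* ℂˣ) ∈ R := D.mem_rowSet.2 H43.trivR_one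
  have hRcard : R.card = q := D.card_rowSet
  have hall : ∀ φ ∈ R, f φ = 1 := by
    intro φ hφ
    have h2 : ∑ η ∈ R.erase φ, (1 : ℤ) ≤ ∑ η ∈ R.erase φ, f η :=
      sum_le_sum fun η _ => row_ge m hm1 s (b η)
    rw [sum_const, card_erase_of_mem hφ, hRcard, nsmul_eq_mul, mul_one] at h2
    have h3 := add_sum_erase R f hφ
    have := row_ge m hm1 s (b φ)
    simp only [f] at h3 h2 hsum ⊢
    omega
  have hb0 : ∀ φ ∈ R, b φ = 0 ∧ (s = 0 ∨ (s = -1 ∧ m = 1)) := by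
    intro φ hφ
    have h := hall φ hφ
    simp only [f] at h
    by_cases hs0 : s = 0
    · refine ⟨?_, Or.inl hs0⟩
      by_contra hr
      have : 1 ≤ b φ ^ 2 := by nlinarith [Int.one_le_abs hr, sq_abs (b φ)]
      rw [hs0] at h
      nlinarith [sq_nonneg (b φ + 1)]
    · by_contra hc
      have := row_ge_two m hm1 s (b φ) hs0 fun h1 h2 => by
        by_contra hm2
        exact hc ⟨h2, Or.inr ⟨h1, by omega⟩⟩
      omega
  rcases (hb0 1 h1R).2 with hs0 | ⟨hs1, hm1'⟩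
  · refine ⟨1, j, ⟨D.psi_trivL χ₀, hj1, Or.inl ⟨rfl, rfl⟩⟩, fun φ ψ hφ hψ => ?_⟩
    rw [hb, hrel φ ψ hφ hψ, (hb0 φ (D.mem_rowSet.2 hφ)).1, zero_add]
    by_cases e : ψ = j
    · subst e
      rw [if_pos rfl, hbj, hs0]
      norm_num
    · rw [if_neg e]
      by_cases e1 : ψ = 1
      · rw [e1, hb1]; simp
      · rw [hbL ψ (mem_filter.2 ⟨mem_univ _, hψ, e1, e⟩), hs0]; simp
  · have hL1 : ∀ ψ ∈ L, ψ = k₀ := fun ψ hψ =>
      card_le_one.1 (show L.card ≤ 1 by omega) ψ hψ k₀ hk₀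
    refine ⟨-1, k₀, ⟨hk₀L, hk₀1, Or.inr ⟨rfl, hk₀j, fun ψ h1 h2 h3 => ?_⟩⟩, fun φ ψ hφ hψ => ?_⟩
    · by_contra e
      exact h3 (hL1 ψ (mem_filter.2 ⟨mem_univ _, h1, h2, e⟩))
    rw [hb, hrel φ ψ hφ hψ, (hb0 φ (D.mem_rowSet.2 hφ)).1, zero_add]
    by_cases e : ψ = k₀
    · subst e
      rw [if_pos rfl, ← hs, hs1]
    · rw [if_neg e]
      by_cases e1 : ψ = 1
      · rw [e1, hb1]; simp
      · have : ψ = j := by
          by_contra e'
          exact e (hL1 ψ (mem_filter.2 ⟨mem_univ _, hψ, e1, e'⟩))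
        rw [this, hbj, hs1]; simp

variable (χ) in
/-- The signed irreducible character of a free character. -/
noncomputable def freeChar (χ₀ : ↥D.K →* ℂˣ) (σ : ℤ) (ψ₁ : ↥(D.W₁ ⊔ D.W₂) →* ℂˣ)
    (θ : ↥D.K →* ℂˣ) : G → ℂ := (σ : ℂ) • D.col χ ψ₁ - D.diff χ₀ θ

open scoped Classical in
/-- The free characters: a uniform column and signed irreducibles orthogonal to the grid. -/
theorem exists_free (hD : D.Regular) (hχ : Cfsg.IsCyclicTIFamily D.W₁ D.W₂ χ) (hg : D.Good χ₀)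
    {θ₀ : ↥D.K →* ℂˣ} (hf : D.Free θ₀) :
    ∃ σ ψ₁, D.IsColumn χ₀ σ ψ₁ ∧ ∀ θ, D.Free θ →
      (∀ φ ψ, H43.TrivR φ → H43.TrivL ψ →
        Cfsg.classInner (D.diff χ₀ θ) (χ (φ * ψ)) = if ψ = ψ₁ then (σ : ℂ) else 0) ∧
      H43.Signed (D.freeChar χ χ₀ σ ψ₁ θ) ∧
      (∀ ω, Cfsg.classInner (D.freeChar χ χ₀ σ ψ₁ θ) (χ ω) = 0) ∧
      ∀ θ', D.Free θ' → D.NConj θ θ' →
        Cfsg.classInner (D.freeChar χ χ₀ σ ψ₁ θ) (D.freeChar χ χ₀ σ ψ₁ θ') = 0 := by
  classical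
  obtain ⟨σ, ψ₁, hc, hco⟩ := D.exists_column hD hχ hg hf
  have hσ : σ * σ = 1 := by
    rcases hc.cases with ⟨h, -⟩ | ⟨h, -⟩ <;> rw [h] <;> rfl
  have hco' : ∀ θ, D.Free θ → ∀ φ ψ, H43.TrivR φ → H43.TrivL ψ →
      Cfsg.classInner (D.diff χ₀ θ) (χ (φ * ψ)) = if ψ = ψ₁ then (σ : ℂ) else 0 :=
    fun θ hθ φ ψ hφ hψ => (D.diff_eta hD hχ hg hf hθ _).trans (hco φ ψ hφ hψ)
  have hcolE : ∀ θ, D.Free θ → Cfsg.classInner (D.diff χ₀ θ) (D.col χ ψ₁)
      = (Nat.card D.W₁ : ℂ) * σ := by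
    intro θ hθ
    rw [col, classInner_sum_right, sum_congr rfl fun φ hφ => by
      rw [hco' θ hθ φ ψ₁ (D.mem_rowSet.1 hφ) hc.trivL, if_pos rfl], sum_const, D.card_rowSet,
      nsmul_eq_mul]
  have hcc : Cfsg.classInner (D.col χ ψ₁) (D.col χ ψ₁) = (Nat.card D.W₁ : ℂ) := by
    conv_lhs => arg 2; rw [col]
    rw [classInner_sum_right, sum_congr rfl fun φ hφ => by
      rw [D.inner_col hχ (D.mem_rowSet.1 hφ) hc.trivL hc.trivL, if_pos rfl], sum_const,
      D.card_rowSet, nsmul_eq_mul, mul_one]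
  have hinner : ∀ θ θ', D.Free θ → D.Free θ' →
      Cfsg.classInner (D.freeChar χ χ₀ σ ψ₁ θ) (D.freeChar χ χ₀ σ ψ₁ θ')
        = (D.num θ θ' : ℂ) / (Nat.card D.K : ℂ) := by
    intro θ θ' hθ hθ'
    have hσc : (σ : ℂ) * σ = 1 := by exact_mod_cast hσ
    rw [freeChar, freeChar, classInner_sub_left, classInner_sub_right, classInner_sub_right,
      classInner_smul_left, classInner_smul_left, classInner_smul_right, classInner_smul_right,
      hcc, hcolE θ hθ, ← classInner_conj_symm (D.diff χ₀ θ') (D.col χ ψ₁), hcolE θ' hθ',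
      D.diff_inner hD hg hθ hθ', map_intCast, map_mul, map_intCast, map_natCast]
    linear_combination (-(Nat.card D.W₁ : ℂ)) * hσc
  refine ⟨σ, ψ₁, hc, fun θ hθ => ⟨hco' θ hθ, ?_, fun ω => ?_, fun θ' hθ' hn => ?_⟩⟩
  · refine H43.signed_of_norm_one ?_ ?_
    · refine H43.gen_sub ?_ (D.diff_gen _ _)
      rw [Int.cast_smul_eq_zsmul]
      exact H43.gen_zsmul (H43.gen_sum _ _ fun φ _ => H43.Signed.gen (hχ.irr_or_neg _)) σ
    · rw [hinner θ θ hθ hθ, D.num_free hθ, div_self (CharInduce.card_ne_zero_complex _)]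
  · obtain ⟨φ, ψ, hφ, hψ, rfl⟩ := H43.exists_factor D.hW ω
    rw [freeChar, classInner_sub_left, classInner_smul_left, D.inner_col hχ hφ hψ hc.trivL,
      hco' θ hθ φ ψ hφ hψ]
    split_ifs <;> simp
  · rw [hinner θ θ' hθ hθ', D.num_eq_zero hn.symm, Nat.cast_zero, zero_div]

end Side

end Cfsg.Agent.OddOrder.PF14
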